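import Mathlib

set_option autoImplicit false

namespace Cfsg.Agent.Lib.Helper42

/-- the index of the centraliser is the size of the conjugacy class -/
theorem index_centralizer_eq_ncard {G : Type*} [Group G] (g : G) :
    (Subgroup.centralizer ({g} : Set G)).index = {h : G | IsConj g h}.ncard := by
  have h1 := MulAction.index_stabilizer (ConjAct G) g
  rw [ConjAct.stabilizer_eq_centralizer, ConjAct.orbit_eq_carrier_conjClasses] at h1
  have h2 : (ConjClasses.mk g).carrier = {h : G | IsConj g h} := by
    ext h
    rw [ConjClasses.mem_carrier_iff_mk_eq, ConjClasses.mk_eq_mk_iff_isConj, Set.mem_ofPred_eq]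
    exact isConj_comm
  rw [h2] at h1
  exact h1

/-- transport of class sizes along an isomorphism -/
theorem index_centralizer_mulEquiv {G H : Type*} [Group G] [Group H] (e : G ≃* H) (g : G) :
    (Subgroup.centralizer ({e g} : Set H)).index = (Subgroup.centralizer ({g} : Set G)).index := by
  rw [index_centralizer_eq_ncard, index_centralizer_eq_ncard]
  have : {h : H | IsConj (e g) h} = e '' {h : G | IsConj g h} := by
    ext h
    constructor
    · intro hh
      refine ⟨e.symm h, ?_, by simp⟩
      have := e.symm.toMonoidHom.map_isConj hh
      simpa using this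
    · rintro ⟨h', hh', rfl⟩
      exact e.toMonoidHom.map_isConj hh'
  rw [this, Set.ncard_image_of_injective _ e.injective]

end Cfsg.Agent.Lib.Helper42
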