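import Mathlib
import Cfsg.Agent.Lib.Helper41.SL2Conj

set_option autoImplicit false

namespace Cfsg.Agent.Lib.Helper42

open Matrix Cfsg.Agent.Lib.Helper41

variable {F : Type*} [Field F]

/-- the quadratic form `v ↦ det [v | M v]` -/
def Dform (M : SpecialLinearGroup (Fin 2) F) (x y : F) : F :=
  (M : Matrix (Fin 2) (Fin 2) F) 1 0 * x ^ 2 +
      ((M : Matrix (Fin 2) (Fin 2) F) 1 1 - (M : Matrix (Fin 2) (Fin 2) F) 0 0) * x * y -
      (M : Matrix (Fin 2) (Fin 2) F) 0 1 * y ^ 2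

theorem Dform_smul (M : SpecialLinearGroup (Fin 2) F) (l x y : F) :
    Dform M (l * x) (l * y) = l ^ 2 * Dform M x y := by
  unfold Dform; ring

theorem exists_Dform_ne_zero (M : SpecialLinearGroup (Fin 2) F)
    (h : ¬ ((M : Matrix (Fin 2) (Fin 2) F) = 1 ∨ (M : Matrix (Fin 2) (Fin 2) F) = -1)) :
    ∃ x y, Dform M x y ≠ 0 := by
  by_cases hc : (M : Matrix (Fin 2) (Fin 2) F) 1 0 = 0
  · by_cases hb : (M : Matrix (Fin 2) (Fin 2) F) 0 1 = 0
    · have had : (M : Matrix (Fin 2) (Fin 2) F) 0 0 ≠ (M : Matrix (Fin 2) (Fin 2) F) 1 1 := by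
        rcases sl2_noncentral_entries M h with h1 | h1 | h1
        · exact absurd hc h1
        · exact absurd hb h1
        · exact h1
      refine ⟨1, 1, ?_⟩
      unfold Dform
      rw [hc, hb]
      simpa [sub_eq_zero] using had.symm
    · refine ⟨0, 1, ?_⟩
      unfold Dform
      simpa using hb
  · refine ⟨1, 0, ?_⟩
    unfold Dform
    simpa using hc

theorem isConj_comp' (M : SpecialLinearGroup (Fin 2) F) (x y δ : F) (hδ : δ ≠ 0)
    (h : Dform M x y = δ) :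
    IsConj M (comp' δ (Matrix.trace (M : Matrix (Fin 2) (Fin 2) F)) hδ) := by
  obtain ⟨P, hP⟩ := sl2_conj_comp' M x y δ hδ h
  rw [isConj_comm, isConj_iff]
  exact ⟨P, hP.symm⟩

theorem trace_eq_of_isConj {g h : SpecialLinearGroup (Fin 2) F} (hc : IsConj g h) :
    Matrix.trace (h : Matrix (Fin 2) (Fin 2) F) = Matrix.trace (g : Matrix (Fin 2) (Fin 2) F) := by
  obtain ⟨c, rfl⟩ := isConj_iff.1 hc
  have h1 : ((c * g * c⁻¹ : SpecialLinearGroup (Fin 2) F) : Matrix (Fin 2) (Fin 2) F) =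
      (c : Matrix (Fin 2) (Fin 2) F) * (g : Matrix (Fin 2) (Fin 2) F) *
        ((c⁻¹ : SpecialLinearGroup (Fin 2) F) : Matrix (Fin 2) (Fin 2) F) := rfl
  have h2 : ((c⁻¹ : SpecialLinearGroup (Fin 2) F) : Matrix (Fin 2) (Fin 2) F) *
      (c : Matrix (Fin 2) (Fin 2) F) = 1 := congrArg Subtype.val (inv_mul_cancel c)
  rw [h1, Matrix.trace_mul_cycle, h2, one_mul]

theorem trace_comp' (δ s : F) (hδ : δ ≠ 0) :
    Matrix.trace (comp' δ s hδ : Matrix (Fin 2) (Fin 2) F) = s := by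
  rw [comp'_coe, Matrix.trace_fin_two_of]; ring

theorem Dform_comp' (δ s : F) (hδ : δ ≠ 0) (x y : F) :
    Dform (comp' δ s hδ) x y = δ * x ^ 2 + s * x * y + δ⁻¹ * y ^ 2 := by
  unfold Dform
  rw [comp'_coe]
  simp

end Cfsg.Agent.Lib.Helper42
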