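import Mathlib

set_option autoImplicit false

namespace Cfsg.Agent.Lib.Helper42

open Matrix

variable {F : Type*} [Field F] [Fintype F] [DecidableEq F]

/-- number of roots of `a (t - a) = 1`, i.e. of `X^2 - t X + 1` -/
def rootCount (t : F) : ℕ := (Finset.univ.filter fun a : F => a * (t - a) = 1).card

theorem roots_eq (t a : F) (ha : a * (t - a) = 1) :
    (Finset.univ.filter fun x : F => x * (t - x) = 1) = {a, t - a} := by
  ext x
  simp only [Finset.mem_filter, Finset.mem_univ, true_and, Finset.mem_insert, Finset.mem_singleton]
  constructor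
  · intro hx
    have h : (x - a) * (x - (t - a)) = 0 := by linear_combination ha - hx
    rcases mul_eq_zero.1 h with h | h
    · left; exact sub_eq_zero.1 h
    · right; exact sub_eq_zero.1 h
  · rintro (rfl | rfl)
    · exact ha
    · linear_combination ha

theorem rootCount_eq_two (t a : F) (ha : a * (t - a) = 1) (hne : a ≠ t - a) : rootCount t = 2 := by
  rw [rootCount, roots_eq t a ha, Finset.card_pair hne]

theorem rootCount_eq_one (t a : F) (ha : a * (t - a) = 1) (he : a = t - a) : rootCount t = 1 := by
  rw [rootCount, roots_eq t a ha, ← he]; simp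

theorem rootCount_eq_zero (t : F) (h : ∀ a : F, a * (t - a) ≠ 1) : rootCount t = 0 := by
  rw [rootCount, Finset.card_eq_zero, Finset.filter_eq_empty_iff]
  intro a _
  exact h a

theorem card_mul_eq (s : F) :
    (Finset.univ.filter fun p : F × F => p.1 * p.2 = s).card =
      (Fintype.card F - 1) + if s = 0 then Fintype.card F else 0 := by
  rw [Finset.card_filter, Fintype.sum_prod_type]
  have h1 : ∀ b : F, (∑ c : F, if b * c = s then 1 else 0) =
      if b = 0 then (if s = 0 then Fintype.card F else 0) else 1 := by
    intro b
    by_cases hb : b = 0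
    · subst hb
      simp only [zero_mul, if_true]
      by_cases hs : s = 0
      · subst hs; simp
      · simp [hs, Ne.symm hs]
    · rw [if_neg hb]
      have : ∀ c : F, (b * c = s) ↔ (c = b⁻¹ * s) := by
        intro c
        constructor
        · intro h; rw [← h]; field_simp
        · intro h; rw [h]; field_simp
      simp only [this]
      simp
  simp only [h1]
  rw [Finset.sum_ite, Finset.sum_const, Finset.sum_const]
  have h2 : (Finset.univ.filter fun b : F => b = 0).card = 1 := by
    rw [Finset.filter_eq' Finset.univ (0 : F)]; simp
  have h3 : (Finset.univ.filter fun b : F => ¬ b = 0).card = Fintype.card F - 1 := by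
    have := Finset.card_filter_add_card_filter_not (s := (Finset.univ : Finset F)) (fun b : F => b = 0)
    rw [h2, Finset.card_univ] at this
    omega
  rw [h2, h3]
  simp [add_comm]

theorem card_triples (t : F) :
    (Finset.univ.filter fun p : F × F × F => p.1 * (t - p.1) - p.2.1 * p.2.2 = 1).card =
      Fintype.card F * (Fintype.card F - 1) + Fintype.card F * rootCount t := by
  rw [Finset.card_filter, Fintype.sum_prod_type]
  have h1 : ∀ a : F, (∑ y : F × F, if a * (t - a) - y.1 * y.2 = 1 then 1 else 0) =
      (Fintype.card F - 1) + if a * (t - a) = 1 then Fintype.card F else 0 := by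
    intro a
    rw [← Finset.card_filter]
    have h2 := card_mul_eq (a * (t - a) - 1)
    rw [show (Finset.univ.filter fun y : F × F => a * (t - a) - y.1 * y.2 = 1) =
      (Finset.univ.filter fun p : F × F => p.1 * p.2 = a * (t - a) - 1) by
        ext y
        simp only [Finset.mem_filter, Finset.mem_univ, true_and]
        constructor
        · intro h; linear_combination -h
        · intro h; linear_combination -h, h2]
    simp only [sub_eq_zero]
  simp only [h1]
  rw [Finset.sum_add_distrib, Finset.sum_const, Finset.card_univ, smul_eq_mul, ← Finset.sum_filter,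
    Finset.sum_const, smul_eq_mul, rootCount, mul_comm _ (Fintype.card F)]

theorem ncard_trace (t : F) :
    {M : SpecialLinearGroup (Fin 2) F | Matrix.trace (M : Matrix (Fin 2) (Fin 2) F) = t}.ncard =
      Fintype.card F * (Fintype.card F - 1) + Fintype.card F * rootCount t := by
  rw [← card_triples t, ← Set.ncard_coe_finset]
  symm
  apply Set.ncard_congr (fun p hp => (⟨!![p.1, p.2.1; p.2.2, t - p.1], by
    simp only [Finset.coe_filter, Finset.mem_univ, true_and, Set.mem_ofPred_eq] at hp
    rw [Matrix.det_fin_two_of]; exact hp⟩ : SpecialLinearGroup (Fin 2) F))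
  · intro p hp
    change Matrix.trace !![p.1, p.2.1; p.2.2, t - p.1] = t
    rw [Matrix.trace_fin_two_of]; ring
  · intro p p' hp hp' h
    have h1 := congrArg Subtype.val h
    have e1 := congrFun (congrFun h1 0) 0
    have e2 := congrFun (congrFun h1 0) 1
    have e3 := congrFun (congrFun h1 1) 0
    simp at e1 e2 e3
    exact Prod.ext e1 (Prod.ext e2 e3)
  · intro M hM
    change Matrix.trace (M : Matrix (Fin 2) (Fin 2) F) = t at hM
    have hdet := M.2
    rw [Matrix.det_fin_two] at hdet
    rw [Matrix.trace_fin_two] at hM
    refine ⟨(M.1 0 0, M.1 0 1, M.1 1 0), ?_, ?_⟩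
    · simp only [Finset.coe_filter, Finset.mem_univ, true_and, Set.mem_ofPred_eq]
      rw [← hM]; linear_combination hdet
    · apply Subtype.ext
      ext i j
      fin_cases i <;> fin_cases j <;> simp [← hM]

end Cfsg.Agent.Lib.Helper42
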