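import Mathlib
import Cfsg.Agent.Lib.Helper42.SL2Class
import Cfsg.Agent.Lib.Helper42.SL2Count
import Cfsg.Agent.Lib.Helper42.ClassSize
import Cfsg.Agent.Lib.Helper5.LinearCard

set_option autoImplicit false

namespace Cfsg.Agent.Lib.Helper42

open Matrix Cfsg.Agent.Lib.Helper41

/-- counting lemma for two-to-one maps -/
theorem ncard_two_to_one {α β : Type*} (f : α → β) (σ : α → α) (s : Set α) (hs : s.Finite)
    (hσ : ∀ a ∈ s, σ a ∈ s) (hne : ∀ a ∈ s, σ a ≠ a)
    (hf : ∀ a ∈ s, ∀ a' ∈ s, f a' = f a ↔ (a' = a ∨ a' = σ a)) :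
    s.ncard = 2 * (f '' s).ncard := by
  classical
  lift s to Finset α using hs
  rw [Set.ncard_coe_finset, ← Finset.coe_image, Set.ncard_coe_finset,
    Finset.card_eq_sum_card_image f s]
  rw [Finset.sum_const_nat (m := 2), mul_comm]
  intro b hb
  obtain ⟨a, ha, rfl⟩ := Finset.mem_image.1 hb
  have : (s.filter fun a' => f a' = f a) = {a, σ a} := by
    ext a'
    simp only [Finset.mem_filter, Finset.mem_insert, Finset.mem_singleton]
    constructor
    · rintro ⟨h1, h2⟩
      exact (hf a ha a' h1).1 h2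
    · rintro (rfl | rfl)
      · exact ⟨ha, rfl⟩
      · exact ⟨hσ a ha, (hf a ha _ (hσ a ha)).2 (Or.inr rfl)⟩
  rw [this, Finset.card_pair (hne a ha).symm]

variable {F : Type*} [Field F]

theorem class_mk (g : SpecialLinearGroup (Fin 2) F) :
    {x : ProjectiveSpecialLinearGroup (Fin 2) F | IsConj (QuotientGroup.mk g) x} =
      (fun h : SpecialLinearGroup (Fin 2) F =>
        (QuotientGroup.mk h : ProjectiveSpecialLinearGroup (Fin 2) F)) '' {h | IsConj g h} := by
  ext x
  constructor
  · intro hx
    obtain ⟨c, hc⟩ := isConj_iff.1 hx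
    obtain ⟨c, rfl⟩ := QuotientGroup.mk_surjective c
    exact ⟨c * g * c⁻¹, isConj_iff.2 ⟨c, rfl⟩, hc⟩
  · rintro ⟨h, hh, rfl⟩
    obtain ⟨c, rfl⟩ := isConj_iff.1 hh
    exact isConj_iff.2 ⟨QuotientGroup.mk c, rfl⟩

theorem index_mk_of_trace_ne_zero (h2 : (2 : F) ≠ 0) (g : SpecialLinearGroup (Fin 2) F)
    (ht : Matrix.trace (g : Matrix (Fin 2) (Fin 2) F) ≠ 0) :
    (Subgroup.centralizer ({(QuotientGroup.mk g : ProjectiveSpecialLinearGroup (Fin 2) F)} :
      Set (ProjectiveSpecialLinearGroup (Fin 2) F))).index =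
    (Subgroup.centralizer ({g} : Set (SpecialLinearGroup (Fin 2) F))).index := by
  rw [index_centralizer_eq_ncard, index_centralizer_eq_ncard, class_mk, Set.InjOn.ncard_image]
  intro h hh h' hh' he
  rcases (psl2_mk_eq_iff h h').1 he with h3 | h3
  · exact (Subtype.ext h3).symm
  · exfalso
    have e1 := trace_eq_of_isConj hh
    have e2 := trace_eq_of_isConj hh'
    rw [h3, Matrix.trace_neg, e1] at e2
    apply ht
    have : (2 : F) * Matrix.trace (g : Matrix (Fin 2) (Fin 2) F) = 0 := by linear_combination -e2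
    exact (mul_eq_zero.1 this).resolve_left h2

theorem index_mk_of_neg_closed [Finite F] (h2 : (2 : F) ≠ 0) (g : SpecialLinearGroup (Fin 2) F)
    (hneg : ∀ h, IsConj g h → IsConj g (-h)) :
    (Subgroup.centralizer ({g} : Set (SpecialLinearGroup (Fin 2) F))).index =
    2 * (Subgroup.centralizer ({(QuotientGroup.mk g : ProjectiveSpecialLinearGroup (Fin 2) F)} :
      Set (ProjectiveSpecialLinearGroup (Fin 2) F))).index := by
  rw [index_centralizer_eq_ncard, index_centralizer_eq_ncard, class_mk]
  apply ncard_two_to_one _ (fun h => -h) _ (Set.toFinite _) hneg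
  · intro h _ he
    have h3 := congrArg Subtype.val he
    have h4 : (2 : F) • (h : Matrix (Fin 2) (Fin 2) F) = 0 := by
      rw [two_smul]
      nth_rewrite 1 [← h3]
      simp
    have h5 : (h : Matrix (Fin 2) (Fin 2) F) = 0 := (smul_eq_zero.1 h4).resolve_left h2
    have h6 := h.2
    rw [h5] at h6
    simp at h6
  · intro h _ h' _
    rw [psl2_mk_eq_iff h' h]
    constructor
    · rintro (h3 | h3)
      · left; exact (Subtype.ext h3).symm
      · right
        apply Subtype.ext
        rw [SpecialLinearGroup.coe_neg, h3, neg_neg]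
    · rintro (rfl | rfl)
      · left; rfl
      · right; simp

theorem index_eq_of_isConj {G : Type*} [Group G] {g h : G} (hc : IsConj g h) :
    (Subgroup.centralizer ({g} : Set G)).index = (Subgroup.centralizer ({h} : Set G)).index := by
  rw [index_centralizer_eq_ncard, index_centralizer_eq_ncard]
  congr 1
  ext x
  exact ⟨fun hx => hc.symm.trans hx, fun hx => hc.trans hx⟩

section odd
variable [Fintype F]

theorem two_ne_zero_of_odd (hodd : Fintype.card F % 2 = 1) : (2 : F) ≠ 0 := by
  apply Ring.two_ne_zero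
  intro h
  have := FiniteField.even_card_iff_char_two.1 h
  omega

open Polynomial in
theorem exists_norm_eq (hodd : Fintype.card F % 2 = 1) (t e : F) (ht : t ^ 2 ≠ 4) :
    ∃ u y : F, u ^ 2 + t * u * y + y ^ 2 = e := by
  have h2 := two_ne_zero_of_odd hodd
  have hκ : 1 - t ^ 2 / 4 ≠ 0 := by
    intro h
    apply ht
    have h4 : (4 : F) ≠ 0 := by
      have : (4 : F) = 2 * 2 := by norm_num
      rw [this]; exact mul_ne_zero h2 h2
    field_simp at h
    linear_combination -h
  obtain ⟨a, b, hab⟩ := FiniteField.exists_root_sum_quadratic (R := F) (f := X ^ 2)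
    (g := C (1 - t ^ 2 / 4) * X ^ 2 - C e) (degree_X_pow 2)
    (by
      rw [degree_sub_C (by rw [degree_C_mul_X_pow 2 hκ]; norm_num), degree_C_mul_X_pow 2 hκ]
      rfl) hodd
  simp only [eval_pow, eval_X, eval_sub, eval_mul, eval_C] at hab
  refine ⟨a - t * b / 2, b, ?_⟩
  have h4 : (4 : F) = 2 * 2 := by norm_num
  rw [h4] at hab
  field_simp at hab ⊢
  linear_combination hab

theorem noncentral_of_trace (g : SpecialLinearGroup (Fin 2) F)
    (ht : Matrix.trace (g : Matrix (Fin 2) (Fin 2) F) ^ 2 ≠ 4) :
    ¬ ((g : Matrix (Fin 2) (Fin 2) F) = 1 ∨ (g : Matrix (Fin 2) (Fin 2) F) = -1) := by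
  rintro (h | h) <;> apply ht <;> rw [h] <;> simp [Matrix.trace_fin_two] <;> norm_num

theorem isConj_comp'_comp' (hodd : Fintype.card F % 2 = 1) (t δ δ' : F) (hδ : δ ≠ 0) (hδ' : δ' ≠ 0)
    (ht : t ^ 2 ≠ 4) : IsConj (comp' δ t hδ) (comp' δ' t hδ') := by
  obtain ⟨u, y, huy⟩ := exists_norm_eq hodd t (δ * δ') ht
  have h := isConj_comp' (comp' δ t hδ) (u / δ) y δ' hδ' (by
    rw [Dform_comp']
    field_simp
    linear_combination huy)
  rwa [trace_comp'] at h

theorem isConj_of_trace_eq (hodd : Fintype.card F % 2 = 1) (g h : SpecialLinearGroup (Fin 2) F)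
    (ht : Matrix.trace (g : Matrix (Fin 2) (Fin 2) F) ^ 2 ≠ 4)
    (he : Matrix.trace (h : Matrix (Fin 2) (Fin 2) F) = Matrix.trace (g : Matrix (Fin 2) (Fin 2) F)) :
    IsConj g h := by
  obtain ⟨x, y, hxy⟩ := exists_Dform_ne_zero g (noncentral_of_trace g ht)
  obtain ⟨x', y', hxy'⟩ := exists_Dform_ne_zero h (noncentral_of_trace h (he ▸ ht))
  have e1 := isConj_comp' g x y _ hxy rfl
  have e2 := isConj_comp' h x' y' _ hxy' rfl
  rw [he] at e2
  exact (e1.trans (isConj_comp'_comp' hodd _ _ _ hxy hxy' ht)).trans e2.symm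

theorem index_of_trace [DecidableEq F] (hodd : Fintype.card F % 2 = 1)
    (g : SpecialLinearGroup (Fin 2) F)
    (ht : Matrix.trace (g : Matrix (Fin 2) (Fin 2) F) ^ 2 ≠ 4) :
    (Subgroup.centralizer ({g} : Set (SpecialLinearGroup (Fin 2) F))).index =
      Fintype.card F * (Fintype.card F - 1) +
        Fintype.card F * rootCount (Matrix.trace (g : Matrix (Fin 2) (Fin 2) F)) := by
  rw [index_centralizer_eq_ncard, ← ncard_trace]
  congr 1
  ext h
  exact ⟨fun hc => trace_eq_of_isConj hc, fun he => isConj_of_trace_eq hodd g h ht he⟩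

/-- parametrisation of the centraliser of a "unipotent" twisted companion matrix -/
def centElt (δ ε : F) (hε : ε ^ 2 = 1) (p : Bool × F) : SpecialLinearGroup (Fin 2) F :=
  ⟨!![(if p.1 then 1 else -1) + ε * δ * p.2, p.2; -δ ^ 2 * p.2, (if p.1 then 1 else -1) - ε * δ * p.2], by
    rw [Matrix.det_fin_two_of]
    rcases p with ⟨b, x⟩
    cases b <;> simp <;> linear_combination (-δ ^ 2 * x ^ 2) * hε⟩

theorem card_centralizer_comp' (h2 : (2 : F) ≠ 0) (δ ε : F) (hδ : δ ≠ 0) (hε : ε ^ 2 = 1) :
    Nat.card (Subgroup.centralizer ({comp' δ (2 * ε) hδ} : Set (SpecialLinearGroup (Fin 2) F))) =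
      2 * Fintype.card F := by
  have hmem : ∀ p : Bool × F, centElt δ ε hε p ∈
      Subgroup.centralizer ({comp' δ (2 * ε) hδ} : Set (SpecialLinearGroup (Fin 2) F)) := by
    intro p
    rw [Subgroup.mem_centralizer_singleton_iff]
    apply Subtype.ext
    rw [Matrix.SpecialLinearGroup.coe_mul, Matrix.SpecialLinearGroup.coe_mul, comp'_coe]
    simp only [centElt, Matrix.mul_fin_two]
    ext i j
    fin_cases i <;> fin_cases j <;> simp <;> field_simp <;> ring_nf
  have hbij : Function.Bijective (fun p : Bool × F => (⟨centElt δ ε hε p, hmem p⟩ :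
      Subgroup.centralizer ({comp' δ (2 * ε) hδ} : Set (SpecialLinearGroup (Fin 2) F)))) := by
    have h11 : (1 : F) ≠ -1 := by
      intro h
      apply h2
      linear_combination h
    constructor
    · rintro ⟨b, x⟩ ⟨b', x'⟩ h
      have h3 := congrArg (fun z => (z.1 : Matrix (Fin 2) (Fin 2) F)) h
      simp only [centElt] at h3
      have e1 := congrFun (congrFun h3 0) 1
      have e2 := congrFun (congrFun h3 0) 0
      simp at e1 e2
      subst e1
      have e3 : (if b = true then (1 : F) else -1) = if b' = true then 1 else -1 := by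
        linear_combination e2
      cases b <;> cases b' <;> simp at e3 ⊢
      · exact h11 e3.symm
      · exact h11 e3
    · rintro ⟨P, hP⟩
      rw [Subgroup.mem_centralizer_singleton_iff] at hP
      have h3 := congrArg Subtype.val hP
      rw [Matrix.SpecialLinearGroup.coe_mul, Matrix.SpecialLinearGroup.coe_mul, comp'_coe] at h3
      obtain ⟨a, b, c, d, hM⟩ : ∃ a b c d : F, (P : Matrix (Fin 2) (Fin 2) F) = !![a, b; c, d] :=
        ⟨_, _, _, _, Matrix.eta_fin_two _⟩
      have hdet := P.2
      rw [hM] at h3 hdet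
      rw [Matrix.det_fin_two_of] at hdet
      simp only [Matrix.mul_fin_two] at h3
      have e1 := congrFun (congrFun h3 0) 0
      have e2 := congrFun (congrFun h3 0) 1
      simp at e1 e2
      have hc : c = -δ ^ 2 * b := by
        field_simp at e1
        linear_combination e1
      have hd : d = a - 2 * ε * δ * b := by
        field_simp at e2
        linear_combination e2
      have hσ : (a - ε * δ * b) ^ 2 = 1 := by
        rw [hc, hd] at hdet
        linear_combination hdet + (δ ^ 2 * b ^ 2) * hε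
      have hσ' : a - ε * δ * b = 1 ∨ a - ε * δ * b = -1 := sq_eq_one_iff.1 hσ
      rcases hσ' with h | h
      · refine ⟨(true, b), ?_⟩
        apply Subtype.ext
        apply Subtype.ext
        rw [hM]
        simp only [centElt]
        ext i j
        fin_cases i <;> fin_cases j <;> simp
        · linear_combination -h
        · exact hc.symm ▸ by ring
        · rw [hd]; linear_combination -h
      · refine ⟨(false, b), ?_⟩
        apply Subtype.ext
        apply Subtype.ext
        rw [hM]
        simp only [centElt]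
        ext i j
        fin_cases i <;> fin_cases j <;> simp
        · linear_combination -h
        · exact hc.symm ▸ by ring
        · rw [hd]; linear_combination -h
  rw [← Nat.card_congr (Equiv.ofBijective _ hbij), Nat.card_prod, Nat.card_eq_fintype_card,
    Nat.card_eq_fintype_card, Fintype.card_bool]

theorem index_unipotent (hodd : Fintype.card F % 2 = 1) (g : SpecialLinearGroup (Fin 2) F) (ε : F)
    (hε : ε ^ 2 = 1) (ht : Matrix.trace (g : Matrix (Fin 2) (Fin 2) F) = 2 * ε)
    (hnc : ¬ ((g : Matrix (Fin 2) (Fin 2) F) = 1 ∨ (g : Matrix (Fin 2) (Fin 2) F) = -1)) :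
    (Subgroup.centralizer ({g} : Set (SpecialLinearGroup (Fin 2) F))).index =
      (Fintype.card F ^ 2 - 1) / 2 := by
  obtain ⟨x, y, hxy⟩ := exists_Dform_ne_zero g hnc
  have e1 := isConj_comp' g x y _ hxy rfl
  rw [ht] at e1
  rw [index_eq_of_isConj e1]
  have h1 := Subgroup.index_mul_card
    (Subgroup.centralizer ({comp' (Dform g x y) (2 * ε) hxy} : Set (SpecialLinearGroup (Fin 2) F)))
  rw [card_centralizer_comp' (two_ne_zero_of_odd hodd) _ ε hxy hε,
    Cfsg.Agent.Lib.Helper5.card_SL2] at h1
  have hq : 0 < Fintype.card F := Fintype.card_pos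
  have h2 : (Subgroup.centralizer
      ({comp' (Dform g x y) (2 * ε) hxy} : Set (SpecialLinearGroup (Fin 2) F))).index * 2 =
      Fintype.card F ^ 2 - 1 := by
    apply Nat.eq_of_mul_eq_mul_left hq
    rw [← h1]; ring
  omega

theorem sum_rootCount [DecidableEq F] : ∑ t : F, rootCount t = Fintype.card F - 1 := by
  simp only [rootCount, Finset.card_filter]
  rw [Finset.sum_comm]
  have h1 : ∀ a : F, (∑ t : F, if a * (t - a) = 1 then 1 else 0) = if a = 0 then 0 else 1 := by
    intro a
    by_cases ha : a = 0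
    · subst ha; simp
    · rw [if_neg ha]
      have : ∀ t : F, (a * (t - a) = 1) ↔ (t = a + a⁻¹) := by
        intro t
        constructor
        · intro h
          field_simp
          linear_combination h
        · rintro rfl
          field_simp
          ring
      simp only [this]
      simp
  simp only [h1]
  rw [Finset.sum_ite, Finset.sum_const_zero, zero_add, Finset.sum_const, smul_eq_mul, mul_one]
  have h2 : (Finset.univ.filter fun b : F => b = 0).card = 1 := by
    rw [Finset.filter_eq' Finset.univ (0 : F)]; simp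
  have := Finset.card_filter_add_card_filter_not (s := (Finset.univ : Finset F)) (fun b : F => b = 0)
  rw [h2, Finset.card_univ] at this
  omega

theorem rootCount_eq_two_of_root [DecidableEq F] (h2 : (2 : F) ≠ 0) (t a : F) (ha : a * (t - a) = 1)
    (ht : t ^ 2 ≠ 4) : rootCount t = 2 := by
  apply rootCount_eq_two t a ha
  intro he
  apply ht
  have h3 : t = 2 * a := by linear_combination -he
  rw [h3] at ha ⊢
  linear_combination 4 * ha

theorem exists_nonsplit (hodd : Fintype.card F % 2 = 1) (hq : 7 ≤ Fintype.card F) :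
    ∃ t : F, t ≠ 0 ∧ ∀ a : F, a * (t - a) ≠ 1 := by
  classical
  by_contra hcon
  push Not at hcon
  have h2 := two_ne_zero_of_odd hodd
  have h1 : ∀ t ∈ (Finset.univ : Finset F) \ {0, 2, -2}, rootCount t = 2 := by
    intro t ht
    simp only [Finset.mem_sdiff, Finset.mem_univ, true_and, Finset.mem_insert,
      Finset.mem_singleton, not_or] at ht
    obtain ⟨a, ha⟩ := hcon t ht.1
    apply rootCount_eq_two_of_root h2 t a ha
    intro h4
    have : (t - 2) * (t + 2) = 0 := by linear_combination h4
    rcases mul_eq_zero.1 this with h | h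
    · exact ht.2.1 (sub_eq_zero.1 h)
    · exact ht.2.2 (eq_neg_of_add_eq_zero_left h)
  have h3 : ∑ t ∈ (Finset.univ : Finset F) \ {0, 2, -2}, rootCount t ≤ ∑ t : F, rootCount t :=
    Finset.sum_le_sum_of_subset (Finset.subset_univ _)
  rw [Finset.sum_congr rfl h1, sum_rootCount, Finset.sum_const, smul_eq_mul] at h3
  have h4 := Finset.le_card_sdiff ({0, 2, -2} : Finset F) Finset.univ
  have h5 : ({0, 2, -2} : Finset F).card ≤ 3 := Finset.card_le_three
  rw [Finset.card_univ] at h4
  omega

end odd

end Cfsg.Agent.Lib.Helper42
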