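import Mathlib
import Cfsg.Agent.Lib.Helper42.SpecPSL2

/-!
Prime graph of `PSL_n(q)`: commuting elements, the counting lemma.
-/

set_option autoImplicit false
set_option linter.unusedSectionVars false

namespace Cfsg.Agent.Lib.Helper42.PGraphL

open Matrix
open Cfsg.Agent.Lib.Helper42.SpecPSL

variable {F : Type*} [Field F] [Fintype F]

/-- counting lemma: an invariant subspace without fixed vectors -/
theorem orderOf_dvd_finrank {ι : Type*} [Fintype ι] [DecidableEq ι] (r : ℕ) [Fact r.Prime]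
    (B : Matrix ι ι F) (hB : B ^ r = 1)
    (W : Submodule F (ι → F)) (hW : ∀ w ∈ W, B *ᵥ w ∈ W) (hfix : ∀ w ∈ W, B *ᵥ w = w → w = 0) :
    orderOf ((Fintype.card F : ℕ) : ZMod r) ∣ Module.finrank F W := by
  classical
  let f : Function.End W := fun w => ⟨B *ᵥ w.1, hW _ w.2⟩
  have hpow : ∀ (j : ℕ) (w : W), ((f ^ j) w : ι → F) = (B ^ j) *ᵥ w.1 := by
    intro j
    induction j with
    | zero =>
      intro w
      rw [pow_zero, pow_zero, Matrix.one_mulVec]
      rfl
    | succ j ih =>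
      intro w
      rw [pow_succ']
      show B *ᵥ ((f ^ j) w : ι → F) = _
      rw [ih, Matrix.mulVec_mulVec, ← pow_succ']
  have hf : f ^ r ^ 1 = 1 := by
    rw [pow_one]
    funext w
    apply Subtype.ext
    rw [hpow, hB, Matrix.one_mulVec]
    rfl
  have h1 := Equiv.Perm.card_fixedPoints_modEq hf
  have h2 : Fintype.card (Function.fixedPoints f) = 1 := by
    rw [Fintype.card_eq_one_iff]
    refine ⟨⟨0, ?_⟩, ?_⟩
    · show f 0 = 0
      apply Subtype.ext
      show B *ᵥ (0 : ι → F) = 0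
      simp
    · rintro ⟨w, hw⟩
      apply Subtype.ext
      apply Subtype.ext
      have h3 : f w = w := hw
      have h4 := congrArg Subtype.val h3
      exact hfix w.1 w.2 h4
  rw [h2, Module.card_eq_pow_finrank (K := F) (V := W)] at h1
  rw [orderOf_dvd_iff_pow_eq_one, ← Nat.cast_pow]
  have h5 := (ZMod.natCast_eq_natCast_iff _ _ _).mpr h1
  rw [h5, Nat.cast_one]

theorem core {n : ℕ} (r : ℕ) [Fact r.Prime] (hrF : (r : F) ≠ 0)
    (B N : Matrix (Fin n) (Fin n) F) (hB : B ^ r = 1) (hB1 : B ≠ 1) (hN : IsNilpotent N)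
    (hN0 : N ≠ 0) (hc : Commute B N)
    (hk2 : 2 ≤ orderOf ((Fintype.card F : ℕ) : ZMod r)) :
    orderOf ((Fintype.card F : ℕ) : ZMod r) + 2 ≤ n := by
  classical
  set k := orderOf ((Fintype.card F : ℕ) : ZMod r) with hk
  -- reduce to square zero
  obtain ⟨N', hN'0, hN'2, hc'⟩ : ∃ N' : Matrix (Fin n) (Fin n) F, N' ≠ 0 ∧ N' * N' = 0 ∧ Commute B N' := by
    obtain ⟨m, hm⟩ := hN
    have hex : ∃ m, N ^ m = 0 := ⟨m, hm⟩
    set m0 := Nat.find hex with hm0
    have h1 : N ^ m0 = 0 := Nat.find_spec hex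
    have h2 : 2 ≤ m0 := by
      by_contra hlt
      have : m0 = 0 ∨ m0 = 1 := by omega
      rcases this with h | h
      · rw [h, pow_zero] at h1
        apply hN0
        rw [← mul_one N, h1, mul_zero]
      · rw [h, pow_one] at h1
        exact hN0 h1
    refine ⟨N ^ (m0 - 1), Nat.find_min hex (by omega), ?_, hc.pow_right _⟩
    rw [← pow_add]
    have : m0 - 1 + (m0 - 1) = m0 + (m0 - 2) := by omega
    rw [this, pow_add, h1, zero_mul]
  set T : Matrix (Fin n) (Fin n) F := ∑ i ∈ Finset.range r, B ^ i with hT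
  have hTB : Commute B T := by
    rw [hT]
    exact Commute.sum_right _ _ _ (fun i _ => (Commute.refl B).pow_right i)
  have hTN : Commute T N' := by
    rw [hT]
    exact Commute.sum_left _ _ _ (fun i _ => hc'.pow_left i)
  have hT1 : T * (B - 1) = 0 := by
    rw [hT, geom_sum_mul, hB, sub_self]
  set U : Submodule F (Fin n → F) := LinearMap.ker (Matrix.mulVecLin T) with hU
  have memU : ∀ w, w ∈ U ↔ T *ᵥ w = 0 := by
    intro w; rw [hU, LinearMap.mem_ker, Matrix.mulVecLin_apply]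
  have hUB : ∀ w ∈ U, B *ᵥ w ∈ U := by
    intro w hw
    rw [memU] at hw ⊢
    rw [Matrix.mulVec_mulVec, ← hTB.eq, ← Matrix.mulVec_mulVec, hw, Matrix.mulVec_zero]
  have hUN : ∀ w ∈ U, N' *ᵥ w ∈ U := by
    intro w hw
    rw [memU] at hw ⊢
    rw [Matrix.mulVec_mulVec, hTN.eq, ← Matrix.mulVec_mulVec, hw, Matrix.mulVec_zero]
  have hUfix : ∀ w ∈ U, B *ᵥ w = w → w = 0 := by
    intro w hw hBw
    rw [memU] at hw
    have h1 : ∀ i : ℕ, (B ^ i) *ᵥ w = w := by
      intro i
      induction i with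
      | zero => simp
      | succ i ih => rw [pow_succ, ← Matrix.mulVec_mulVec, hBw, ih]
    rw [hT, Matrix.sum_mulVec] at hw
    simp only [h1, Finset.sum_const, Finset.card_range] at hw
    rw [← Nat.cast_smul_eq_nsmul F] at hw
    exact (smul_eq_zero.mp hw).resolve_left hrF
  obtain ⟨u, huU, hu0⟩ : ∃ u ∈ U, u ≠ 0 := by
    by_contra hcon
    push Not at hcon
    apply hB1
    have h1 : B - 1 = 0 := by
      apply Matrix.toLin'.injective
      apply LinearMap.ext
      intro v
      rw [Matrix.toLin'_apply, map_zero, LinearMap.zero_apply]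
      apply hcon
      rw [memU, Matrix.mulVec_mulVec, hT1, Matrix.zero_mulVec]
    exact sub_eq_zero.mp h1
  set Kn : Submodule F (Fin n → F) := LinearMap.ker (Matrix.mulVecLin N') with hKn
  have memK : ∀ w, w ∈ Kn ↔ N' *ᵥ w = 0 := by
    intro w; rw [hKn, LinearMap.mem_ker, Matrix.mulVecLin_apply]
  have hKB : ∀ w ∈ Kn, B *ᵥ w ∈ Kn := by
    intro w hw
    rw [memK] at hw ⊢
    rw [Matrix.mulVec_mulVec, ← hc'.eq, ← Matrix.mulVec_mulVec, hw, Matrix.mulVec_zero]
  set W1 := U ⊓ Kn with hW1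
  have hW1ne : W1 ≠ ⊥ := by
    by_cases h : N' *ᵥ u = 0
    · intro hbot
      have : u ∈ W1 := ⟨huU, (memK u).2 h⟩
      rw [hbot, Submodule.mem_bot] at this
      exact hu0 this
    · intro hbot
      have : N' *ᵥ u ∈ W1 := ⟨hUN u huU, (memK _).2 (by
        rw [Matrix.mulVec_mulVec, hN'2, Matrix.zero_mulVec])⟩
      rw [hbot, Submodule.mem_bot] at this
      exact h this
  have hd1 : k ∣ Module.finrank F W1 :=
    orderOf_dvd_finrank r B hB W1 (fun w hw => ⟨hUB w hw.1, hKB w hw.2⟩) (fun w hw => hUfix w hw.1)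
  have hpos1 : 0 < Module.finrank F W1 := by
    rw [Module.finrank_pos_iff_exists_ne_zero]
    obtain ⟨w, hw, hw0⟩ := Submodule.exists_mem_ne_zero_of_ne_bot hW1ne
    exact ⟨⟨w, hw⟩, fun h => hw0 (congrArg Subtype.val h)⟩
  have hk1 : k ≤ Module.finrank F W1 := Nat.le_of_dvd hpos1 hd1
  set W2 : Submodule F (Fin n → F) := LinearMap.range (Matrix.mulVecLin N') with hW2
  have hsum : Module.finrank F W2 + Module.finrank F Kn = n := by
    have := LinearMap.finrank_range_add_finrank_ker (Matrix.mulVecLin N')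
    rw [Module.finrank_fin_fun] at this
    exact this
  have hW2K : W2 ≤ Kn := by
    rintro _ ⟨v, rfl⟩
    rw [memK, Matrix.mulVecLin_apply, Matrix.mulVec_mulVec, hN'2, Matrix.zero_mulVec]
  have hW2B : ∀ w ∈ W2, B *ᵥ w ∈ W2 := by
    rintro _ ⟨v, rfl⟩
    refine ⟨B *ᵥ v, ?_⟩
    rw [Matrix.mulVecLin_apply, Matrix.mulVecLin_apply, Matrix.mulVec_mulVec, Matrix.mulVec_mulVec,
      hc'.eq]
  have hpos2 : 0 < Module.finrank F W2 := by
    rw [Module.finrank_pos_iff_exists_ne_zero]
    by_contra hcon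
    push Not at hcon
    apply hN'0
    apply Matrix.toLin'.injective
    apply LinearMap.ext
    intro v
    rw [Matrix.toLin'_apply, map_zero, LinearMap.zero_apply]
    have := hcon ⟨N' *ᵥ v, ⟨v, rfl⟩⟩
    exact congrArg Subtype.val this
  have hle1 : Module.finrank F W1 ≤ Module.finrank F Kn := Submodule.finrank_mono inf_le_right
  by_contra hlt
  have hKn1 : Module.finrank F Kn ≤ Module.finrank F W1 := by omega
  have heq : W1 = Kn := Submodule.eq_of_le_of_finrank_le inf_le_right hKn1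
  have hW2U : W2 ≤ U := by
    intro w hw
    have : w ∈ W1 := by rw [heq]; exact hW2K hw
    exact this.1
  have hd2 : k ∣ Module.finrank F W2 :=
    orderOf_dvd_finrank r B hB W2 hW2B (fun w hw => hUfix w (hW2U hw))
  have := Nat.le_of_dvd hpos2 hd2
  omega

end Cfsg.Agent.Lib.Helper42.PGraphL
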