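import Mathlib
import Cfsg.Agent.Lib.Helper42.PGraphL1

/-!
Prime graph of `PSL_n(q)`: reduction from `PSL_n` to matrices, and constructions.
-/

set_option autoImplicit false
set_option linter.unusedSectionVars false

namespace Cfsg.Agent.Lib.Helper42.PGraphL

open Matrix
open Cfsg.Agent.Lib.Helper42.SpecPSL

variable {F : Type*} [Field F] [Fintype F]

theorem not_dvd_card_sub_one (r : ℕ) (hk2 : 2 ≤ orderOf ((Fintype.card F : ℕ) : ZMod r)) :
    ¬ r ∣ Fintype.card F - 1 := by
  intro h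
  have h1 : ((Fintype.card F : ℕ) : ZMod r) = 1 := by
    have h2 : 1 ≤ Fintype.card F := Fintype.card_pos
    have h3 : ((Fintype.card F - 1 : ℕ) : ZMod r) = 0 := (ZMod.natCast_eq_zero_iff _ _).mpr h
    rw [Nat.cast_sub h2, Nat.cast_one, sub_eq_zero] at h3
    exact h3
  rw [h1, orderOf_one] at hk2
  omega

theorem exists_root (r : ℕ) (hr : ¬ r ∣ Fintype.card F - 1) (hrp : r.Prime) (β : F) (hβ : β ≠ 0) :
    ∃ γ : F, γ ≠ 0 ∧ γ ^ r = β := by
  classical
  have hcop : Nat.Coprime (Nat.card Fˣ) r := by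
    rw [Nat.card_eq_fintype_card, Fintype.card_units]
    exact ((Nat.Prime.coprime_iff_not_dvd hrp).mpr hr).symm
  obtain ⟨γ, hγ⟩ := (powCoprime hcop).surjective (Units.mk0 β hβ)
  refine ⟨γ, γ.ne_zero, ?_⟩
  have := congrArg Units.val hγ
  simpa using this

theorem scalar_ne_zero_of_pow {n : ℕ} (hn : 0 < n) (X : Matrix (Fin n) (Fin n) F) (hdet : X.det = 1)
    (j : ℕ) (c : F) (h : X ^ j = Matrix.scalar (Fin n) c) : c ≠ 0 := by
  rintro rfl
  have h1 := congrArg Matrix.det h
  rw [Matrix.det_pow, hdet, one_pow, map_zero] at h1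
  have : Nonempty (Fin n) := ⟨⟨0, hn⟩⟩
  rw [Matrix.det_zero] at h1
  exact one_ne_zero h1

/-- commuting classes in `PSL_n` lift to matrices commuting up to a scalar -/
theorem exists_comm_scalar {n : ℕ} (x y : Matrix.SpecialLinearGroup (Fin n) F)
    (h : Commute (QuotientGroup.mk x : Matrix.ProjectiveSpecialLinearGroup (Fin n) F)
      (QuotientGroup.mk y)) :
    ∃ μ : F, (y : Matrix (Fin n) (Fin n) F) * x = μ • ((x : Matrix (Fin n) (Fin n) F) * y) := by
  have h1 : (QuotientGroup.mk (x * y) : Matrix.ProjectiveSpecialLinearGroup (Fin n) F)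
      = QuotientGroup.mk (y * x) := h
  rw [QuotientGroup.eq, Matrix.SpecialLinearGroup.mem_center_iff] at h1
  obtain ⟨μ, -, hμ⟩ := h1
  refine ⟨μ, ?_⟩
  set z := (x * y)⁻¹ * (y * x) with hz
  have h2 : y * x = (x * y) * z := by rw [hz]; group
  have h3 : ((y * x : Matrix.SpecialLinearGroup (Fin n) F) : Matrix (Fin n) (Fin n) F)
      = ((x * y : Matrix.SpecialLinearGroup (Fin n) F) : Matrix (Fin n) (Fin n) F) * (z : Matrix (Fin n) (Fin n) F) := by
    rw [← Matrix.SpecialLinearGroup.coe_mul, ← h2]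
  rw [Matrix.SpecialLinearGroup.coe_mul, Matrix.SpecialLinearGroup.coe_mul, ← hμ] at h3
  rw [h3]
  show _ * algebraMap F (Matrix (Fin n) (Fin n) F) μ = _
  rw [Algebra.smul_def, Algebra.commutes]

theorem psl_core (p : ℕ) [Fact p.Prime] [CharP F p] {n : ℕ}
    (a b : Matrix.ProjectiveSpecialLinearGroup (Fin n) F) (ha : orderOf a = p) (r : ℕ) [Fact r.Prime]
    (hrp : r ≠ p) (hb : orderOf b = r) (hab : Commute a b)
    (hk2 : 2 ≤ orderOf ((Fintype.card F : ℕ) : ZMod r)) :
    orderOf ((Fintype.card F : ℕ) : ZMod r) + 2 ≤ n := by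
  classical
  have hp : p.Prime := Fact.out
  have hr : r.Prime := Fact.out
  obtain ⟨x, rfl⟩ := QuotientGroup.mk_surjective a
  obtain ⟨y, rfl⟩ := QuotientGroup.mk_surjective b
  set X : Matrix (Fin n) (Fin n) F := x.1 with hX
  set Y : Matrix (Fin n) (Fin n) F := y.1 with hY
  have hn : 0 < n := by
    rcases Nat.eq_zero_or_pos n with rfl | h
    · exfalso
      have : (QuotientGroup.mk x : Matrix.ProjectiveSpecialLinearGroup (Fin 0) F) = 1 := by
        have : x = 1 := Subsingleton.elim _ _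
        rw [this]; rfl
      rw [this, orderOf_one] at ha
      exact hp.one_lt.ne ha
    · exact h
  obtain ⟨l, hl⟩ := (mk_pow_eq_one_iff x p).mp (by rw [← ha, pow_orderOf_eq_one])
  obtain ⟨β, hβ⟩ := (mk_pow_eq_one_iff y r).mp (by rw [← hb, pow_orderOf_eq_one])
  have hXs : ∀ c : F, X ≠ Matrix.scalar (Fin n) c := by
    intro c hc
    have : (QuotientGroup.mk x : Matrix.ProjectiveSpecialLinearGroup (Fin n) F) ^ 1 = 1 :=
      (mk_pow_eq_one_iff x 1).mpr ⟨c, by rw [pow_one]; exact hc⟩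
    have h1 := orderOf_dvd_of_pow_eq_one this
    rw [ha] at h1
    exact hp.one_lt.ne' (Nat.dvd_one.mp h1)
  have hYs : ∀ c : F, Y ≠ Matrix.scalar (Fin n) c := by
    intro c hc
    have : (QuotientGroup.mk y : Matrix.ProjectiveSpecialLinearGroup (Fin n) F) ^ 1 = 1 :=
      (mk_pow_eq_one_iff y 1).mpr ⟨c, by rw [pow_one]; exact hc⟩
    have h1 := orderOf_dvd_of_pow_eq_one this
    rw [hb] at h1
    exact hr.one_lt.ne' (Nat.dvd_one.mp h1)
  have hl0 : l ≠ 0 := scalar_ne_zero_of_pow hn X x.2 p l hl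
  have hβ0 : β ≠ 0 := scalar_ne_zero_of_pow hn Y y.2 r β hβ
  -- the commutator scalar is trivial
  obtain ⟨μ, hμ⟩ := exists_comm_scalar x y hab
  have hpow : ∀ j : ℕ, Y * X ^ j = μ ^ j • (X ^ j * Y) := by
    intro j
    induction j with
    | zero => simp
    | succ j ih =>
      rw [pow_succ, ← mul_assoc, ih, Matrix.smul_mul, mul_assoc, hμ, Matrix.mul_smul, smul_smul,
        ← mul_assoc, ← pow_succ μ]
  have hμ1 : μ = 1 := by
    have h1 := hpow p
    rw [hl] at h1
    have h2 : Y * Matrix.scalar (Fin n) l = l • Y := by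
      show _ * algebraMap F (Matrix (Fin n) (Fin n) F) l = _
      rw [Algebra.smul_def, Algebra.commutes]
    have h3 : Matrix.scalar (Fin n) l * Y = l • Y := by
      show algebraMap F (Matrix (Fin n) (Fin n) F) l * _ = _
      rw [Algebra.smul_def]
    rw [h2, h3, smul_smul] at h1
    have hY0 : Y ≠ 0 := by
      intro h
      apply hYs 0
      rw [h, map_zero]
    have h4 : (l - μ ^ p * l) • Y = 0 := by rw [sub_smul, ← h1, sub_self]
    have h5 : l - μ ^ p * l = 0 := (smul_eq_zero.mp h4).resolve_right hY0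
    have h6 : μ ^ p ^ 1 = 1 := by
      rw [pow_one]
      have : (1 - μ ^ p) * l = 0 := by linear_combination h5
      have := (mul_eq_zero.mp this).resolve_right hl0
      exact (sub_eq_zero.mp this).symm
    exact eq_one_of_pow_char_pow p μ 1 h6
  rw [hμ1, one_smul] at hμ
  have hcYX : Commute Y X := hμ
  -- the nilpotent part
  obtain ⟨ν, hν⟩ : ∃ ν : F, ν ^ p = l := by
    have hinj : Function.Injective (frobenius F p) := frobenius_inj F p
    obtain ⟨ν, hν⟩ := (Finite.injective_iff_surjective.mp hinj) l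
    exact ⟨ν, hν⟩
  set N := X - Matrix.scalar (Fin n) ν with hN
  have hcs : ∀ (c : F) (Z : Matrix (Fin n) (Fin n) F), Commute Z (Matrix.scalar (Fin n) c) := by
    intro c Z
    exact (Algebra.commutes c Z).symm
  have hNnil : IsNilpotent N := by
    refine ⟨p, ?_⟩
    have : Nonempty (Fin n) := ⟨⟨0, hn⟩⟩
    rw [hN, sub_pow_char_of_commute p (hcs ν X), hl, ← map_pow, hν, sub_self]
  have hN0 : N ≠ 0 := fun h => hXs ν (sub_eq_zero.mp h)
  -- the semisimple part
  obtain ⟨γ, hγ0, hγ⟩ := exists_root r (not_dvd_card_sub_one r hk2) hr β hβ0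
  set B := γ⁻¹ • Y with hB
  have hBr : B ^ r = 1 := by
    rw [hB, smul_pow, hβ, inv_pow, hγ]
    show β⁻¹ • algebraMap F (Matrix (Fin n) (Fin n) F) β = 1
    rw [Algebra.algebraMap_eq_smul_one, smul_smul, inv_mul_cancel₀ hβ0, one_smul]
  have hB1 : B ≠ 1 := by
    intro h
    apply hYs γ
    have : Y = γ • B := by rw [hB, smul_smul, mul_inv_cancel₀ hγ0, one_smul]
    rw [this, h]
    show _ = algebraMap F (Matrix (Fin n) (Fin n) F) γ
    rw [Algebra.algebraMap_eq_smul_one]
  have hc : Commute B N := by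
    rw [hB, hN]
    exact (Commute.sub_right hcYX (hcs ν Y)).smul_left _
  have hrF : (r : F) ≠ 0 := by
    intro h
    rw [CharP.cast_eq_zero_iff F p] at h
    exact hrp ((Nat.prime_dvd_prime_iff_eq hp hr).mp h).symm
  exact core r hrF B N hBr hB1 hNnil hN0 hc hk2

end Cfsg.Agent.Lib.Helper42.PGraphL
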