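import Mathlib
import Cfsg.Agent.Lib.Helper42.PGraphL2

/-!
Prime graph of `PSL_n(q)`: constructions (Singer blocks, block sums).
-/

set_option autoImplicit false
set_option linter.unusedSectionVars false

namespace Cfsg.Agent.Lib.Helper42.PGraphL

open Matrix
open Cfsg.Agent.Lib.Helper42.SpecPSL

variable {F : Type*} [Field F] [Fintype F]

/-- elements of `SL_k(q)` of every order dividing `(q^k - 1)/(q - 1)` -/
theorem exists_sl_order (p : ℕ) [Fact p.Prime] [CharP F p] (k : ℕ) (hk : 0 < k) (m : ℕ)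
    (hm : m ∣ (Fintype.card F ^ k - 1) / (Fintype.card F - 1)) :
    ∃ Y : Matrix (Fin k) (Fin k) F, Y.det = 1 ∧ orderOf Y = m := by
  classical
  have : NeZero k := ⟨hk.ne'⟩
  let K := FiniteField.Extension F p k
  have hK : Module.finrank F K = k := FiniteField.finrank_extension F p k
  let b := Module.finBasisOfFinrankEq F K hK
  let Ψ : K →ₐ[F] Matrix (Fin k) (Fin k) F := Algebra.leftMulMatrix b
  have hΨ : Function.Injective Ψ := Algebra.leftMulMatrix_injective b
  have : Fintype K := Fintype.ofFinite K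
  have hq : 2 ≤ Fintype.card F := Fintype.one_lt_card
  have hcardK : Nat.card K = Fintype.card F ^ k := by
    rw [FiniteField.natCard_extension, Nat.card_eq_fintype_card]
  obtain ⟨ζ, hζ⟩ := IsCyclic.exists_generator (α := Kˣ)
  have hord : orderOf (ζ : K) = Fintype.card F ^ k - 1 := by
    rw [orderOf_units, orderOf_eq_card_of_forall_mem_zpowers hζ, Nat.card_units, hcardK]
  have hdvd : Fintype.card F - 1 ∣ Fintype.card F ^ k - 1 := by
    simpa using Nat.sub_dvd_pow_sub_pow (Fintype.card F) 1 k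
  set w : K := (ζ : K) ^ (Fintype.card F - 1) with hw
  have hnorm : Algebra.norm F w = 1 := by
    apply (algebraMap F K).injective
    rw [FiniteField.algebraMap_norm_eq_pow, map_one, hcardK, Nat.card_eq_fintype_card, hw, ← pow_mul,
      Nat.mul_div_cancel' hdvd, ← hord, pow_orderOf_eq_one]
  have hdet : (Ψ w).det = 1 := by
    rw [← hnorm, Algebra.norm_eq_matrix_det b]
  have how : orderOf w = (Fintype.card F ^ k - 1) / (Fintype.card F - 1) := by
    rw [hw, orderOf_pow_of_dvd (by omega) (by rw [hord]; exact hdvd), hord]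
  have hoΨ : orderOf (Ψ w) = (Fintype.card F ^ k - 1) / (Fintype.card F - 1) := by
    rw [← how]
    exact orderOf_injective (Ψ : K →* Matrix (Fin k) (Fin k) F) hΨ w
  set M := (Fintype.card F ^ k - 1) / (Fintype.card F - 1) with hM
  have hMpos : 0 < M := by
    apply Nat.div_pos (Nat.le_of_dvd _ hdvd) (by omega)
    have : 2 ≤ Fintype.card F ^ k := le_trans hq (Nat.le_self_pow hk.ne' _)
    omega
  obtain ⟨t, ht⟩ := hm
  have ht0 : t ≠ 0 := by rintro rfl; omega
  refine ⟨(Ψ w) ^ t, by rw [Matrix.det_pow, hdet, one_pow], ?_⟩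
  rw [orderOf_pow_of_dvd ht0 (by rw [hoΨ, ht]; exact dvd_mul_left _ _), hoΨ, ht]
  exact Nat.mul_div_cancel _ (Nat.pos_of_ne_zero ht0)

/-- block sum -/
noncomputable def blk (a b : ℕ) :
    Matrix (Fin a) (Fin a) F × Matrix (Fin b) (Fin b) F →* Matrix (Fin (a + b)) (Fin (a + b)) F where
  toFun P := Matrix.reindexAlgEquiv F F (finSumFinEquiv : Fin a ⊕ Fin b ≃ Fin (a + b))
    (Matrix.fromBlocks P.1 0 0 P.2)
  map_one' := by
    simp only [Prod.fst_one, Prod.snd_one, Matrix.fromBlocks_one, map_one]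
  map_mul' P Q := by
    rw [← map_mul, Matrix.fromBlocks_multiply]
    simp

theorem blk_apply (a b : ℕ) (P : Matrix (Fin a) (Fin a) F × Matrix (Fin b) (Fin b) F) :
    blk a b P = Matrix.reindexAlgEquiv F F (finSumFinEquiv : Fin a ⊕ Fin b ≃ Fin (a + b))
      (Matrix.fromBlocks P.1 0 0 P.2) := rfl

theorem blk_injective (a b : ℕ) : Function.Injective (blk (F := F) a b) := by
  intro P Q h
  rw [blk_apply, blk_apply] at h
  have h1 := (Matrix.reindexAlgEquiv F F (finSumFinEquiv : Fin a ⊕ Fin b ≃ Fin (a + b))).injective h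
  rw [Matrix.fromBlocks_inj] at h1
  exact Prod.ext h1.1 h1.2.2.2

theorem blk_det (a b : ℕ) (P : Matrix (Fin a) (Fin a) F × Matrix (Fin b) (Fin b) F) :
    (blk a b P).det = P.1.det * P.2.det := by
  rw [blk_apply, Matrix.det_reindexAlgEquiv, Matrix.det_fromBlocks_zero₂₁]

theorem blk_scalar (a b : ℕ) (c : F) :
    blk a b (Matrix.scalar (Fin a) c, Matrix.scalar (Fin b) c) = Matrix.scalar (Fin (a + b)) c := by
  rw [blk_apply]
  have : Matrix.fromBlocks (Matrix.scalar (Fin a) c) 0 0 (Matrix.scalar (Fin b) c)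
      = algebraMap F (Matrix (Fin a ⊕ Fin b) (Fin a ⊕ Fin b) F) c := by
    rw [Algebra.algebraMap_eq_smul_one, ← Matrix.fromBlocks_one, Matrix.fromBlocks_smul]
    congr 1
    · show algebraMap F (Matrix (Fin a) (Fin a) F) c = _
      rw [Algebra.algebraMap_eq_smul_one]
    · simp
    · simp
    · show algebraMap F (Matrix (Fin b) (Fin b) F) c = _
      rw [Algebra.algebraMap_eq_smul_one]
  rw [this, AlgEquiv.commutes]
  rfl

theorem blk_orderOf (a b : ℕ) (P : Matrix (Fin a) (Fin a) F × Matrix (Fin b) (Fin b) F) :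
    orderOf (blk a b P) = Nat.lcm (orderOf P.1) (orderOf P.2) := by
  rw [orderOf_injective (blk a b) (blk_injective a b) P, Prod.orderOf]

/-- the `2 × 2` Jordan block -/
def J2 (F : Type*) [Field F] : Matrix (Fin 2) (Fin 2) F := !![1, 1; 0, 1]

theorem J2_pow (j : ℕ) : (J2 F) ^ j = !![1, (j : F); 0, 1] := by
  induction j with
  | zero =>
    ext i k
    fin_cases i <;> fin_cases k <;> simp
  | succ j ih =>
    rw [pow_succ, ih, J2]
    ext i k
    fin_cases i <;> fin_cases k <;> simp [Matrix.mul_apply, Fin.sum_univ_two]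
    ring

theorem J2_det : (J2 F).det = 1 := by simp [J2, Matrix.det_fin_two]

theorem J2_orderOf (p : ℕ) [Fact p.Prime] [CharP F p] : orderOf (J2 F) = p := by
  apply Nat.dvd_antisymm
  · rw [orderOf_dvd_iff_pow_eq_one, J2_pow, CharP.cast_eq_zero F p]
    ext i k
    fin_cases i <;> fin_cases k <;> simp
  · rw [← CharP.cast_eq_zero_iff F p]
    have h := pow_orderOf_eq_one (J2 F)
    rw [J2_pow] at h
    have := congrFun (congrFun h 0) 1
    simpa using this

theorem J2_scalar (j : ℕ) (c : F) (h : (J2 F) ^ j = Matrix.scalar (Fin 2) c) : c = 1 := by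
  rw [J2_pow] at h
  have := congrFun (congrFun h 0) 0
  simpa [Matrix.scalar_apply] using this.symm

/-- diagonal element of `SL_2` of order `r ∣ q - 1` -/
theorem exists_sl2_order (r : ℕ) (hr : r ∣ Fintype.card F - 1) :
    ∃ Y : Matrix (Fin 2) (Fin 2) F, Y.det = 1 ∧ orderOf Y = r := by
  classical
  obtain ⟨ζ, hζ⟩ := IsCyclic.exists_generator (α := Fˣ)
  have ho : orderOf ζ = Fintype.card F - 1 := by
    rw [orderOf_eq_card_of_forall_mem_zpowers hζ, Nat.card_eq_fintype_card, Fintype.card_units]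
  have hq : 2 ≤ Fintype.card F := Fintype.one_lt_card
  obtain ⟨t, ht⟩ := hr
  have ht0 : t ≠ 0 := by rintro rfl; omega
  set a : Fˣ := ζ ^ t with ha
  have hoa : orderOf a = r := by
    rw [ha, orderOf_pow_of_dvd ht0 (by rw [ho, ht]; exact dvd_mul_left _ _), ho, ht]
    exact Nat.mul_div_cancel _ (Nat.pos_of_ne_zero ht0)
  refine ⟨Matrix.diagonal ![(a : F), ((a⁻¹ : Fˣ) : F)], ?_, ?_⟩
  · rw [Matrix.det_diagonal]
    simp [Fin.prod_univ_two]
  · rw [← hoa]
    apply Cfsg.Agent.S2513.orderOf_eq_of_forall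
    intro j
    rw [Matrix.diagonal_pow, ← Matrix.diagonal_one, Matrix.diagonal_eq_diagonal_iff]
    constructor
    · intro h
      have := h 0
      simp at this
      exact Units.ext (by simpa using this)
    · intro h i
      have h1 : ((a : F)) ^ j = 1 := by
        have := congrArg Units.val h
        simpa using this
      fin_cases i
      · simpa using h1
      · simp [h1]

/-- an element `S ⊕ J₂ ⊕ 1` in `PSL_n` -/
theorem exists_with_J2 (p : ℕ) [Fact p.Prime] [CharP F p] (k t : ℕ) (S : Matrix (Fin k) (Fin k) F)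
    (hS : S.det = 1) :
    ∃ g : Matrix.ProjectiveSpecialLinearGroup (Fin (k + 2 + t)) F,
      orderOf g = Nat.lcm (orderOf S) p := by
  classical
  set M := blk (k + 2) t (blk k 2 (S, J2 F), (1 : Matrix (Fin t) (Fin t) F)) with hM
  have hdet : M.det = 1 := by
    rw [hM, blk_det, blk_det]
    simp [hS, J2_det]
  obtain ⟨W, hW⟩ : ∃ W : Matrix.SpecialLinearGroup (Fin (k + 2 + t)) F,
      (W : Matrix (Fin (k + 2 + t)) (Fin (k + 2 + t)) F) = M := ⟨⟨M, hdet⟩, rfl⟩
  refine ⟨QuotientGroup.mk W, ?_⟩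
  have hoM : orderOf M = Nat.lcm (orderOf S) p := by
    rw [hM, blk_orderOf, blk_orderOf]
    simp [J2_orderOf p]
  rw [← hoM]
  apply Cfsg.Agent.S2513.orderOf_eq_of_forall
  intro j
  rw [mk_pow_eq_one_iff, hW]
  constructor
  · rintro ⟨c, hc⟩
    have h1 : c = 1 := by
      rw [hM, ← map_pow, ← blk_scalar, ← blk_scalar] at hc
      have h2 := blk_injective _ _ hc
      have h3 := congrArg Prod.fst h2
      simp only [Prod.pow_fst] at h3
      rw [← map_pow] at h3
      have h4 := blk_injective _ _ h3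
      have h5 := congrArg Prod.snd h4
      simp only [Prod.pow_snd] at h5
      exact J2_scalar j c h5
    rw [hc, h1, map_one]
  · intro h
    exact ⟨1, by rw [h, map_one]⟩

/-- order in `PSL_n` of an element whose order is prime to `q - 1` -/
theorem orderOf_mk_of_coprime {n : ℕ} (x : Matrix.SpecialLinearGroup (Fin n) F)
    (h : Nat.Coprime (orderOf (x : Matrix (Fin n) (Fin n) F)) (Fintype.card F - 1)) :
    orderOf (QuotientGroup.mk x : Matrix.ProjectiveSpecialLinearGroup (Fin n) F)
      = orderOf (x : Matrix (Fin n) (Fin n) F) := by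
  classical
  rcases Nat.eq_zero_or_pos n with rfl | hn
  · have h1 : (x : Matrix (Fin 0) (Fin 0) F) = 1 := Subsingleton.elim _ _
    have h2 : x = 1 := Subsingleton.elim _ _
    rw [h1, orderOf_one, h2]
    exact orderOf_one
  apply Cfsg.Agent.S2513.orderOf_eq_of_forall
  intro j
  rw [mk_pow_eq_one_iff]
  constructor
  · rintro ⟨c, hc⟩
    have hc0 : c ≠ 0 := scalar_ne_zero_of_pow hn _ x.2 j c hc
    set m := orderOf (x : Matrix (Fin n) (Fin n) F) with hm
    have h1 : Matrix.scalar (Fin n) (c ^ m) = 1 := by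
      rw [map_pow, ← hc, ← pow_mul, mul_comm, pow_mul, hm, pow_orderOf_eq_one, one_pow]
    have h2 : c ^ m = 1 := by
      have := congrFun (congrFun h1 ⟨0, hn⟩) ⟨0, hn⟩
      simpa [Matrix.scalar_apply] using this
    have h3 : c ^ (Fintype.card F - 1) = 1 := FiniteField.pow_card_sub_one_eq_one c hc0
    have h4 : c ^ Nat.gcd m (Fintype.card F - 1) = 1 := pow_gcd_eq_one.mpr ⟨h2, h3⟩
    rw [h, pow_one] at h4
    rw [hc, h4, map_one]
  · intro h
    exact ⟨1, by rw [h, map_one]⟩

end Cfsg.Agent.Lib.Helper42.PGraphL
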