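import Mathlib
import Cfsg.Prelude
import Cfsg.Agent.Lib.Helper5.SpCenter
import Cfsg.Agent.Lib.Helper42.SpecPSU2

/-!
Spectrum of `PSp_{2n}(q)`, `q` odd: the symplectic adjoint, powers in `PSp`, the dichotomy.
-/

set_option autoImplicit false
set_option linter.unusedSectionVars false

namespace Cfsg.Agent.Lib.Helper42.SpecPSp

open Matrix Polynomial

variable {F : Type*} [Field F] {n : ℕ}

/-- the adjoint with respect to the standard symplectic form -/
def adj (M : Matrix (Fin n ⊕ Fin n) (Fin n ⊕ Fin n) F) : Matrix (Fin n ⊕ Fin n) (Fin n ⊕ Fin n) F :=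
  -(J (Fin n) F) * Mᵀ * J (Fin n) F

theorem JJ : J (Fin n) F * J (Fin n) F = -1 := J_squared (Fin n) F

theorem adj_add (A B : Matrix (Fin n ⊕ Fin n) (Fin n ⊕ Fin n) F) : adj (A + B) = adj A + adj B := by
  simp only [adj, transpose_add, mul_add, add_mul]

theorem adj_sub (A B : Matrix (Fin n ⊕ Fin n) (Fin n ⊕ Fin n) F) : adj (A - B) = adj A - adj B := by
  simp only [adj, transpose_sub, mul_sub, sub_mul]

theorem adj_smul (c : F) (A : Matrix (Fin n ⊕ Fin n) (Fin n ⊕ Fin n) F) : adj (c • A) = c • adj A := by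
  simp only [adj, transpose_smul, mul_smul_comm, smul_mul_assoc]

theorem adj_zero : adj (0 : Matrix (Fin n ⊕ Fin n) (Fin n ⊕ Fin n) F) = 0 := by
  simp [adj]

theorem adj_one : adj (1 : Matrix (Fin n ⊕ Fin n) (Fin n ⊕ Fin n) F) = 1 := by
  simp [adj, JJ]

theorem adj_mul (A B : Matrix (Fin n ⊕ Fin n) (Fin n ⊕ Fin n) F) : adj (A * B) = adj B * adj A := by
  simp only [adj, transpose_mul]
  have : -J (Fin n) F * Bᵀ * J (Fin n) F * (-J (Fin n) F * Aᵀ * J (Fin n) F)
      = -J (Fin n) F * Bᵀ * (-(J (Fin n) F * J (Fin n) F)) * Aᵀ * J (Fin n) F := by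
    simp only [mul_assoc, neg_mul, mul_neg]
  rw [this, JJ, neg_neg, mul_one]
  simp only [mul_assoc]

theorem adj_adj (A : Matrix (Fin n ⊕ Fin n) (Fin n ⊕ Fin n) F) : adj (adj A) = A := by
  simp only [adj, transpose_mul, transpose_neg, J_transpose, transpose_transpose, neg_neg]
  have : -J (Fin n) F * (-J (Fin n) F * (A * J (Fin n) F)) * J (Fin n) F
      = (J (Fin n) F * J (Fin n) F) * A * (J (Fin n) F * J (Fin n) F) := by
    simp only [mul_assoc, neg_mul, mul_neg, neg_neg]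
  rw [this, JJ]
  simp

theorem adj_neg (A : Matrix (Fin n ⊕ Fin n) (Fin n ⊕ Fin n) F) : adj (-A) = -adj A := by
  simp only [adj, transpose_neg, mul_neg, neg_mul]

theorem adj_pow (M : Matrix (Fin n ⊕ Fin n) (Fin n ⊕ Fin n) F) (k : ℕ) : adj (M ^ k) = (adj M) ^ k := by
  induction k with
  | zero => simp [adj_one]
  | succ k ih => rw [pow_succ, adj_mul, ih, pow_succ']

theorem adj_aeval (X : Matrix (Fin n ⊕ Fin n) (Fin n ⊕ Fin n) F) (P : F[X]) :
    adj (aeval X P) = aeval (adj X) P := by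
  induction P using Polynomial.induction_on' with
  | add p r hp hr => rw [map_add, adj_add, hp, hr, map_add]
  | monomial k a =>
    rw [Polynomial.aeval_monomial, Polynomial.aeval_monomial,
      ← Algebra.smul_def, ← Algebra.smul_def, adj_smul, adj_pow]

theorem mem_sp_iff (X : Matrix (Fin n ⊕ Fin n) (Fin n ⊕ Fin n) F) :
    X ∈ symplecticGroup (Fin n) F ↔ adj X * X = 1 := by
  rw [SymplecticGroup.mem_iff']
  constructor
  · intro h
    rw [adj, mul_assoc, mul_assoc, ← mul_assoc Xᵀ, h, neg_mul, JJ, neg_neg]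
  · intro h
    have := congrArg (J (Fin n) F * ·) h
    simp only [adj, mul_one] at this
    have e : J (Fin n) F * (-J (Fin n) F * Xᵀ * J (Fin n) F * X)
        = -(J (Fin n) F * J (Fin n) F) * (Xᵀ * J (Fin n) F * X) := by
      simp only [mul_assoc, neg_mul, mul_neg]
    rw [e, JJ, neg_neg, one_mul] at this
    exact this

theorem neg_one_mem : (-1 : Matrix (Fin n ⊕ Fin n) (Fin n ⊕ Fin n) F) ∈ symplecticGroup (Fin n) F := by
  rw [mem_sp_iff, adj_neg, adj_one]; simp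

theorem coe_pow' (x : symplecticGroup (Fin n) F) (k : ℕ) :
    ((x ^ k : symplecticGroup (Fin n) F) : Matrix (Fin n ⊕ Fin n) (Fin n ⊕ Fin n) F) =
      (x : Matrix (Fin n ⊕ Fin n) (Fin n ⊕ Fin n) F) ^ k := rfl

theorem mem_center_iff (hn : 0 < n) (x : symplecticGroup (Fin n) F) :
    x ∈ Subgroup.center (symplecticGroup (Fin n) F) ↔
      (x : Matrix (Fin n ⊕ Fin n) (Fin n ⊕ Fin n) F) = 1 ∨
      (x : Matrix (Fin n ⊕ Fin n) (Fin n ⊕ Fin n) F) = -1 := by
  constructor
  · intro h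
    obtain ⟨a, ha⟩ := Cfsg.Agent.Lib.Helper5.sp_center_scalar n x h
    have h1 := (mem_sp_iff _).mp x.2
    have hs : Matrix.scalar (Fin n ⊕ Fin n) a = a • (1 : Matrix (Fin n ⊕ Fin n) (Fin n ⊕ Fin n) F) := by
      ext i j
      simp [Matrix.scalar_apply, Matrix.diagonal_apply, Matrix.one_apply]
    rw [ha, hs, adj_smul, adj_one, smul_mul_smul_comm, mul_one] at h1
    have h2 : a * a = 1 := by
      have := congrFun (congrFun h1 (Sum.inl ⟨0, hn⟩)) (Sum.inl ⟨0, hn⟩)
      simpa using this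
    rcases mul_self_eq_one_iff.mp h2 with rfl | rfl
    · left; rw [ha, hs, one_smul]
    · right; rw [ha, hs, neg_smul, one_smul]
  · rintro (h | h)
    · have : x = 1 := Subtype.ext h
      rw [this]; exact Subgroup.one_mem _
    · rw [Subgroup.mem_center_iff]
      intro y
      apply Subtype.ext
      show (y : Matrix (Fin n ⊕ Fin n) (Fin n ⊕ Fin n) F) * x = x * y
      rw [h]; simp

theorem psp_pow_eq_one_iff (hn : 0 < n) (x : symplecticGroup (Fin n) F) (k : ℕ) :
    (QuotientGroup.mk x : Cfsg.PSp n F) ^ k = 1 ↔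
      (x : Matrix (Fin n ⊕ Fin n) (Fin n ⊕ Fin n) F) ^ k = 1 ∨
      (x : Matrix (Fin n ⊕ Fin n) (Fin n ⊕ Fin n) F) ^ k = -1 := by
  rw [← QuotientGroup.mk_pow, QuotientGroup.eq_one_iff, mem_center_iff hn, coe_pow']

theorem orderOf_psp (hn : 0 < n) (x : symplecticGroup (Fin n) F) (N : ℕ)
    (h : ∀ k, ((x : Matrix (Fin n ⊕ Fin n) (Fin n ⊕ Fin n) F) ^ k = 1 ∨
      (x : Matrix (Fin n ⊕ Fin n) (Fin n ⊕ Fin n) F) ^ k = -1) ↔ N ∣ k) :
    orderOf (QuotientGroup.mk x : Cfsg.PSp n F) = N := by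
  apply Nat.dvd_antisymm
  · rw [orderOf_dvd_iff_pow_eq_one, psp_pow_eq_one_iff hn, h]
  · rw [← h, ← psp_pow_eq_one_iff hn, pow_orderOf_eq_one]

end Cfsg.Agent.Lib.Helper42.SpecPSp
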