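import Mathlib
import Cfsg.Agent.Lib.Helper42.SpecPSp1

/-!
Spectrum of `PSp_{2n}(q)`, `q` odd: the dichotomy in an algebra with an anti-involution.
-/

set_option autoImplicit false
set_option linter.unusedSectionVars false

namespace Cfsg.Agent.Lib.Helper42.SpecPSp

open Matrix Polynomial

variable {F : Type*} [Field F]

section ring
variable {R : Type*} [Ring R] [Algebra F R]

theorem idem_swap' {π₁ π₂ : R} (h1 : π₁ + π₂ = 1) (h0 : π₁ * π₂ = 0) : π₂ * π₁ = 0 := by
  have e2 : π₂ = 1 - π₁ := by rw [← h1]; abel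
  have : π₁ * (1 - π₁) = 0 := by rw [← e2]; exact h0
  rw [e2, sub_mul, one_mul]
  rw [mul_sub, mul_one] at this
  exact this

theorem idem_left' {π₁ π₂ : R} (h1 : π₁ + π₂ = 1) (h0 : π₁ * π₂ = 0) : π₁ * π₁ = π₁ := by
  have : π₁ * (π₁ + π₂) = π₁ := by rw [h1, mul_one]
  rwa [mul_add, h0, add_zero] at this

theorem idem_right' {π₁ π₂ : R} (h1 : π₁ + π₂ = 1) (h0 : π₁ * π₂ = 0) : π₂ * π₂ = π₂ := by
  have : π₂ * (π₁ + π₂) = π₂ := by rw [h1, mul_one]
  rwa [mul_add, idem_swap' h1 h0, zero_add] at this

/-- idempotents of the local algebra -/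
theorem local_idem' (X : R) (f E P : F[X]) (hf : Irreducible f) (a : ℕ)
    (ha : 1 ≤ a) (h0 : (aeval X f) ^ a * aeval X E = 0)
    (hid : aeval X P * aeval X P = aeval X P) (hPE : aeval X P * aeval X E = aeval X P) :
    aeval X P = 0 ∨ aeval X P = aeval X E := by
  by_cases hd : f ∣ P
  · left
    obtain ⟨g, rfl⟩ := hd
    have hpow : (aeval X (f * g)) ^ a = aeval X (f * g) := by
      obtain ⟨b, rfl⟩ : ∃ b, a = b + 1 := ⟨a - 1, by omega⟩
      exact (IsIdempotentElem.pow_succ_eq b hid)
    rw [← hPE, ← hpow, ← map_pow, ← map_mul]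
    have : (f * g) ^ a * E = g ^ a * (f ^ a * E) := by ring
    rw [this, map_mul, map_mul (aeval X) (f ^ a), map_pow (aeval X) f, h0, mul_zero]
  · right
    have hcop : IsCoprime (f ^ a) P := ((hf.coprime_iff_not_dvd).mpr hd).pow_left
    obtain ⟨u, v, huv⟩ := hcop
    have h1 : aeval X v * aeval X P = aeval X E := by
      have := congrArg (fun R => aeval X (R * E)) huv
      simp only [one_mul] at this
      rw [← this, add_mul, map_add]
      have e1 : aeval X (u * f ^ a * E) = 0 := by
        rw [mul_assoc, map_mul, map_mul (aeval X) (f ^ a), map_pow, h0, mul_zero]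
      rw [e1, zero_add, mul_assoc, map_mul, map_mul (aeval X) P, hPE]
    have h2 : aeval X E * aeval X P = aeval X E := by
      rw [← h1, mul_assoc, hid]
    rw [← hPE, ← map_mul, mul_comm, map_mul, h2]

theorem st_pow (st : R →ₗ[F] R) (st_mul : ∀ a b, st (a * b) = st b * st a) (st_one : st 1 = 1)
    (M : R) (k : ℕ) : st (M ^ k) = (st M) ^ k := by
  induction k with
  | zero => simp [st_one]
  | succ k ih => rw [pow_succ, st_mul, ih, pow_succ']

theorem st_aeval (st : R →ₗ[F] R) (st_mul : ∀ a b, st (a * b) = st b * st a) (st_one : st 1 = 1)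
    (X : R) (P : F[X]) : st (aeval X P) = aeval (st X) P := by
  induction P using Polynomial.induction_on' with
  | add p r hp hr => rw [map_add, map_add, hp, hr, map_add]
  | monomial k a =>
    rw [Polynomial.aeval_monomial, Polynomial.aeval_monomial,
      ← Algebra.smul_def, ← Algebra.smul_def, map_smul, st_pow st st_mul st_one]

theorem dichotomy_st [Nontrivial R] [Finite R] [Module.Finite F R] (st : R →ₗ[F] R)
    (st_mul : ∀ a b, st (a * b) = st b * st a) (st_one : st 1 = 1) (st_st : ∀ a, st (st a) = a)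
    (X : R) (hX : st X * X = 1) (hX' : X * st X = 1) :
    (∃ π₁ π₂ : R, π₁ + π₂ = 1 ∧ π₁ * π₂ = 0 ∧ π₁ ≠ 0 ∧ π₂ ≠ 0 ∧
      Commute π₁ X ∧ Commute π₂ X ∧ st π₁ = π₁ ∧ st π₂ = π₂) ∨
    (∃ (f : F[X]) (e : ℕ), Irreducible f ∧ (aeval X f) ^ e = 0) ∨
    (∃ (f : F[X]) (a : ℕ) (ε : R), Irreducible f ∧ ε * ε = ε ∧ Commute ε X ∧
      st ε = 1 - ε ∧ (aeval X f) ^ a * ε = 0) := by
  classical
  -- the adjoint is a power of `X`
  obtain ⟨o, ho⟩ : ∃ o : ℕ, st X = X ^ o := by
    let u : Rˣ := ⟨X, st X, hX', hX⟩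
    have hpos : 0 < orderOf u := orderOf_pos u
    have h1 : X ^ orderOf u = 1 := by
      have := congrArg Units.val (pow_orderOf_eq_one u)
      rw [Units.val_pow_eq_pow_val, Units.val_one] at this
      exact this
    refine ⟨orderOf u - 1, ?_⟩
    have h2 : X * X ^ (orderOf u - 1) = 1 := by
      rw [← pow_succ', Nat.sub_add_cancel hpos, h1]
    calc st X = st X * (X * X ^ (orderOf u - 1)) := by rw [h2, mul_one]
      _ = X ^ (orderOf u - 1) := by rw [← mul_assoc, hX, one_mul]
  have hstar : ∀ P : F[X], st (aeval X P) = aeval X (P.comp (Polynomial.X ^ o)) := by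
    intro P
    rw [st_aeval st st_mul st_one, ho, Polynomial.aeval_comp, map_pow, aeval_X]
  have hint : IsIntegral F X := Algebra.IsIntegral.isIntegral X
  set μ := minpoly F X with hμ
  have hμ0 : μ ≠ 0 := minpoly.ne_zero hint
  have hμu : ¬ IsUnit μ := minpoly.not_isUnit F X
  obtain ⟨f, hf, hfμ⟩ := WfDvdMonoid.exists_irreducible_factor hμu hμ0
  have hfin : FiniteMultiplicity f μ := FiniteMultiplicity.of_not_isUnit hf.not_isUnit hμ0
  obtain ⟨h, hh, hnd⟩ := hfin.exists_eq_pow_mul_and_not_dvd
  set a := multiplicity f μ with ha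
  have hcomm : ∀ P : F[X], Commute (aeval X P) X := by
    intro P
    have := (Commute.all P (Polynomial.X : F[X])).map (aeval X)
    rwa [aeval_X] at this
  have hann : aeval X μ = 0 := minpoly.aeval F X
  have ha1 : 1 ≤ a := by
    by_contra hcon
    have h4 : a = 0 := by omega
    rw [h4, pow_zero, one_mul] at hh
    exact hnd (hh ▸ hfμ)
  have hcop : IsCoprime (f ^ a) h := ((hf.coprime_iff_not_dvd).mpr hnd).pow_left
  obtain ⟨u, v, huv⟩ := hcop
  set E := v * h with hE
  obtain ⟨Q, hQ⟩ : ∃ Q : F[X], st (aeval X E) = aeval X Q := ⟨_, hstar E⟩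
  have hsum : aeval X (u * f ^ a) + aeval X E = 1 := by rw [← map_add, huv, map_one]
  have hprod : aeval X (u * f ^ a) * aeval X E = 0 := by
    rw [← map_mul]
    have : u * f ^ a * E = (u * v) * μ := by rw [hh, hE]; ring
    rw [this, map_mul, hann, mul_zero]
  have hEid : aeval X E * aeval X E = aeval X E := idem_right' hsum hprod
  have hfE : (aeval X f) ^ a * aeval X E = 0 := by
    rw [← map_pow, ← map_mul]
    have : f ^ a * E = v * μ := by rw [hh, hE]; ring
    rw [this, map_mul, hann, mul_zero]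
  have hE0 : aeval X E ≠ 0 := by
    intro h0
    have h1 : μ ∣ v * h := minpoly.dvd F X h0
    have hh0 : h ≠ 0 := by
      rintro rfl
      exact hμ0 (by rw [hh, mul_zero])
    rw [hh] at h1
    have h2 : f ^ a ∣ v := (mul_dvd_mul_iff_right hh0).mp h1
    have h3 : IsUnit (f ^ a) := by
      apply isUnit_of_dvd_one
      rw [← huv]
      exact dvd_add (dvd_mul_left _ _) (h2.mul_right _)
    exact hf.not_isUnit ((isUnit_pow_iff (by omega)).mp h3)
  have hQid : aeval X Q * aeval X Q = aeval X Q := by
    rw [← hQ, ← st_mul, hEid]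
  have hQstar : st (aeval X Q) = aeval X E := by rw [← hQ, st_st]
  have hEQ : aeval X E * aeval X Q = aeval X Q * aeval X E := by
    rw [← map_mul, mul_comm, map_mul]
  rcases local_idem' X f E (E * Q) hf a ha1 hfE
    (by
      rw [map_mul]
      calc aeval X E * aeval X Q * (aeval X E * aeval X Q)
          = (aeval X E * aeval X E) * (aeval X Q * aeval X Q) := by
            rw [mul_assoc, ← mul_assoc (aeval X Q), ← hEQ]; simp only [mul_assoc]
        _ = _ := by rw [hEid, hQid])
    (by
      rw [map_mul, mul_assoc, ← hEQ, ← mul_assoc, hEid]) with h0 | h0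
  · -- `e e* = 0`
    rw [map_mul] at h0
    have h0' : aeval X Q * aeval X E = 0 := by rw [← hEQ, h0]
    by_cases hone : aeval X E + aeval X Q = 1
    · right; right
      refine ⟨f, a, aeval X E, hf, hEid, hcomm _, ?_, hfE⟩
      rw [hQ, ← hone]; abel
    · left
      refine ⟨aeval X E + aeval X Q, 1 - (aeval X E + aeval X Q), by abel, ?_, ?_, ?_, ?_, ?_, ?_, ?_⟩
      · rw [mul_sub, mul_one, add_mul, mul_add, mul_add, hEid, hQid, h0, h0']
        abel
      · intro hz
        apply hE0
        have := congrArg (aeval X E * ·) hz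
        simp only [mul_add, hEid, h0, add_zero, mul_zero] at this
        exact this
      · intro hz
        exact hone (sub_eq_zero.mp hz).symm
      · exact (hcomm _).add_left (hcomm _)
      · exact (Commute.one_left _).sub_left ((hcomm _).add_left (hcomm _))
      · rw [map_add, hQ, hQstar, add_comm]
      · rw [map_sub, st_one, map_add, hQ, hQstar, add_comm (aeval X Q)]
  · -- `e e* = e`, so `e` is self-adjoint
    rw [map_mul] at h0
    have hself : st (aeval X E) = aeval X E := by
      have := congrArg st h0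
      rw [st_mul, hQstar, hQ, h0] at this
      rw [hQ, ← this]
    by_cases hu : IsUnit h
    · right; left
      refine ⟨f, a, hf, ?_⟩
      rw [hh, map_mul, map_pow] at hann
      have hu' : IsUnit (aeval X h) := hu.map (aeval X)
      exact (hu'.mul_left_eq_zero).mp hann
    · left
      refine ⟨aeval X (u * f ^ a), aeval X E, hsum, hprod, ?_, hE0, hcomm _, hcomm _, ?_, hself⟩
      · intro hz
        have h1 : μ ∣ u * f ^ a := minpoly.dvd F X hz
        rw [hh, mul_comm u] at h1
        have h2 : h ∣ u := (mul_dvd_mul_iff_left (pow_ne_zero a hf.ne_zero)).mp h1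
        apply hu
        apply isUnit_of_dvd_one
        rw [← huv]
        exact dvd_add (h2.mul_right _) (dvd_mul_left _ _)
      · have : aeval X (u * f ^ a) = 1 - aeval X E := by rw [← hsum]; abel
        rw [this, map_sub, st_one, hself]

end ring

end Cfsg.Agent.Lib.Helper42.SpecPSp
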