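import Mathlib
import Cfsg.Agent.Lib.Helper42.SpecPSp2

/-!
Spectrum of `PSp_{2n}(q)`, `q` odd: orders of matrices with a primary minimal polynomial.
-/

set_option autoImplicit false
set_option linter.unusedSectionVars false

namespace Cfsg.Agent.Lib.Helper42.SpecPSp

open Matrix Polynomial Module
open Cfsg.Agent.Lib.Helper42.SpecPSL

variable {F : Type*} [Field F] [Fintype F]
variable {ι : Type*} [Fintype ι] [DecidableEq ι]

theorem bad_pow' {R : Type*} [Ring R] [Algebra F R] (X : R) (f : F[X]) (e : ℕ)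
    (h : (aeval X f) ^ e = 0) : aeval (X ^ (Fintype.card F ^ e)) f = 0 := by
  rw [← expand_aeval, expand_card_pow, map_pow]
  exact pow_eq_zero_of_le (Nat.lt_pow_self Fintype.one_lt_card).le h

theorem irr_model' [Nonempty ι] (f : F[X]) [hfi : Fact (Irreducible f)] (Y : Matrix ι ι F)
    (hY : aeval Y f = 0) :
    ∃ φ : AdjoinRoot f →ₐ[F] Matrix ι ι F, Function.Injective φ ∧
      φ (AdjoinRoot.root f) = Y ∧ ∃ D, finrank F (AdjoinRoot f) * D = Fintype.card ι := by
  classical
  have hf := hfi.out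
  let K := AdjoinRoot f
  let φ : K →ₐ[F] Matrix ι ι F := Ideal.Quotient.liftₐ (Ideal.span {f}) (aeval Y) (by
    intro a ha
    rw [Ideal.mem_span_singleton] at ha
    obtain ⟨b, rfl⟩ := ha
    rw [map_mul, hY, zero_mul])
  have hφ : φ (AdjoinRoot.root f) = Y := by
    show (aeval Y) X = Y
    simp
  have hφinj : Function.Injective φ := φ.toRingHom.injective
  let ψ : K →ₐ[F] Module.End F (ι → F) := (Matrix.toLinAlgEquiv' (R := F) (n := ι)).toAlgHom.comp φ
  let _ : Module K (ι → F) := Module.compHom _ ψ.toRingHom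
  have hsm : ∀ (z : K) (v : ι → F), z • v = ψ z v := fun _ _ => rfl
  have : IsScalarTower F K (ι → F) := ⟨by
    intro a z v
    rw [hsm, hsm, map_smul]; rfl⟩
  have : Module.Finite F K := (AdjoinRoot.powerBasis hf.ne_zero).finite
  have h4 : finrank F K * finrank K (ι → F) = Fintype.card ι := by
    rw [Module.finrank_mul_finrank F K (ι → F), Module.finrank_fintype_fun_eq_card]
  exact ⟨φ, hφinj, hφ, _, h4⟩

theorem finrank_adjoinRoot (f : F[X]) (hf : Irreducible f) :
    finrank F (AdjoinRoot f) = f.natDegree := by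
  rw [(AdjoinRoot.powerBasis hf.ne_zero).finrank, AdjoinRoot.powerBasis_dim]

theorem dvd_of_root_pow (f : F[X]) (m : ℕ) (h : (AdjoinRoot.root f) ^ m = 1) :
    f ∣ Polynomial.X ^ m - 1 := by
  rw [← AdjoinRoot.mk_eq_zero, map_sub, map_pow, AdjoinRoot.mk_X, h, map_one, sub_self]

theorem pow_eq_one_of_local (p : ℕ) [Fact p.Prime] [CharP F p] (X : Matrix ι ι F) (f : F[X])
    (hf : Irreducible f) (e : ℕ) (h : (aeval X f) ^ e = 0) (m : ℕ) (hm : f ∣ Polynomial.X ^ m - 1)
    (D t : ℕ) (hD : Fintype.card ι ≤ f.natDegree * D) (ht : D ≤ p ^ t) : X ^ (m * p ^ t) = 1 := by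
  classical
  rcases isEmpty_or_nonempty ι with hι | hι
  · exact Subsingleton.elim _ _
  have h1 : minpoly F X ∣ f ^ e := minpoly.dvd F X (by rw [map_pow, h])
  obtain ⟨i, -, hi⟩ := (dvd_prime_pow hf.prime e).mp h1
  have h2 : (minpoly F X).natDegree = i * f.natDegree := by
    rw [natDegree_eq_of_degree_eq (degree_eq_degree_of_associated hi), natDegree_pow]
  have h3 : (minpoly F X).natDegree ≤ Fintype.card ι := by
    have := natDegree_le_of_dvd (Matrix.minpoly_dvd_charpoly X) (Matrix.charpoly_monic X).ne_zero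
    rwa [Matrix.charpoly_natDegree_eq_dim] at this
  have hd : 0 < f.natDegree := hf.natDegree_pos
  have h4 : i ≤ D := by
    have : i * f.natDegree ≤ D * f.natDegree := by rw [mul_comm D]; omega
    exact Nat.le_of_mul_le_mul_right this hd
  have h5 : (aeval X f) ^ i = 0 := by
    obtain ⟨c, hc⟩ := hi.dvd
    rw [← map_pow, hc, map_mul, minpoly.aeval, zero_mul]
  have h6 : (aeval X f) ^ (p ^ t) = 0 := pow_eq_zero_of_le (h4.trans ht) h5
  obtain ⟨g, hg⟩ := hm
  have h7 : (X ^ m - 1) ^ (p ^ t) = 0 := by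
    have : X ^ m - 1 = aeval X (Polynomial.X ^ m - 1 : F[X]) := by simp
    rw [this, hg, ← map_pow, mul_pow, map_mul, map_pow, h6, zero_mul]
  rw [sub_pow_char_pow_of_commute _ _ (Commute.one_right _), one_pow, sub_eq_zero, ← pow_mul] at h7
  exact h7

theorem invol_field' {K : Type*} [Field K] [Finite K] [Algebra F K] (τ : K →ₐ[F] K)
    (hττ : ∀ a, τ (τ a) = a) :
    (∀ a, τ a = a) ∨ ∃ j, finrank F K = 2 * j ∧ ∀ a, τ a = a ^ (Fintype.card F ^ j) := by
  classical
  obtain ⟨⟨j, hj⟩, hjρ⟩ := (FiniteField.bijective_frobeniusAlgHom_pow F K).2 τ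
  have hj2 : ∀ a : K, τ a = a ^ (Fintype.card F ^ j) := by
    intro a
    rw [← hjρ]
    simp only [AlgHom.coe_pow, FiniteField.coe_frobeniusAlgHom, pow_iterate]
  have hdm : finrank F K ∣ 2 * j := by
    rw [← FiniteField.orderOf_frobeniusAlgHom F K, orderOf_dvd_iff_pow_eq_one]
    apply AlgHom.ext
    intro a
    simp only [AlgHom.coe_pow, FiniteField.coe_frobeniusAlgHom, pow_iterate, AlgHom.one_apply]
    have := hττ a
    rw [hj2, hj2, ← pow_mul, ← pow_add] at this
    rw [two_mul]; exact this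
  obtain ⟨c, hc⟩ := hdm
  rcases Nat.lt_or_ge c 2 with h | h
  · interval_cases c
    · left
      have : j = 0 := by omega
      subst this
      intro a
      rw [hj2]; simp
    · right
      exact ⟨j, by omega, hj2⟩
  · exfalso
    have : 2 * finrank F K ≤ finrank F K * c := by nlinarith
    omega

end Cfsg.Agent.Lib.Helper42.SpecPSp
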