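import Mathlib
import Cfsg.Agent.Lib.Helper42.PGraphL1
import Cfsg.Agent.Lib.Helper42.SpecPSp3

/-!
Prime graph of `PSp_{2n}(q)`: irreducible factors, self-duality dichotomy, isotropic kernels.
-/

set_option autoImplicit false
set_option linter.unusedSectionVars false

namespace Cfsg.Agent.Lib.Helper42.PGraphS

open Matrix Polynomial
open Cfsg.Agent.Lib.Helper42.SpecPSp Cfsg.Agent.Lib.Helper42.PGraphL

variable {F : Type*} [Field F] [Fintype F]

theorem core' {ι : Type*} [Fintype ι] [DecidableEq ι] (r : ℕ) [Fact r.Prime] (hrF : (r : F) ≠ 0)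
    (B N : Matrix ι ι F) (hB : B ^ r = 1) (hB1 : B ≠ 1) (hN : IsNilpotent N)
    (hN0 : N ≠ 0) (hc : Commute B N)
    (hk2 : 2 ≤ orderOf ((Fintype.card F : ℕ) : ZMod r)) :
    orderOf ((Fintype.card F : ℕ) : ZMod r) + 2 ≤ Fintype.card ι := by
  let e := Matrix.reindexAlgEquiv F F (Fintype.equivFin ι)
  apply core r hrF (e B) (e N)
  · rw [← map_pow, hB, map_one]
  · intro h; apply hB1; apply e.injective; rw [h, map_one]
  · exact hN.map e
  · intro h; apply hN0; apply e.injective; rw [h, map_zero]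
  · exact hc.map e
  · exact hk2

omit [Fintype F] in
theorem exists_irr {ι : Type*} [Fintype ι] [DecidableEq ι] (B : Matrix ι ι F) (P : F[X]) (hP : P ≠ 0)
    (h : (aeval B P).det = 0) : ∃ f : F[X], Irreducible f ∧ f ∣ P ∧ (aeval B f).det = 0 := by
  induction P using WfDvdMonoid.induction_on_irreducible with
  | zero => exact absurd rfl hP
  | unit u hu =>
    exfalso
    have h1 : IsUnit (aeval B u) := hu.map (aeval B)
    have h2 := (Matrix.isUnit_iff_isUnit_det _).mp h1
    rw [h] at h2; exact not_isUnit_zero h2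
  | mul a i ha hi ih =>
    rw [map_mul, det_mul, mul_eq_zero] at h
    rcases h with h | h
    · exact ⟨i, hi, dvd_mul_right _ _, h⟩
    · obtain ⟨f, hf, hfa, hdet⟩ := ih ha h
      exact ⟨f, hf, hfa.mul_left _, hdet⟩

/-- self-duality dichotomy for an irreducible factor of `X ^ m - 1` -/
theorem coprime_or (m : ℕ) (hm : 0 < m) (f : F[X]) (hf : Irreducible f) (hfd : f ∣ X ^ m - 1) :
    IsCoprime f (f.comp (X ^ (m - 1))) ∨ (f ∣ X ^ 2 - 1) ∨
      ∃ j, f.natDegree = 2 * j ∧ f ∣ X ^ (Fintype.card F ^ j + 1) - 1 := by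
  classical
  by_cases hdvd : f ∣ f.comp (X ^ (m - 1))
  swap
  · left
    exact (hf.coprime_iff_not_dvd).mpr hdvd
  right
  have : Fact (Irreducible f) := ⟨hf⟩
  let K := AdjoinRoot f
  have : Module.Finite F K := (AdjoinRoot.powerBasis hf.ne_zero).finite
  have : Finite K := Module.finite_of_finite F
  set β : K := AdjoinRoot.root f with hβ
  have hβm : β ^ m = 1 := by
    have := (AdjoinRoot.mk_eq_zero (f := f)).mpr hfd
    rw [map_sub, map_pow, AdjoinRoot.mk_X, map_one, sub_eq_zero] at this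
    exact this
  have hββ : β * β ^ (m - 1) = 1 := by
    rw [← pow_succ', Nat.sub_add_cancel hm, hβm]
  have h0 : aeval (β ^ (m - 1)) f = 0 := by
    have := (AdjoinRoot.mk_eq_zero (f := f)).mpr hdvd
    rw [← AdjoinRoot.aeval_eq, aeval_comp] at this
    simpa using this
  let τ : K →ₐ[F] K := AdjoinRoot.liftAlgHom f (Algebra.ofId F K) (β ^ (m - 1)) (by
    rw [← h0]; rfl)
  have hτβ : τ β = β ^ (m - 1) := AdjoinRoot.liftAlgHom_root _ _ _ _
  have hττ : ∀ a, τ (τ a) = a := by
    have : τ.comp τ = AlgHom.id F K := by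
      apply AdjoinRoot.algHom_ext
      show τ (τ β) = β
      rw [hτβ, map_pow, hτβ]
      have h1 : (β ^ (m - 1)) ^ (m - 1) * β ^ (m - 1) = 1 := by
        rw [← pow_succ, Nat.sub_add_cancel hm, ← pow_mul, mul_comm, pow_mul, hβm, one_pow]
      have h2 : β ^ (m - 1) ≠ 0 := right_ne_zero_of_mul_eq_one hββ
      exact mul_right_cancel₀ h2 (h1.trans hββ.symm)
    intro a
    exact congrArg (fun g : K →ₐ[F] K => g a) this
  rcases invol_field' τ hττ with h | ⟨j, hj, h⟩
  · left
    rw [← AdjoinRoot.mk_eq_zero, map_sub, map_pow, AdjoinRoot.mk_X, map_one, sub_eq_zero]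
    have := h β
    rw [hτβ] at this
    rw [this] at hββ
    rw [sq]
    exact hββ
  · right
    refine ⟨j, ?_, ?_⟩
    · rw [← finrank_adjoinRoot f hf]; exact hj
    · rw [← AdjoinRoot.mk_eq_zero, map_sub, map_pow, AdjoinRoot.mk_X, map_one, sub_eq_zero]
      have := h β
      rw [hτβ] at this
      rw [pow_succ', ← this]
      exact hββ

end Cfsg.Agent.Lib.Helper42.PGraphS
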