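import Mathlib
import Cfsg.Agent.Lib.Helper42.PGraphS1

/-!
Prime graph of `PSp_{2n}(q)`: isotropic kernels; a semisimple element of odd type commuting with a
unipotent element.
-/

set_option autoImplicit false
set_option linter.unusedSectionVars false

namespace Cfsg.Agent.Lib.Helper42.PGraphS

open Matrix Polynomial
open Cfsg.Agent.Lib.Helper42.SpecPSp Cfsg.Agent.Lib.Helper42.PGraphL

variable {F : Type*} [Field F] {n : ℕ}

theorem adj_eq_pow (B : Matrix (Fin n ⊕ Fin n) (Fin n ⊕ Fin n) F) (hBs : adj B * B = 1) (m : ℕ)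
    (hm : 0 < m) (hB : B ^ m = 1) : adj B = B ^ (m - 1) := by
  have h1 : B * B ^ (m - 1) = 1 := by rw [← pow_succ', Nat.sub_add_cancel hm, hB]
  calc adj B = adj B * (B * B ^ (m - 1)) := by rw [h1, mul_one]
    _ = B ^ (m - 1) := by rw [← mul_assoc, hBs, one_mul]

theorem adj_aeval_eq (B : Matrix (Fin n ⊕ Fin n) (Fin n ⊕ Fin n) F) (hBs : adj B * B = 1) (m : ℕ)
    (hm : 0 < m) (hB : B ^ m = 1) (f : F[X]) :
    adj (aeval B f) = aeval B (f.comp (X ^ (m - 1))) := by
  rw [adj_aeval, adj_eq_pow B hBs m hm hB, aeval_comp]; simp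

theorem rank_adj (P : Matrix (Fin n ⊕ Fin n) (Fin n ⊕ Fin n) F) : (adj P).rank = P.rank := by
  unfold adj
  have h1 : IsUnit (J (Fin n) F).det := isUnit_det_J _ _
  have h2 : IsUnit (-J (Fin n) F).det := by
    rw [← Matrix.isUnit_iff_isUnit_det]
    exact ((Matrix.isUnit_iff_isUnit_det _).mpr h1).neg
  rw [rank_mul_eq_left_of_isUnit_det _ _ h1, rank_mul_eq_right_of_isUnit_det _ _ h2, rank_transpose]

theorem commute_aeval {R : Type*} [Ring R] [Algebra F R] (B N : R) (h : Commute B N) (g : F[X]) :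
    Commute (aeval B g) N := by
  induction g using Polynomial.induction_on' with
  | add p r hp hr => rw [map_add]; exact hp.add_left hr
  | monomial k a =>
    rw [Polynomial.aeval_monomial]
    exact (Algebra.commute_algebraMap_left a N).mul_left (h.pow_left k)

theorem ker_le_range (B : Matrix (Fin n ⊕ Fin n) (Fin n ⊕ Fin n) F) (hBs : adj B * B = 1) (m : ℕ)
    (hm : 0 < m) (hB : B ^ m = 1) (f : F[X]) (hcop : IsCoprime f (f.comp (X ^ (m - 1)))) :
    LinearMap.ker (mulVecLin (aeval B f)) ≤ LinearMap.range (mulVecLin (adj (aeval B f))) := by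
  obtain ⟨a, b, hab⟩ := hcop
  intro v hv
  rw [LinearMap.mem_ker, mulVecLin_apply] at hv
  have h1 := congrArg (aeval B) hab
  rw [map_add, map_mul, map_mul, map_one, ← adj_aeval_eq B hBs m hm hB] at h1
  refine ⟨aeval B b *ᵥ v, ?_⟩
  rw [mulVecLin_apply, mulVec_mulVec]
  have h2 : adj (aeval B f) * aeval B b = aeval B b * adj (aeval B f) := by
    rw [adj_aeval_eq B hBs m hm hB, ← map_mul, ← map_mul, mul_comm]
  rw [h2]
  have h3 := congrArg (· *ᵥ v) h1
  simp only [add_mulVec, one_mulVec, ← mulVec_mulVec, hv, mulVec_zero, zero_add] at h3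
  rw [← mulVec_mulVec]
  exact h3

theorem finrank_range_adj (P : Matrix (Fin n ⊕ Fin n) (Fin n ⊕ Fin n) F) :
    Module.finrank F (LinearMap.range (mulVecLin (adj P))) +
      Module.finrank F (LinearMap.ker (mulVecLin P)) = 2 * n := by
  have h1 := LinearMap.finrank_range_add_finrank_ker (mulVecLin P)
  rw [Module.finrank_fintype_fun_eq_card, Fintype.card_sum, Fintype.card_fin] at h1
  have h2 : Module.finrank F (LinearMap.range (mulVecLin (adj P))) = (adj P).rank := rfl
  have h3 : Module.finrank F (LinearMap.range (mulVecLin P)) = P.rank := rfl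
  rw [h2, rank_adj, ← h3]
  omega

theorem finrank_ker_le (B : Matrix (Fin n ⊕ Fin n) (Fin n ⊕ Fin n) F) (hBs : adj B * B = 1) (m : ℕ)
    (hm : 0 < m) (hB : B ^ m = 1) (f : F[X]) (hcop : IsCoprime f (f.comp (X ^ (m - 1)))) :
    Module.finrank F (LinearMap.ker (mulVecLin (aeval B f))) ≤ n := by
  have h1 := Submodule.finrank_mono (ker_le_range B hBs m hm hB f hcop)
  have h2 := finrank_range_adj (aeval B f)
  omega

theorem dvd_gcd_pow (f : F[X]) (a b : ℕ) (ha : f ∣ X ^ a - 1) (hb : f ∣ X ^ b - 1) :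
    f ∣ X ^ (Nat.gcd a b) - 1 := by
  rw [← AdjoinRoot.mk_eq_zero, map_sub, map_pow, AdjoinRoot.mk_X, map_one, sub_eq_zero] at ha hb ⊢
  exact pow_gcd_eq_one.mpr ⟨ha, hb⟩

theorem not_dvd_X_sub_one (r : ℕ) (hrF : (r : F) ≠ 0) (f : F[X]) (hf : Irreducible f)
    (hfd : f ∣ ∑ i ∈ Finset.range r, (X : F[X]) ^ i) : ¬ f ∣ X ^ 1 - 1 := by
  intro h
  rw [pow_one] at h
  have h1 : (X - C (1 : F)) ∣ f := by
    apply (Irreducible.dvd_symm hf (irreducible_X_sub_C 1))
    rwa [C_1]
  have h2 := (dvd_iff_isRoot.mp (h1.trans hfd))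
  rw [IsRoot.def, eval_geom_sum] at h2
  simp at h2
  exact hrF h2

/-- in the odd case, irreducible factors are not self-dual -/
theorem coprime_of_odd [Fintype F] (r : ℕ) [Fact r.Prime] (hr2 : r ≠ 2) (hrF : (r : F) ≠ 0)
    (f : F[X]) (hf : Irreducible f) (hfd : f ∣ ∑ i ∈ Finset.range r, (X : F[X]) ^ i)
    (hodd : Odd (orderOf ((Fintype.card F : ℕ) : ZMod r))) :
    IsCoprime f (f.comp (X ^ (r - 1))) := by
  have hr : r.Prime := Fact.out
  have hfr : f ∣ X ^ r - 1 := by
    rw [← geom_sum_mul]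
    exact hfd.mul_right _
  have hno := not_dvd_X_sub_one r hrF f hf hfd
  rcases coprime_or r hr.pos f hf hfr with h | h | ⟨j, -, h⟩
  · exact h
  · exfalso
    apply hno
    have := dvd_gcd_pow f r 2 hfr h
    rwa [(Nat.coprime_primes hr Nat.prime_two).mpr hr2] at this
  · exfalso
    by_cases hd : r ∣ Fintype.card F ^ j + 1
    · have h1 : ((Fintype.card F : ℕ) : ZMod r) ^ j = -1 := by
        rw [← ZMod.natCast_eq_zero_iff] at hd
        push_cast at hd
        exact eq_neg_of_add_eq_zero_left hd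
      have h2 : orderOf ((Fintype.card F : ℕ) : ZMod r) ∣ 2 * j := by
        rw [orderOf_dvd_iff_pow_eq_one, mul_comm, pow_mul, h1]; simp
      have h3 : orderOf ((Fintype.card F : ℕ) : ZMod r) ∣ j :=
        (Nat.Coprime.dvd_of_dvd_mul_left (Nat.coprime_two_right.mpr hodd) h2)
      rw [orderOf_dvd_iff_pow_eq_one, h1] at h3
      have h4 : ((2 : ℕ) : ZMod r) = 0 := by
        push_cast
        linear_combination -h3
      rw [ZMod.natCast_eq_zero_iff] at h4
      exact hr2 ((Nat.prime_dvd_prime_iff_eq hr Nat.prime_two).mp h4)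
    · apply hno
      have := dvd_gcd_pow f r _ hfr h
      rwa [(Nat.Prime.coprime_iff_not_dvd hr).mpr hd] at this

theorem sp_core_odd [Fintype F] (r : ℕ) [Fact r.Prime] (hr2 : r ≠ 2) (hrF : (r : F) ≠ 0)
    (B A : Matrix (Fin n ⊕ Fin n) (Fin n ⊕ Fin n) F) (hBs : adj B * B = 1) (hAs : adj A * A = 1)
    (hB : B ^ r = 1) (hB1 : B ≠ 1) (hN : IsNilpotent (A - 1)) (hA1 : A ≠ 1) (hc : Commute B A)
    (hodd : Odd (orderOf ((Fintype.card F : ℕ) : ZMod r))) :
    orderOf ((Fintype.card F : ℕ) : ZMod r) + 1 ≤ n := by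
  classical
  have hr : r.Prime := Fact.out
  set k := orderOf ((Fintype.card F : ℕ) : ZMod r) with hk
  set Φ : F[X] := ∑ i ∈ Finset.range r, (X : F[X]) ^ i with hΦ
  have hΦ0 : Φ ≠ 0 := by
    intro h
    have := congrArg (eval 1) h
    rw [hΦ, eval_geom_sum] at this
    simp at this
    exact hrF this
  have hT1 : aeval B Φ * (B - 1) = 0 := by
    have : aeval B Φ = ∑ i ∈ Finset.range r, B ^ i := by
      rw [hΦ, map_sum]; simp
    rw [this, geom_sum_mul, hB, sub_self]
  have hdetT : (aeval B Φ).det = 0 := by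
    by_contra h
    have h1 : IsUnit (aeval B Φ) := (Matrix.isUnit_iff_isUnit_det _).mpr (isUnit_iff_ne_zero.mpr h)
    exact hB1 (sub_eq_zero.mp (h1.mul_right_eq_zero.mp hT1))
  obtain ⟨f, hf, hfd, hdet⟩ := exists_irr B Φ hΦ0 hdetT
  have hcop := coprime_of_odd r hr2 hrF f hf hfd hodd
  set P := aeval B f with hP
  set KP := LinearMap.ker (mulVecLin P) with hKP
  have memK : ∀ w, w ∈ KP ↔ P *ᵥ w = 0 := by
    intro w; rw [hKP, LinearMap.mem_ker, Matrix.mulVecLin_apply]
  have hPB : Commute P B := commute_aeval B B (Commute.refl B) f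
  set N := A - 1 with hNdef
  have hBN : Commute B N := hc.sub_right (Commute.one_right B)
  have hPN : Commute P N := commute_aeval B N hBN f
  have hN0 : N ≠ 0 := sub_ne_zero.mpr hA1
  obtain ⟨v, hv0, hv⟩ := Matrix.exists_mulVec_eq_zero_iff.mpr hdet
  have hKB : ∀ w ∈ KP, B *ᵥ w ∈ KP := by
    intro w hw
    rw [memK] at hw ⊢
    rw [mulVec_mulVec, hPB.eq, ← mulVec_mulVec, hw, mulVec_zero]
  have hKfix : ∀ w ∈ KP, B *ᵥ w = w → w = 0 := by
    intro w hw hBw
    rw [memK] at hw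
    obtain ⟨c, hc'⟩ := hfd
    have h1 : aeval B Φ *ᵥ w = 0 := by
      rw [hc', mul_comm, map_mul, ← mulVec_mulVec, hw, mulVec_zero]
    have h2 : ∀ i : ℕ, (B ^ i) *ᵥ w = w := by
      intro i
      induction i with
      | zero => simp
      | succ i ih => rw [pow_succ, ← Matrix.mulVec_mulVec, hBw, ih]
    have h3 : aeval B Φ = ∑ i ∈ Finset.range r, B ^ i := by
      rw [hΦ, map_sum]; simp
    rw [h3, Matrix.sum_mulVec] at h1
    simp only [h2, Finset.sum_const, Finset.card_range] at h1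
    rw [← Nat.cast_smul_eq_nsmul F] at h1
    exact (smul_eq_zero.mp h1).resolve_left hrF
  have hd1 : k ∣ Module.finrank F KP := orderOf_dvd_finrank r B hB KP hKB hKfix
  have hpos1 : 0 < Module.finrank F KP := by
    rw [Module.finrank_pos_iff_exists_ne_zero]
    exact ⟨⟨v, (memK v).mpr hv⟩, fun h => hv0 (congrArg Subtype.val h)⟩
  have hle : Module.finrank F KP ≤ n := finrank_ker_le B hBs r hr.pos hB f hcop
  have hk1 := Nat.le_of_dvd hpos1 hd1
  by_contra hlt
  have hkn : k = n := by omega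
  have hfin : Module.finrank F KP = n := by omega
  have hKR : KP = LinearMap.range (mulVecLin (adj P)) := by
    have h0 : KP ≤ LinearMap.range (mulVecLin (adj P)) := ker_le_range B hBs r hr.pos hB f hcop
    have : Module.finrank F (LinearMap.range (mulVecLin (adj P))) + Module.finrank F KP = 2 * n :=
      finrank_range_adj P
    exact Submodule.eq_of_le_of_finrank_le h0 (by omega)
  -- the kernel of `N` on `KP`
  set Kn : Submodule F (Fin n ⊕ Fin n → F) := LinearMap.ker (Matrix.mulVecLin N) with hKn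
  have memKn : ∀ w, w ∈ Kn ↔ N *ᵥ w = 0 := by
    intro w; rw [hKn, LinearMap.mem_ker, Matrix.mulVecLin_apply]
  obtain ⟨w, hwK, hwN, hw0⟩ : ∃ w, w ∈ KP ∧ w ∈ Kn ∧ w ≠ 0 := by
    obtain ⟨m, hm⟩ := hN
    have hex : ∃ m, (N ^ m) *ᵥ v = 0 := ⟨m, by rw [hm, zero_mulVec]⟩
    set m0 := Nat.find hex with hm0
    have h1 : (N ^ m0) *ᵥ v = 0 := Nat.find_spec hex
    have h2 : 1 ≤ m0 := by
      by_contra hlt
      have : m0 = 0 := by omega
      rw [this, pow_zero, one_mulVec] at h1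
      exact hv0 h1
    refine ⟨(N ^ (m0 - 1)) *ᵥ v, ?_, ?_, Nat.find_min hex (by omega)⟩
    · rw [memK, mulVec_mulVec, (hPN.pow_right _).eq, ← mulVec_mulVec, hv, mulVec_zero]
    · rw [memKn, mulVec_mulVec, ← pow_succ', Nat.sub_add_cancel h2, h1]
  have hKnB : ∀ w ∈ Kn, B *ᵥ w ∈ Kn := by
    intro w hw
    rw [memKn] at hw ⊢
    rw [Matrix.mulVec_mulVec, ← hBN.eq, ← Matrix.mulVec_mulVec, hw, Matrix.mulVec_zero]
  have hd2 : k ∣ Module.finrank F (KP ⊓ Kn : Submodule F (Fin n ⊕ Fin n → F)) :=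
    orderOf_dvd_finrank r B hB (KP ⊓ Kn) (fun w hw => ⟨hKB w hw.1, hKnB w hw.2⟩)
      (fun w hw => hKfix w hw.1)
  have hpos2 : 0 < Module.finrank F (KP ⊓ Kn : Submodule F (Fin n ⊕ Fin n → F)) := by
    rw [Module.finrank_pos_iff_exists_ne_zero]
    exact ⟨⟨w, ⟨hwK, hwN⟩⟩, fun h => hw0 (congrArg Subtype.val h)⟩
  have hk2 := Nat.le_of_dvd hpos2 hd2
  have heq : KP ⊓ Kn = KP := Submodule.eq_of_le_of_finrank_le inf_le_left (by omega)
  have hNP : N * adj P = 0 := by
    apply Matrix.toLin'.injective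
    apply LinearMap.ext
    intro u
    rw [Matrix.toLin'_apply, map_zero, LinearMap.zero_apply, ← mulVec_mulVec, ← memKn]
    have h1 : adj P *ᵥ u ∈ KP := by
      rw [hKR]; exact ⟨u, rfl⟩
    rw [← heq] at h1
    exact h1.2
  have h5 : P * adj N = 0 := by
    have := congrArg adj hNP
    rwa [adj_mul, adj_adj, adj_zero] at this
  have h6 : adj N * A = -N := by
    rw [hNdef, adj_sub, adj_one, sub_mul, hAs, one_mul]; abel
  have h7 : P * N = 0 := by
    have : P * (adj N * A) = 0 := by rw [← mul_assoc, h5, zero_mul]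
    rw [h6, mul_neg, neg_eq_zero] at this
    exact this
  obtain ⟨a, b, hab⟩ := hcop
  have h8 := congrArg (aeval B) hab
  rw [map_add, map_mul, map_mul, map_one, ← adj_aeval_eq B hBs r hr.pos hB] at h8
  apply hN0
  have h9 : adj P * N = 0 := by
    have : Commute (adj P) N := by
      rw [hP, adj_aeval_eq B hBs r hr.pos hB]
      exact commute_aeval B N hBN _
    rw [this.eq, hNP]
  calc N = (aeval B a * P + aeval B b * adj P) * N := by rw [h8, one_mul]
    _ = 0 := by rw [add_mul, mul_assoc, mul_assoc, h7, h9, mul_zero, mul_zero, add_zero]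

end Cfsg.Agent.Lib.Helper42.PGraphS
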