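import Mathlib
import Cfsg.Agent.Lib.Helper42.SpecPSp3

/-!
Spectrum of `PSp_{2n}(q)`, `q` odd: the two bad cases.
-/

set_option autoImplicit false
set_option linter.unusedSectionVars false

namespace Cfsg.Agent.Lib.Helper42.SpecPSp

open Matrix Polynomial Module
open Cfsg.Agent.Lib.Helper42.SpecPSL

variable {F : Type*} [Field F] [Fintype F] {n : ℕ}

theorem bad1_sp (p : ℕ) [Fact p.Prime] [CharP F p] (hn : 0 < n)
    (X : Matrix (Fin n ⊕ Fin n) (Fin n ⊕ Fin n) F) (hX : adj X * X = 1) (f : F[X])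
    (hf : Irreducible f) (e : ℕ) (h : (aeval X f) ^ e = 0) :
    X ^ (2 * p ^ Nat.clog p (2 * n)) = 1 ∨
    ∃ j D, j * D = n ∧ X ^ ((Fintype.card F ^ j + 1) * p ^ Nat.clog p D) = 1 := by
  classical
  have hp1 : 1 < p := (Fact.out : p.Prime).one_lt
  have : Nonempty (Fin n ⊕ Fin n) := ⟨Sum.inl ⟨0, hn⟩⟩
  have : Fact (Irreducible f) := ⟨hf⟩
  have hcard : Fintype.card (Fin n ⊕ Fin n) = 2 * n := by simp; ring
  set Y := X ^ (Fintype.card F ^ e) with hYdef
  have hY : aeval Y f = 0 := bad_pow' X f e h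
  obtain ⟨φ, hφinj, hφ, D, h4⟩ := irr_model' f Y hY
  have : Module.Finite F (AdjoinRoot f) := (AdjoinRoot.powerBasis hf.ne_zero).finite
  have : Finite (AdjoinRoot f) := Module.finite_of_finite F
  set y := AdjoinRoot.root f with hy
  have hX' : X * adj X = 1 := mul_eq_one_comm.mp hX
  have hU : adj Y * Y = 1 := by
    have hcomm : Commute (adj X) X := by
      show _ * _ = _ * _
      rw [hX, hX']
    rw [hYdef, adj_pow, ← hcomm.mul_pow, hX, one_pow]
  have hU' : Y * adj Y = 1 := mul_eq_one_comm.mp hU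
  have hy0 : y ≠ 0 := by
    intro h0
    rw [h0, map_zero] at hφ
    rw [← hφ, mul_zero] at hU
    exact zero_ne_one hU
  have hinv : φ y⁻¹ = adj Y := by
    have h1 : φ y⁻¹ * Y = 1 := by rw [← hφ, ← map_mul, inv_mul_cancel₀ hy0, map_one]
    calc φ y⁻¹ = φ y⁻¹ * (Y * adj Y) := by rw [hU', mul_one]
      _ = adj Y := by rw [← mul_assoc, h1, one_mul]
  have hroot : f.eval₂ (Algebra.ofId F (AdjoinRoot f)) y⁻¹ = 0 := by
    apply hφinj
    have : f.eval₂ (Algebra.ofId F (AdjoinRoot f)) y⁻¹ = aeval y⁻¹ f := rfl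
    rw [this, ← Polynomial.aeval_algHom_apply, hinv, ← adj_aeval, hY, adj_zero, map_zero]
  let τ : AdjoinRoot f →ₐ[F] AdjoinRoot f := AdjoinRoot.liftAlgHom f (Algebra.ofId F _) y⁻¹ hroot
  have hτy : τ y = y⁻¹ := AdjoinRoot.liftAlgHom_root f _ _ hroot
  have hττ : ∀ a, τ (τ a) = a := by
    have : τ.comp τ = AlgHom.id F _ := by
      apply AdjoinRoot.algHom_ext
      show τ (τ y) = y
      rw [hτy, map_inv₀, hτy, inv_inv]
    intro a
    exact congrArg (fun g : AdjoinRoot f →ₐ[F] AdjoinRoot f => g a) this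
  have hd : 0 < f.natDegree := hf.natDegree_pos
  rcases invol_field' τ hττ with h1 | ⟨j, hj, h1⟩
  · left
    have hy2 : y ^ 2 = 1 := by
      have := h1 y
      rw [hτy] at this
      rw [sq]
      nth_rewrite 1 [← this]
      exact inv_mul_cancel₀ hy0
    apply pow_eq_one_of_local p X f hf e h 2 (dvd_of_root_pow f 2 hy2) (2 * n) _ _
      (Nat.le_pow_clog hp1 _)
    rw [hcard]
    exact Nat.le_mul_of_pos_left _ hd
  · right
    refine ⟨j, D, ?_, ?_⟩
    · rw [hj, hcard, mul_assoc] at h4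
      omega
    · have hy2 : y ^ (Fintype.card F ^ j + 1) = 1 := by
        rw [pow_succ, ← h1, hτy, inv_mul_cancel₀ hy0]
      apply pow_eq_one_of_local p X f hf e h _ (dvd_of_root_pow f _ hy2) D _ _
        (Nat.le_pow_clog hp1 _)
      rw [← finrank_adjoinRoot f hf, h4]

theorem idem_factor' {ι : Type*} [Fintype ι] [DecidableEq ι] (e : Matrix ι ι F) (he : e * e = e) :
    ∃ (k : ℕ) (A : Matrix ι (Fin k) F) (B : Matrix (Fin k) ι F), A * B = e ∧ B * A = 1 := by
  classical
  let E := Matrix.toLin' e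
  let W := LinearMap.range E
  let b := Module.finBasis F W
  let s := Pi.basisFun F ι
  refine ⟨finrank F W, LinearMap.toMatrix b s W.subtype, LinearMap.toMatrix s b E.rangeRestrict, ?_, ?_⟩
  · rw [← LinearMap.toMatrix_comp]
    have : W.subtype ∘ₗ E.rangeRestrict = E := by
      ext v; rfl
    rw [this, LinearMap.toMatrix_eq_toMatrix', LinearMap.toMatrix'_toLin']
  · rw [← LinearMap.toMatrix_comp]
    have : E.rangeRestrict ∘ₗ W.subtype = LinearMap.id := by
      apply LinearMap.ext
      rintro ⟨w, v, rfl⟩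
      apply Subtype.ext
      show E (E v) = E v
      show Matrix.toLin' e (Matrix.toLin' e v) = _
      rw [← LinearMap.comp_apply, ← Matrix.toLin'_mul, he]
    rw [this, LinearMap.toMatrix_id]

theorem bad2_sp (p : ℕ) [Fact p.Prime] [CharP F p] (hn : 0 < n)
    (X : Matrix (Fin n ⊕ Fin n) (Fin n ⊕ Fin n) F) (hX : adj X * X = 1) (o : ℕ) (ho : 0 < o)
    (hXo : X ^ o = 1) (f : F[X]) (hf : Irreducible f) (a : ℕ)
    (e : Matrix (Fin n ⊕ Fin n) (Fin n ⊕ Fin n) F) (he : e * e = e) (hce : Commute e X)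
    (hse : adj e = 1 - e) (h : (aeval X f) ^ a * e = 0) :
    ∃ d D, d * D = n ∧ X ^ ((Fintype.card F ^ d - 1) * p ^ Nat.clog p D) = 1 := by
  classical
  have hp1 : 1 < p := (Fact.out : p.Prime).one_lt
  obtain ⟨k, A, B, hAB, hBA⟩ := idem_factor' e he
  have heA : e * A = A := by rw [← hAB, Matrix.mul_assoc, hBA, Matrix.mul_one]
  have hBe : B * e = B := by rw [← hAB, ← Matrix.mul_assoc, hBA, Matrix.one_mul]
  have he1 : e * (1 - e) = 0 := by rw [mul_sub, mul_one, he, sub_self]
  have he2 : (1 - e) * e = 0 := by rw [sub_mul, one_mul, he, sub_self]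
  set A' : Matrix (Fin n ⊕ Fin n) (Fin k) F := -(J (Fin n) F) * Bᵀ with hA'
  set B' : Matrix (Fin k) (Fin n ⊕ Fin n) F := Aᵀ * J (Fin n) F with hB'
  have hAB' : A' * B' = 1 - e := by
    rw [← hse, adj, ← hAB, transpose_mul, hA', hB']
    simp only [Matrix.mul_assoc]
  have hBA' : B' * A' = 1 := by
    rw [hA', hB']
    calc Aᵀ * J (Fin n) F * (-J (Fin n) F * Bᵀ) = Aᵀ * (-(J (Fin n) F * J (Fin n) F)) * Bᵀ := by
          simp only [Matrix.mul_assoc, Matrix.neg_mul, Matrix.mul_neg]
      _ = 1 := by rw [JJ, neg_neg, Matrix.mul_one, ← transpose_mul, hBA, transpose_one]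
  have heA' : (1 - e) * A' = A' := by rw [← hAB', Matrix.mul_assoc, hBA', Matrix.mul_one]
  have hBe' : B' * (1 - e) = B' := by rw [← hAB', ← Matrix.mul_assoc, hBA', Matrix.one_mul]
  -- `n = k`
  have hnk : n = k := by
    have hPR : fromCols A A' * fromRows B B' = 1 := by
      rw [fromCols_mul_fromRows, hAB, hAB']; abel
    have hRP : fromRows B B' * fromCols A A' = 1 := by
      rw [fromRows_mul_fromCols, hBA, hBA']
      have z1 : B * A' = 0 := by
        rw [← hBe, ← heA', Matrix.mul_assoc, ← Matrix.mul_assoc e, he1, Matrix.zero_mul, Matrix.mul_zero]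
      have z2 : B' * A = 0 := by
        rw [← hBe', ← heA, Matrix.mul_assoc, ← Matrix.mul_assoc (1 - e), he2, Matrix.zero_mul,
          Matrix.mul_zero]
      rw [z1, z2, fromBlocks_one]
    have h1 : 2 * n ≤ 2 * k := by
      have := Matrix.rank_mul_le_left (fromCols A A') (fromRows B B')
      rw [hPR, Matrix.rank_one, Fintype.card_sum, Fintype.card_fin] at this
      have h2 := Matrix.rank_le_card_width (fromCols A A')
      rw [Fintype.card_sum, Fintype.card_fin] at h2
      omega
    have h2 : 2 * k ≤ 2 * n := by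
      have := Matrix.rank_mul_le_left (fromRows B B') (fromCols A A')
      rw [hRP, Matrix.rank_one, Fintype.card_sum, Fintype.card_fin] at this
      have h2 := Matrix.rank_le_card_width (fromRows B B')
      rw [Fintype.card_sum, Fintype.card_fin] at h2
      omega
    omega
  have hk : 0 < k := by omega
  have : Nonempty (Fin k) := ⟨⟨0, hk⟩⟩
  set g := B * X * A with hg
  have hgpow : ∀ j : ℕ, g ^ j = B * X ^ j * A := by
    intro j
    induction j with
    | zero => simp [hBA]
    | succ j ih =>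
      rw [pow_succ, ih, hg]
      calc B * X ^ j * A * (B * X * A) = B * X ^ j * ((A * B) * X) * A := by simp only [Matrix.mul_assoc]
        _ = B * X ^ j * (X * e) * A := by rw [hAB, hce.eq]
        _ = B * X ^ (j + 1) * (e * A) := by rw [pow_succ]; simp only [Matrix.mul_assoc]
        _ = _ := by rw [heA]
  have hgae : ∀ P : F[X], aeval g P = B * aeval X P * A := by
    intro P
    induction P using Polynomial.induction_on' with
    | add p r hp hr => rw [map_add, map_add, hp, hr, Matrix.mul_add, Matrix.add_mul]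
    | monomial j a =>
      rw [Polynomial.aeval_monomial, Polynomial.aeval_monomial, ← Algebra.smul_def, ← Algebra.smul_def,
        hgpow, Matrix.mul_smul, Matrix.smul_mul]
  have hgf : (aeval g f) ^ a = 0 := by
    rw [← map_pow, hgae, map_pow, ← heA, ← Matrix.mul_assoc, Matrix.mul_assoc B, h, Matrix.mul_zero,
      Matrix.zero_mul]
  have hlift : ∀ j : ℕ, X ^ j * e = A * g ^ j * B := by
    intro j
    rw [hgpow]
    calc X ^ j * e = e * X ^ j * e := by rw [(hce.pow_right j).eq, mul_assoc, he]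
      _ = (A * B) * X ^ j * (A * B) := by rw [hAB]
      _ = _ := by simp only [Matrix.mul_assoc]
  have : Fact (Irreducible f) := ⟨hf⟩
  have hY : aeval (g ^ (Fintype.card F ^ a)) f = 0 := bad_pow' g f a hgf
  obtain ⟨φ, hφinj, hφ, D, h4⟩ := irr_model' f _ hY
  have : Module.Finite F (AdjoinRoot f) := (AdjoinRoot.powerBasis hf.ne_zero).finite
  have : Finite (AdjoinRoot f) := Module.finite_of_finite F
  have : Fintype (AdjoinRoot f) := Fintype.ofFinite _
  set y := AdjoinRoot.root f with hy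
  have hy0 : y ≠ 0 := by
    intro h0
    have h1 : y ^ o = 1 := by
      apply hφinj
      rw [map_pow, hφ, ← pow_mul, mul_comm, pow_mul, hgpow, hXo, Matrix.mul_one, hBA, one_pow, map_one]
    rw [h0, zero_pow ho.ne'] at h1
    exact zero_ne_one h1
  have hy1 : y ^ (Fintype.card F ^ f.natDegree - 1) = 1 := by
    rw [← finrank_adjoinRoot f hf, ← Module.card_eq_pow_finrank (K := F) (V := AdjoinRoot f)]
    exact FiniteField.pow_card_sub_one_eq_one y hy0
  rw [finrank_adjoinRoot f hf, Fintype.card_fin] at h4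
  refine ⟨f.natDegree, D, by omega, ?_⟩
  set M := (Fintype.card F ^ f.natDegree - 1) * p ^ Nat.clog p D with hM
  have hgM : g ^ M = 1 :=
    pow_eq_one_of_local p g f hf a hgf _ (dvd_of_root_pow f _ hy1) D _
      (by rw [Fintype.card_fin, h4]) (Nat.le_pow_clog hp1 _)
  have h5 : X ^ M * e = e := by rw [hlift, hgM, Matrix.mul_one, hAB]
  have h6 : (1 - e) * (adj X) ^ M = 1 - e := by
    have := congrArg adj h5
    rwa [adj_mul, adj_pow, hse] at this
  have h7 : (adj X) ^ M * X ^ M = 1 := by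
    have hcomm : Commute (adj X) X := by
      show _ * _ = _ * _
      rw [hX, mul_eq_one_comm.mp hX]
    rw [← hcomm.mul_pow, hX, one_pow]
  have h8 : (1 - e) * X ^ M = 1 - e := by
    have := congrArg (· * X ^ M) h6
    simp only [mul_assoc, h7, mul_one] at this
    exact this.symm
  have h9 : X ^ M = X ^ M * e + (1 - e) * X ^ M := by
    rw [sub_mul, one_mul, (hce.pow_right M).eq]; abel
  rw [h9, h5, h8]; abel

end Cfsg.Agent.Lib.Helper42.SpecPSp
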