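import Mathlib
import Cfsg.Agent.Lib.Helper5.SpEmbed
import Cfsg.Agent.Lib.Helper42.SpecPSp1

/-!
Spectrum of `PSp_{2n}(q)`, `q` odd: transfer from abstract symplectic spaces; orthogonal sums.
-/

set_option autoImplicit false
set_option linter.unusedSectionVars false

namespace Cfsg.Agent.Lib.Helper42.SpecPSp

open Matrix Module Cfsg.Agent.Lib.Helper13 Cfsg.Agent.Lib.Helper94 Cfsg.Agent.Lib.Helper5

variable {F : Type*} [Field F]

theorem transfer_sp {U : Type*} [AddCommGroup U] [Module F U] [FiniteDimensional F U]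
    (B : LinearMap.BilinForm F U) (hB : B.Nondegenerate) (hA : B.IsAlt) (k : ℕ)
    (hk : finrank F U = 2 * k) :
    ∃ Ψ : Module.End F U ≃ₐ[F] Matrix (Fin k ⊕ Fin k) (Fin k ⊕ Fin k) F,
      ∀ g : Module.End F U, (∀ u v, B (g u) (g v) = B u v) → Ψ g ∈ symplecticGroup (Fin k) F := by
  classical
  obtain ⟨b, hb⟩ := exists_symplectic_basis B hB hA k hk
  refine ⟨LinearMap.toMatrixAlgEquiv b, ?_⟩
  intro g hg
  rw [mem_symplecticGroup_iff_preserves]
  intro u v
  obtain ⟨u, rfl⟩ := b.equivFun.surjective u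
  obtain ⟨v, rfl⟩ := b.equivFun.surjective v
  have h1 : ∀ w, LinearMap.toMatrixAlgEquiv b g *ᵥ b.equivFun w = b.equivFun (g w) := by
    intro w
    exact LinearMap.toMatrix_mulVec_repr b b g w
  rw [h1, h1, hb, hb, hg]

theorem nondeg_of_alt {U : Type*} [AddCommGroup U] [Module F U] (B : LinearMap.BilinForm F U)
    (hA : B.IsAlt) (h : ∀ x, (∀ y, B x y = 0) → x = 0) : B.Nondegenerate := by
  refine ⟨h, ?_⟩
  intro y hy
  apply h
  intro x
  rw [← hA.neg_eq, hy, neg_zero]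

/-- the orthogonal sum of two forms -/
noncomputable def prodForm {U₁ U₂ : Type*} [AddCommGroup U₁] [Module F U₁] [AddCommGroup U₂] [Module F U₂]
    (B₁ : LinearMap.BilinForm F U₁) (B₂ : LinearMap.BilinForm F U₂) :
    LinearMap.BilinForm F (U₁ × U₂) :=
  B₁.comp (LinearMap.fst F U₁ U₂) (LinearMap.fst F U₁ U₂) +
    B₂.comp (LinearMap.snd F U₁ U₂) (LinearMap.snd F U₁ U₂)

theorem prodForm_apply {U₁ U₂ : Type*} [AddCommGroup U₁] [Module F U₁] [AddCommGroup U₂] [Module F U₂]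
    (B₁ : LinearMap.BilinForm F U₁) (B₂ : LinearMap.BilinForm F U₂) (x y : U₁ × U₂) :
    prodForm B₁ B₂ x y = B₁ x.1 y.1 + B₂ x.2 y.2 := rfl

theorem sum_sp (d k : ℕ) :
    ∃ Φ : (Matrix (Fin d ⊕ Fin d) (Fin d ⊕ Fin d) F × Matrix (Fin k ⊕ Fin k) (Fin k ⊕ Fin k) F) →ₐ[F]
      Matrix (Fin (d + k) ⊕ Fin (d + k)) (Fin (d + k) ⊕ Fin (d + k)) F,
      Function.Injective Φ ∧ ∀ X₁ X₂, X₁ ∈ symplecticGroup (Fin d) F → X₂ ∈ symplecticGroup (Fin k) F →
        Φ (X₁, X₂) ∈ symplecticGroup (Fin (d + k)) F := by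
  classical
  set B := prodForm (sympB d F) (sympB k F) with hBdef
  have hA : B.IsAlt := by
    intro x
    show B x x = 0
    rw [hBdef, prodForm_apply, sympB_isAlt d x.1, sympB_isAlt k x.2, add_zero]
  have hB : B.Nondegenerate := by
    apply nondeg_of_alt B hA
    rintro ⟨x₁, x₂⟩ hx
    have h1 : x₁ = 0 := by
      apply (sympB_nondegenerate d).1
      intro y
      have := hx (y, 0)
      rw [hBdef, prodForm_apply] at this
      simpa using this
    have h2 : x₂ = 0 := by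
      apply (sympB_nondegenerate k).1
      intro y
      have := hx (0, y)
      rw [hBdef, prodForm_apply] at this
      simpa using this
    rw [h1, h2]; rfl
  obtain ⟨Ψ, hΨ⟩ := transfer_sp B hB hA (d + k) (by
    rw [Module.finrank_prod, Module.finrank_fintype_fun_eq_card, Module.finrank_fintype_fun_eq_card]
    simp; ring)
  let T : (Matrix (Fin d ⊕ Fin d) (Fin d ⊕ Fin d) F × Matrix (Fin k ⊕ Fin k) (Fin k ⊕ Fin k) F) →ₐ[F]
      (Module.End F (Fin d ⊕ Fin d → F) × Module.End F (Fin k ⊕ Fin k → F)) :=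
    AlgHom.prodMap (Matrix.toLinAlgEquiv' (R := F) (n := Fin d ⊕ Fin d)).toAlgHom
      (Matrix.toLinAlgEquiv' (R := F) (n := Fin k ⊕ Fin k)).toAlgHom
  refine ⟨Ψ.toAlgHom.comp ((LinearMap.prodMapAlgHom F _ _).comp T), ?_, ?_⟩
  · intro x y hxy
    have h1 := Ψ.injective hxy
    have h2 : ∀ v, Matrix.toLin' x.1 v = Matrix.toLin' y.1 v := by
      intro v
      have := congrArg (fun g : Module.End F ((Fin d ⊕ Fin d → F) × (Fin k ⊕ Fin k → F)) => (g (v, 0)).1) h1
      exact this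
    have h3 : ∀ v, Matrix.toLin' x.2 v = Matrix.toLin' y.2 v := by
      intro v
      have := congrArg (fun g : Module.End F ((Fin d ⊕ Fin d → F) × (Fin k ⊕ Fin k → F)) => (g (0, v)).2) h1
      exact this
    exact Prod.ext (Matrix.toLin'.injective (LinearMap.ext h2)) (Matrix.toLin'.injective (LinearMap.ext h3))
  · intro X₁ X₂ h1 h2
    apply hΨ
    rintro ⟨u₁, u₂⟩ ⟨v₁, v₂⟩
    rw [mem_symplecticGroup_iff_preserves] at h1 h2
    show sympB d F (X₁ *ᵥ u₁) (X₁ *ᵥ v₁) + sympB k F (X₂ *ᵥ u₂) (X₂ *ᵥ v₂) = sympB d F u₁ v₁ + sympB k F u₂ v₂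
    simp only [sympB_apply, h1, h2]

end Cfsg.Agent.Lib.Helper42.SpecPSp
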