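import Mathlib
import Cfsg.Agent.Lib.Helper42.SpecPSp5

/-!
Spectrum of `PSp_{2n}(q)`, `q` odd: the two cyclic maximal tori.
-/

set_option autoImplicit false
set_option linter.unusedSectionVars false

namespace Cfsg.Agent.Lib.Helper42.SpecPSp

open Matrix Module

variable {F : Type*} [Field F] [Fintype F]

theorem exists_torus_plus (p : ℕ) [Fact p.Prime] [CharP F p] (hp2 : p ≠ 2) (d : ℕ) (hd : 0 < d) :
    ∃ X : Matrix (Fin d ⊕ Fin d) (Fin d ⊕ Fin d) F, X ∈ symplecticGroup (Fin d) F ∧
      (∀ j, X ^ j = 1 ↔ (Fintype.card F ^ d + 1) ∣ j) ∧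
      (∀ j, X ^ (2 * j) = 1 → X ^ j = 1 ∨ X ^ j = -1) := by
  classical
  have : NeZero (2 * d) := ⟨by omega⟩
  have : Nonempty (Fin d ⊕ Fin d) := ⟨Sum.inl ⟨0, hd⟩⟩
  let K := FiniteField.Extension F p (2 * d)
  have hK : Module.finrank F K = 2 * d := FiniteField.finrank_extension F p (2 * d)
  have : Fintype K := Fintype.ofFinite K
  have hq : 2 ≤ Fintype.card F := Fintype.one_lt_card
  set q := Fintype.card F with hqdef
  have hcardK : Fintype.card K = q ^ (2 * d) := by
    rw [← Nat.card_eq_fintype_card, FiniteField.natCard_extension, Nat.card_eq_fintype_card]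
  have h2F : (2 : F) ≠ 0 := by
    intro h
    have h1 : ((2 : ℕ) : F) = 0 := by exact_mod_cast h
    rw [CharP.cast_eq_zero_iff F p] at h1
    exact hp2 ((Nat.prime_dvd_prime_iff_eq Fact.out Nat.prime_two).mp h1)
  let σ : K ≃ₐ[F] K := (FiniteField.frobeniusAlgEquivOfAlgebraic F K) ^ d
  have hσ : ∀ a, σ a = a ^ (q ^ d) := by
    intro a
    show ((FiniteField.frobeniusAlgEquivOfAlgebraic F K) ^ d) a = _
    rw [AlgEquiv.coe_pow, FiniteField.coe_frobeniusAlgEquivOfAlgebraic_iterate]
  have hσσ : ∀ a, σ (σ a) = a := by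
    intro a
    rw [hσ, hσ, ← pow_mul, ← pow_add, ← two_mul, ← hcardK, FiniteField.pow_card]
  obtain ⟨ε, hε0, hε⟩ : ∃ ε : K, ε ≠ 0 ∧ σ ε = -ε := by
    by_cases hall : ∀ x, σ x = x
    · exfalso
      have h1 : (FiniteField.frobeniusAlgEquivOfAlgebraic F K) ^ d = 1 := AlgEquiv.ext hall
      have h2 := orderOf_dvd_of_pow_eq_one h1
      rw [FiniteField.orderOf_frobeniusAlgEquivOfAlgebraic, hK] at h2
      have := Nat.le_of_dvd hd h2
      omega
    · push Not at hall
      obtain ⟨x, hx⟩ := hall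
      exact ⟨σ x - x, sub_ne_zero.mpr hx, by rw [map_sub, hσσ]; ring⟩
  let L : K →ₗ[F] K := (LinearMap.mulLeft F ε) ∘ₗ σ.toLinearMap
  let B : LinearMap.BilinForm F K := (Algebra.traceForm F K).comp L LinearMap.id
  have hBapp : ∀ x y, B x y = Algebra.trace F K (ε * σ x * y) := fun x y => rfl
  have hA : B.IsAlt := by
    intro x
    show B x x = 0
    rw [hBapp]
    have h1 : σ (ε * σ x * x) = -(ε * σ x * x) := by
      rw [map_mul, map_mul, hσσ, hε]; ring
    have h2 := Algebra.trace_eq_of_algEquiv σ (ε * σ x * x)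
    rw [h1, map_neg] at h2
    have h3 : (2 : F) * Algebra.trace F K (ε * σ x * x) = 0 := by linear_combination -h2
    exact (mul_eq_zero.mp h3).resolve_left h2F
  have hB : B.Nondegenerate := by
    apply nondeg_of_alt B hA
    intro x hx
    have h1 : ε * σ x = 0 := (traceForm_nondegenerate F K).1 _ (fun y => hx y)
    have h2 : σ x = 0 := (mul_eq_zero.mp h1).resolve_left hε0
    exact (map_eq_zero σ).mp h2
  obtain ⟨Ψ, hΨ⟩ := transfer_sp B hB hA d hK
  obtain ⟨ζ, hζ⟩ := IsCyclic.exists_generator (α := Kˣ)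
  have hord : orderOf (ζ : K) = q ^ (2 * d) - 1 := by
    rw [orderOf_units, orderOf_eq_card_of_forall_mem_zpowers hζ, Nat.card_units,
      Nat.card_eq_fintype_card, hcardK]
  have hQ : 2 ≤ q ^ d := le_trans hq (Nat.le_self_pow hd.ne' q)
  have hfac : q ^ (2 * d) - 1 = (q ^ d - 1) * (q ^ d + 1) := by
    rw [two_mul, pow_add]
    obtain ⟨t, ht⟩ : ∃ t, q ^ d = t + 1 := ⟨q ^ d - 1, by omega⟩
    rw [ht]
    simp only [Nat.add_sub_cancel]
    have : (t + 1) * (t + 1) = t * (t + 1 + 1) + 1 := by ring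
    rw [this, Nat.add_sub_cancel]
  set a : K := (ζ : K) ^ (q ^ d - 1) with ha
  have horda : orderOf a = q ^ d + 1 := by
    rw [ha, orderOf_pow_of_dvd (by omega) (by rw [hord, hfac]; exact dvd_mul_right _ _), hord, hfac,
      Nat.mul_div_cancel_left _ (by omega)]
  have ha1 : σ a * a = 1 := by
    rw [hσ, ← pow_succ, ← horda, pow_orderOf_eq_one]
  let Θ : K →ₐ[F] Matrix (Fin d ⊕ Fin d) (Fin d ⊕ Fin d) F := Ψ.toAlgHom.comp (Algebra.lmul F K)
  have hΘ : Function.Injective Θ := Θ.toRingHom.injective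
  refine ⟨Θ a, ?_, ?_, ?_⟩
  · apply hΨ
    intro u v
    show B (a * u) (a * v) = B u v
    rw [hBapp, hBapp, map_mul σ]
    have : ε * (σ a * σ u) * (a * v) = ε * σ u * v := by
      linear_combination (ε * σ u * v) * ha1
    rw [this]
  · intro j
    rw [← map_pow, ← horda, orderOf_dvd_iff_pow_eq_one]
    constructor
    · intro h
      apply hΘ
      rw [h, map_one]
    · intro h
      rw [h, map_one]
  · intro j h
    rw [← map_pow] at h
    have h1 : a ^ (2 * j) = 1 := hΘ (by rw [h, map_one])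
    rw [pow_mul', sq, mul_self_eq_one_iff] at h1
    rcases h1 with h1 | h1
    · left; rw [← map_pow, h1, map_one]
    · right; rw [← map_pow, h1, map_neg, map_one]

theorem exists_torus_minus (p : ℕ) [Fact p.Prime] [CharP F p] (d : ℕ) (hd : 0 < d) :
    ∃ X : Matrix (Fin d ⊕ Fin d) (Fin d ⊕ Fin d) F, X ∈ symplecticGroup (Fin d) F ∧
      (∀ j, X ^ j = 1 ↔ (Fintype.card F ^ d - 1) ∣ j) ∧
      (∀ j, X ^ (2 * j) = 1 → X ^ j = 1 ∨ X ^ j = -1) := by
  classical
  have : NeZero d := ⟨by omega⟩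
  have : Nonempty (Fin d ⊕ Fin d) := ⟨Sum.inl ⟨0, hd⟩⟩
  let K := FiniteField.Extension F p d
  have hK : Module.finrank F K = d := FiniteField.finrank_extension F p d
  have : Fintype K := Fintype.ofFinite K
  set q := Fintype.card F with hqdef
  have hcardK : Fintype.card K = q ^ d := by
    rw [← Nat.card_eq_fintype_card, FiniteField.natCard_extension, Nat.card_eq_fintype_card]
  let B : LinearMap.BilinForm F (K × K) :=
    (Algebra.traceForm F K).comp (LinearMap.fst F K K) (LinearMap.snd F K K) -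
      (Algebra.traceForm F K).comp (LinearMap.snd F K K) (LinearMap.fst F K K)
  have hBapp : ∀ x y, B x y = Algebra.trace F K (x.1 * y.2) - Algebra.trace F K (x.2 * y.1) :=
    fun x y => rfl
  have hA : B.IsAlt := by
    intro x
    show B x x = 0
    rw [hBapp, mul_comm, sub_self]
  have hB : B.Nondegenerate := by
    apply nondeg_of_alt B hA
    rintro ⟨x₁, x₂⟩ hx
    have h1 : x₁ = 0 := by
      apply (traceForm_nondegenerate F K).1
      intro y
      have := hx (0, y)
      rw [hBapp] at this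
      simpa using this
    have h2 : x₂ = 0 := by
      apply (traceForm_nondegenerate F K).1
      intro y
      have := hx (y, 0)
      rw [hBapp] at this
      simpa using this
    rw [h1, h2]; rfl
  obtain ⟨Ψ, hΨ⟩ := transfer_sp B hB hA d (by rw [Module.finrank_prod, hK]; ring)
  obtain ⟨ζ, hζ⟩ := IsCyclic.exists_generator (α := Kˣ)
  have hord : orderOf (ζ : K) = q ^ d - 1 := by
    rw [orderOf_units, orderOf_eq_card_of_forall_mem_zpowers hζ, Nat.card_units,
      Nat.card_eq_fintype_card, hcardK]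
  set a : K := (ζ : K) with ha
  have ha0 : a ≠ 0 := ζ.ne_zero
  let Θ : (K × K) →ₐ[F] Matrix (Fin d ⊕ Fin d) (Fin d ⊕ Fin d) F :=
    Ψ.toAlgHom.comp ((LinearMap.prodMapAlgHom F K K).comp
      (AlgHom.prodMap (Algebra.lmul F K) (Algebra.lmul F K)))
  have hΘ : Function.Injective Θ := by
    intro x y hxy
    have h1 := Ψ.injective hxy
    have h2 : x.1 * 1 = y.1 * 1 := by
      have := congrArg (fun g : Module.End F (K × K) => (g (1, 0)).1) h1
      exact this
    have h3 : x.2 * 1 = y.2 * 1 := by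
      have := congrArg (fun g : Module.End F (K × K) => (g (0, 1)).2) h1
      exact this
    rw [mul_one, mul_one] at h2 h3
    exact Prod.ext h2 h3
  refine ⟨Θ (a, a⁻¹), ?_, ?_, ?_⟩
  · apply hΨ
    rintro ⟨u₁, u₂⟩ ⟨v₁, v₂⟩
    show B (a * u₁, a⁻¹ * u₂) (a * v₁, a⁻¹ * v₂) = B (u₁, u₂) (v₁, v₂)
    rw [hBapp, hBapp]
    have haa : a * a⁻¹ = 1 := mul_inv_cancel₀ ha0
    have e1 : a * u₁ * (a⁻¹ * v₂) = u₁ * v₂ := by linear_combination (u₁ * v₂) * haa
    have e2 : a⁻¹ * u₂ * (a * v₁) = u₂ * v₁ := by linear_combination (u₂ * v₁) * haa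
    simp only [e1, e2]
  · intro j
    rw [← map_pow, ← hord, orderOf_dvd_iff_pow_eq_one]
    constructor
    · intro h
      have h1 : (a, a⁻¹) ^ j = (1 : K × K) := hΘ (by rw [h, map_one])
      exact congrArg Prod.fst h1
    · intro h
      have h1 : (a, a⁻¹) ^ j = (1 : K × K) := by
        apply Prod.ext
        · exact h
        · show (a⁻¹) ^ j = 1
          rw [inv_pow, h, inv_one]
      rw [h1, map_one]
  · intro j h
    rw [← map_pow] at h
    have h0 : (a, a⁻¹) ^ (2 * j) = (1 : K × K) := hΘ (by rw [h, map_one])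
    have h1 : a ^ (2 * j) = 1 := congrArg Prod.fst h0
    rw [pow_mul', sq, mul_self_eq_one_iff] at h1
    rcases h1 with h1 | h1
    · left
      have h2 : (a, a⁻¹) ^ j = (1 : K × K) := by
        apply Prod.ext
        · exact h1
        · show (a⁻¹) ^ j = 1
          rw [inv_pow, h1, inv_one]
      rw [← map_pow, h2, map_one]
    · right
      have h2 : (a, a⁻¹) ^ j = (-1 : K × K) := by
        apply Prod.ext
        · exact h1
        · show (a⁻¹) ^ j = -1
          rw [inv_pow, h1, inv_neg, inv_one]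
      rw [← map_pow, h2, map_neg, map_one]

end Cfsg.Agent.Lib.Helper42.SpecPSp
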