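import Mathlib
import Cfsg.Agent.Lib.Helper42.SpecPSp5
import Cfsg.Agent.Lib.Helper42.SpecPSU8

/-!
Spectrum of `PSp_{2n}(q)`, `q` odd: regular unipotent elements.
-/

set_option autoImplicit false
set_option linter.unusedSectionVars false

namespace Cfsg.Agent.Lib.Helper42.SpecPSp

open Matrix Module Cfsg.Agent.S2513 Cfsg.Agent.Lib.Helper42.SpecPSU

variable {F : Type*} [Field F] [Fintype F]

theorem transfer_gram_sp {κ : Type*} [Fintype κ] [DecidableEq κ] (h2 : (2 : F) ≠ 0) (k : ℕ)
    (hκ : Fintype.card κ = 2 * k) (G G' : Matrix κ κ F) (hG : Gᵀ = -G) (hGG' : G * G' = 1) :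
    ∃ Ψ : Matrix κ κ F ≃ₐ[F] Matrix (Fin k ⊕ Fin k) (Fin k ⊕ Fin k) F,
      ∀ u, uᵀ * G * u = G → Ψ u ∈ symplecticGroup (Fin k) F := by
  classical
  have hG'G : G' * G = 1 := mul_eq_one_comm.mp hGG'
  set B : LinearMap.BilinForm F (κ → F) := Matrix.toBilin' G with hBdef
  have hBapp : ∀ x y, B x y = x ⬝ᵥ (G *ᵥ y) := fun x y => Matrix.toBilin'_apply' G x y
  have hA : B.IsAlt := by
    intro x
    show B x x = 0
    rw [hBapp]
    have h1 : x ⬝ᵥ (G *ᵥ x) = -(x ⬝ᵥ (G *ᵥ x)) := by
      conv_lhs => rw [dotProduct_comm, ← Matrix.vecMul_transpose, hG, ← Matrix.dotProduct_mulVec,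
        Matrix.neg_mulVec, dotProduct_neg]
    have h3 : (2 : F) * (x ⬝ᵥ (G *ᵥ x)) = 0 := by linear_combination h1
    exact (mul_eq_zero.mp h3).resolve_left h2
  have hB : B.Nondegenerate := by
    apply nondeg_of_alt B hA
    intro x hx
    have h1 : x ᵥ* G = 0 := by
      ext j
      have := hx (Pi.single j 1)
      rw [hBapp, Matrix.dotProduct_mulVec, dotProduct_single_one] at this
      exact this
    have := congrArg (· ᵥ* G') h1
    simpa [Matrix.vecMul_vecMul, hGG'] using this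
  obtain ⟨Ψ, hΨ⟩ := transfer_sp B hB hA k (by rw [Module.finrank_fintype_fun_eq_card, hκ])
  refine ⟨(Matrix.toLinAlgEquiv' (R := F) (n := κ)).trans Ψ, ?_⟩
  intro u hu
  apply hΨ
  intro x y
  show B (u *ᵥ x) (u *ᵥ y) = _
  rw [hBapp, hBapp, ← Matrix.vecMul_transpose u x, ← Matrix.dotProduct_mulVec, Matrix.mulVec_mulVec,
    Matrix.mulVec_mulVec, hu]

theorem shiftT_GG (n : ℕ) (g : F) : (shift F n 1)ᵀ * GG n g = -(GG n g * shift F n 1) := by
  rw [eq_neg_iff_add_eq_zero]
  ext i j
  rw [Matrix.add_apply, Matrix.mul_apply, Matrix.mul_apply, Matrix.zero_apply]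
  simp only [Matrix.transpose_apply, shift, Matrix.of_apply]
  rw [sum_shift_left (fun l => GG n g l j) i, sum_shift_right (fun l => GG n g i l) j]
  simp only [GG, Matrix.of_apply]
  have hi := i.2
  have hj := j.2
  by_cases h1 : 0 < (i : ℕ) <;> by_cases h2 : 0 < (j : ℕ)
  · rw [dif_pos h1, dif_pos h2]
    by_cases h3 : (i : ℕ) + j = n
    · rw [if_pos (by omega), if_pos (by omega)]
      obtain ⟨i', hi'⟩ : ∃ i', (i : ℕ) = i' + 1 := ⟨i - 1, by omega⟩
      simp only [hi', Nat.add_sub_cancel]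
      ring
    · rw [if_neg (by omega), if_neg (by omega), add_zero]
  · rw [dif_pos h1, dif_neg h2, if_neg (by omega), add_zero]
  · rw [dif_neg h1, dif_pos h2, if_neg (by omega), add_zero]
  · rw [dif_neg h1, dif_neg h2, add_zero]

theorem GG_transpose (k : ℕ) (g : F) : (GG (2 * k) g)ᵀ = -GG (2 * k) g := by
  ext i j
  simp only [GG, Matrix.of_apply, Matrix.transpose_apply, Matrix.neg_apply]
  by_cases h : (i : ℕ) + j + 1 = 2 * k
  · rw [if_pos h, if_pos (by omega)]
    have hj : (j : ℕ) = 2 * k - 1 - i := by omega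
    rcases Nat.even_or_odd (i : ℕ) with hi | hi
    · have hjo : Odd (j : ℕ) := by
        obtain ⟨c, hc⟩ := hi
        exact ⟨k - 1 - c, by omega⟩
      rw [hi.neg_one_pow, hjo.neg_one_pow]; ring
    · have hjo : Even (j : ℕ) := by
        obtain ⟨c, hc⟩ := hi
        exact ⟨k - 1 - c, by omega⟩
      rw [hi.neg_one_pow, hjo.neg_one_pow]; ring
  · rw [if_neg h, if_neg (by omega), neg_zero]

theorem exists_unipotent_sp (p : ℕ) [Fact p.Prime] [CharP F p] (hp2 : p ≠ 2) (k : ℕ) (hk : 0 < k) :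
    ∃ u : Matrix (Fin k ⊕ Fin k) (Fin k ⊕ Fin k) F, u ∈ symplecticGroup (Fin k) F ∧
      orderOf u = p ^ Nat.clog p (2 * k) := by
  classical
  have hp : 1 < p := (Fact.out : p.Prime).one_lt
  have h2F : (2 : F) ≠ 0 := by
    intro h
    have h1 : ((2 : ℕ) : F) = 0 := by exact_mod_cast h
    rw [CharP.cast_eq_zero_iff F p] at h1
    exact hp2 ((Nat.prime_dvd_prime_iff_eq Fact.out Nat.prime_two).mp h1)
  obtain ⟨n, hn⟩ : ∃ n, n = 2 * k := ⟨_, rfl⟩
  have : Nonempty (Fin n) := ⟨⟨0, by omega⟩⟩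
  obtain ⟨Ψ, hΨ⟩ := transfer_gram_sp h2F k (by rw [Fintype.card_fin, hn]) (GG n (1 : F)) (GG n (1 : F)⁻¹)ᵀ
    (by rw [hn]; exact GG_transpose k 1) (GG_mul 1 one_ne_zero)
  set β : F := 2⁻¹ with hβdef
  have hβ : β + β = 1 := by rw [hβdef]; field_simp; norm_num
  set S := shift F n 1 with hS
  set G := GG n (1 : F) with hG
  have hSG : Sᵀ * G = -(G * S) := shiftT_GG n 1
  have hnil : IsNilpotent (β • S) := by
    refine ⟨n, ?_⟩
    rw [_root_.smul_pow, hS, shift_pow]
    have h3 : shift F n n = 0 := by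
      ext i j
      simp only [shift, Matrix.of_apply, Matrix.zero_apply]
      rw [if_neg]
      have := j.2
      omega
    rw [h3, smul_zero]
  obtain ⟨bu, hbu⟩ := hnil.isUnit_one_sub
  set a := 1 + β • S with ha
  set b := 1 - β • S with hb
  set b' : Matrix (Fin n) (Fin n) F := ↑bu⁻¹ with hb'
  have hbb' : b * b' = 1 := by rw [← hbu, hb']; exact bu.mul_inv
  have hb'b : b' * b = 1 := by rw [← hbu, hb']; exact bu.inv_mul
  have hcSb : Commute S b := by
    rw [hb]
    exact (Commute.one_right S).sub_right ((Commute.refl S).smul_right _)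
  have hcSb' : Commute S b' := by
    rw [hb']
    apply Commute.units_inv_right
    rw [hbu]; exact hcSb
  have hcab : Commute a b := by
    rw [ha]
    exact (Commute.one_left b).add_left (hcSb.smul_left _)
  have haG : aᵀ * G = G * b := by
    rw [ha, hb, transpose_add, transpose_one, transpose_smul, add_mul, one_mul, smul_mul_assoc, hSG,
      mul_sub, mul_one, mul_smul_comm, smul_neg]
    abel
  have hbG : bᵀ * G = G * a := by
    rw [ha, hb, transpose_sub, transpose_one, transpose_smul, sub_mul, one_mul, smul_mul_assoc, hSG,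
      mul_add, mul_one, mul_smul_comm, smul_neg]
    abel
  have hunit : (a * b')ᵀ * G * (a * b') = G := by
    have h1 : b'ᵀ * bᵀ = 1 := by rw [← transpose_mul, hbb', transpose_one]
    calc (a * b')ᵀ * G * (a * b') = b'ᵀ * (aᵀ * G) * (a * b') := by
          rw [transpose_mul]; simp only [mul_assoc]
      _ = b'ᵀ * G * ((b * a) * b') := by rw [haG]; simp only [mul_assoc]
      _ = b'ᵀ * (G * a) * (b * b') := by rw [← hcab.eq]; simp only [mul_assoc]
      _ = (b'ᵀ * bᵀ) * G := by rw [hbb', mul_one, ← hbG, mul_assoc]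
      _ = G := by rw [h1, one_mul]
  have hsub : a * b' = 1 + S * b' := by
    have h1 : a = b + S := by
      have hs : β • S + β • S = S := by rw [← add_smul, hβ, one_smul]
      rw [ha, hb, ← sub_eq_zero]
      have : 1 + β • S - (1 - β • S + S) = (β • S + β • S) - S := by abel
      rw [this, hs, sub_self]
    rw [h1, add_mul, hbb']
  have hpow : ∀ s, (a * b') ^ p ^ s = 1 + shift F n (p ^ s) * b' ^ p ^ s := by
    intro s
    rw [hsub, add_pow_char_pow_of_commute _ _ (Commute.one_left _), one_pow, hcSb'.mul_pow, hS, shift_pow]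
  obtain ⟨t, ht⟩ : ∃ t, Nat.clog p n = t + 1 :=
    ⟨Nat.clog p n - 1, by have := Nat.clog_pos hp (by omega : 1 < n); omega⟩
  have h1 : n ≤ p ^ (t + 1) := ht ▸ Nat.le_pow_clog hp n
  have h2 : p ^ t < n := by
    have := Nat.pow_pred_clog_lt_self hp (by omega : 1 < n)
    rwa [ht] at this
  refine ⟨Ψ (a * b'), hΨ _ hunit, ?_⟩
  have hord : orderOf (Ψ (a * b')) = orderOf (a * b') :=
    orderOf_injective (Ψ : Matrix (Fin n) (Fin n) F →* Matrix (Fin k ⊕ Fin k) (Fin k ⊕ Fin k) F) Ψ.injective _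
  rw [hord, ← hn, ht]
  apply orderOf_eq_prime_pow
  · rw [hpow]
    intro h
    have h3 : shift F n (p ^ t) * b' ^ p ^ t = 0 := by simpa using h
    have h3' : shift F n (p ^ t) = 0 := by
      have := congrArg (· * b ^ p ^ t) h3
      simp only [zero_mul, mul_assoc] at this
      rw [← (show Commute b' b from by rw [Commute, SemiconjBy, hb'b, hbb']).mul_pow, hb'b, one_pow,
        mul_one] at this
      exact this
    have h4 := congrFun (congrFun h3' ⟨0, by omega⟩) ⟨p ^ t, h2⟩
    simp [shift] at h4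
  · rw [hpow]
    have h3 : shift F n (p ^ (t+1)) = 0 := by
      ext i j
      simp only [shift, Matrix.of_apply, Matrix.zero_apply]
      rw [if_neg]
      have := j.2
      omega
    rw [h3, zero_mul, add_zero]

end Cfsg.Agent.Lib.Helper42.SpecPSp
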