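import Mathlib
import Cfsg.Agent.Lib.Helper42.SpecPSp4
import Cfsg.Agent.Lib.Helper42.SpecPSp6
import Cfsg.Agent.Lib.Helper42.SpecPSp7

/-!
Spectrum of `PSp_{2n}(q)`, `q` odd: existence of elements of prescribed orders.
-/

set_option autoImplicit false
set_option linter.unusedSectionVars false

namespace Cfsg.Agent.Lib.Helper42.SpecPSp

open Matrix Module

variable {F : Type*} [Field F] [Fintype F]

theorem two_ne_zero_of_char (p : ℕ) [Fact p.Prime] [CharP F p] (hp2 : p ≠ 2) : (2 : F) ≠ 0 := by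
  intro h
  have h1 : ((2 : ℕ) : F) = 0 := by exact_mod_cast h
  rw [CharP.cast_eq_zero_iff F p] at h1
  exact hp2 ((Nat.prime_dvd_prime_iff_eq Fact.out Nat.prime_two).mp h1)

theorem one_ne_neg_one {k : ℕ} (hk : 0 < k) (h2 : (2 : F) ≠ 0) :
    (1 : Matrix (Fin k ⊕ Fin k) (Fin k ⊕ Fin k) F) ≠ -1 := by
  intro h
  have := congrFun (congrFun h (Sum.inl ⟨0, hk⟩)) (Sum.inl ⟨0, hk⟩)
  simp only [Matrix.one_apply_eq, Matrix.neg_apply] at this
  apply h2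
  linear_combination this

/-- powers of a matrix of odd order are never `-1` -/
theorem pow_ne_neg_one {k : ℕ} (hk : 0 < k) (h2 : (2 : F) ≠ 0)
    (X : Matrix (Fin k ⊕ Fin k) (Fin k ⊕ Fin k) F) (hodd : Odd (orderOf X)) (j : ℕ) : X ^ j ≠ -1 := by
  intro h
  have h1 : X ^ (2 * j) = 1 := by rw [pow_mul', h]; simp
  have h3 : orderOf X ∣ j :=
    (Nat.Coprime.dvd_of_dvd_mul_left (Nat.Coprime.symm (Nat.coprime_two_left.mpr hodd))
      (orderOf_dvd_of_pow_eq_one h1))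
  rw [orderOf_dvd_iff_pow_eq_one, h] at h3
  exact one_ne_neg_one hk h2 h3.symm

theorem exists_p_psp (p : ℕ) [Fact p.Prime] [CharP F p] (hp2 : p ≠ 2) (n : ℕ) (hn : 0 < n) :
    ∃ g : Cfsg.PSp n F, orderOf g = p ^ Nat.clog p (2 * n) := by
  obtain ⟨u, hu, hord⟩ := exists_unipotent_sp (F := F) p hp2 n hn
  have hpodd : Odd p := (Fact.out : p.Prime).odd_of_ne_two hp2
  refine ⟨QuotientGroup.mk ⟨u, hu⟩, orderOf_psp hn _ _ ?_⟩
  intro k
  show (u ^ k = 1 ∨ u ^ k = -1) ↔ _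
  rw [← hord, orderOf_dvd_iff_pow_eq_one]
  constructor
  · rintro (h | h)
    · exact h
    · exact absurd h (pow_ne_neg_one hn (two_ne_zero_of_char p hp2) u (by rw [hord]; exact hpodd.pow) k)
  · intro h; exact Or.inl h

theorem exists_half_psp (n : ℕ) (hn : 0 < n) (M : ℕ) (hM : 2 ∣ M)
    (h : ∃ X : Matrix (Fin n ⊕ Fin n) (Fin n ⊕ Fin n) F, X ∈ symplecticGroup (Fin n) F ∧
      (∀ j, X ^ j = 1 ↔ M ∣ j) ∧ (∀ j, X ^ (2 * j) = 1 → X ^ j = 1 ∨ X ^ j = -1)) :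
    ∃ g : Cfsg.PSp n F, orderOf g = M / 2 := by
  obtain ⟨X, hX, h1, h2⟩ := h
  refine ⟨QuotientGroup.mk ⟨X, hX⟩, orderOf_psp hn _ _ ?_⟩
  intro k
  show (X ^ k = 1 ∨ X ^ k = -1) ↔ _
  obtain ⟨c, rfl⟩ := hM
  rw [Nat.mul_div_cancel_left _ (by norm_num : 0 < 2)]
  constructor
  · intro h
    have h3 : X ^ (2 * k) = 1 := by
      rw [pow_mul']
      rcases h with h | h <;> rw [h] <;> simp
    rw [h1] at h3
    exact (Nat.mul_dvd_mul_iff_left (by norm_num)).mp h3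
  · intro h
    apply h2
    rw [h1]
    exact Nat.mul_dvd_mul_left 2 h

theorem exists_sum_psp (h2 : (2 : F) ≠ 0) (d k : ℕ) (hk : 0 < k) (M P : ℕ) (hMP : Nat.Coprime M P)
    (hP : Odd P)
    (hX₁ : ∃ X : Matrix (Fin d ⊕ Fin d) (Fin d ⊕ Fin d) F, X ∈ symplecticGroup (Fin d) F ∧
      (∀ j, X ^ j = 1 ↔ M ∣ j))
    (hX₂ : ∃ X : Matrix (Fin k ⊕ Fin k) (Fin k ⊕ Fin k) F, X ∈ symplecticGroup (Fin k) F ∧
      orderOf X = P) :
    ∃ g : Cfsg.PSp (d + k) F, orderOf g = M * P := by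
  obtain ⟨X₁, hm₁, h1⟩ := hX₁
  obtain ⟨X₂, hm₂, hord⟩ := hX₂
  obtain ⟨Φ, hΦ, hmem⟩ := sum_sp (F := F) d k
  refine ⟨QuotientGroup.mk ⟨Φ (X₁, X₂), hmem _ _ hm₁ hm₂⟩, orderOf_psp (by omega) _ _ ?_⟩
  intro j
  show (Φ (X₁, X₂) ^ j = 1 ∨ Φ (X₁, X₂) ^ j = -1) ↔ _
  rw [← map_pow]
  constructor
  · rintro (h | h)
    · have h3 : (X₁, X₂) ^ j = 1 := hΦ (by rw [h, map_one])
      have h4 : X₁ ^ j = 1 := congrArg Prod.fst h3
      have h5 : X₂ ^ j = 1 := congrArg Prod.snd h3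
      rw [h1] at h4
      rw [← orderOf_dvd_iff_pow_eq_one, hord] at h5
      exact hMP.mul_dvd_of_dvd_of_dvd h4 h5
    · exfalso
      have h3 : (X₁, X₂) ^ j = -1 := hΦ (by rw [h, map_neg, map_one])
      have h5 : X₂ ^ j = -1 := congrArg Prod.snd h3
      exact pow_ne_neg_one hk h2 X₂ (hord ▸ hP) j h5
  · intro h
    left
    have h4 : X₁ ^ j = 1 := (h1 j).mpr ((dvd_mul_right _ _).trans h)
    have h5 : X₂ ^ j = 1 := by
      rw [← orderOf_dvd_iff_pow_eq_one, hord]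
      exact (dvd_mul_left _ _).trans h
    have h3 : (X₁, X₂) ^ j = 1 := Prod.ext h4 h5
    rw [h3, map_one]

end Cfsg.Agent.Lib.Helper42.SpecPSp
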