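import Mathlib
import Cfsg.Agent.Lib.Helper42.SpecPSp8
import Cfsg.Agent.S2510

/-!
Spectrum of `PSp_{2n}(q)`, `q` odd: the main case distinction.
-/

set_option autoImplicit false
set_option linter.unusedSectionVars false

namespace Cfsg.Agent.Lib.Helper42.SpecPSp

open Matrix Module Polynomial
open Cfsg.Agent.Lib.Helper42.SpecPSL

variable {F : Type*} [Field F] [Fintype F]

theorem coprime_card_pow_add_one (p : ℕ) [Fact p.Prime] [CharP F p] (i : ℕ) (hi : 1 ≤ i) :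
    Nat.Coprime p (Fintype.card F ^ i + 1) := by
  have hp : p.Prime := Fact.out
  rw [Nat.Prime.coprime_iff_not_dvd hp]
  intro h
  have h1 : p ∣ Fintype.card F := by
    rw [← CharP.cast_eq_zero_iff F p]
    exact Nat.cast_card_eq_zero F
  have h2 : p ∣ Fintype.card F ^ i := h1.trans (dvd_pow_self _ (by omega))
  have h4 : p ∣ 1 := (Nat.dvd_add_right h2).mp h
  exact hp.one_lt.ne' (Nat.dvd_one.mp h4)

theorem exists_C_plus (p : ℕ) [Fact p.Prime] [CharP F p] (hp2 : p ≠ 2) (d k : ℕ) (hd : 0 < d)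
    (hk : 0 < k) :
    ∃ g : Cfsg.PSp (d + k) F, orderOf g = (Fintype.card F ^ d + 1) * p ^ Nat.clog p (2 * k) := by
  have hpodd : Odd p := (Fact.out : p.Prime).odd_of_ne_two hp2
  obtain ⟨X, hX, h1, -⟩ := exists_torus_plus (F := F) p hp2 d hd
  exact exists_sum_psp (two_ne_zero_of_char p hp2) d k hk _ _
    (Nat.Coprime.pow_right _ (coprime_card_pow_add_one p d hd).symm) hpodd.pow ⟨X, hX, h1⟩
    (exists_unipotent_sp p hp2 k hk)

theorem exists_C_minus (p : ℕ) [Fact p.Prime] [CharP F p] (hp2 : p ≠ 2) (d k : ℕ) (hd : 0 < d)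
    (hk : 0 < k) :
    ∃ g : Cfsg.PSp (d + k) F, orderOf g = (Fintype.card F ^ d - 1) * p ^ Nat.clog p (2 * k) := by
  have hpodd : Odd p := (Fact.out : p.Prime).odd_of_ne_two hp2
  obtain ⟨X, hX, h1, -⟩ := exists_torus_minus (F := F) p d hd
  exact exists_sum_psp (two_ne_zero_of_char p hp2) d k hk _ _
    (Nat.Coprime.pow_right _ (coprime_card_pow_sub_one p d hd).symm) hpodd.pow ⟨X, hX, h1⟩
    (exists_unipotent_sp p hp2 k hk)

/-- the adjoint as a linear map -/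
def adjL (n : ℕ) : Matrix (Fin n ⊕ Fin n) (Fin n ⊕ Fin n) F →ₗ[F] Matrix (Fin n ⊕ Fin n) (Fin n ⊕ Fin n) F where
  toFun := adj
  map_add' := adj_add
  map_smul' := fun c A => adj_smul c A

instance finite_psp (n : ℕ) : Finite (Cfsg.PSp n F) := by
  have : Finite (symplecticGroup (Fin n) F) := Subtype.finite
  exact inferInstanceAs (Finite (_ ⧸ _))

/-- arithmetic step: from `o ∣ M₁ * p^s`, `D ≥ 2` to `2 o` in the spectrum -/
theorem double_of_dvd {n : ℕ} (o M : ℕ) (ho : Odd o) (hoM : o ∣ M) (hM : 2 ∣ M)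
    (h : ∃ g : Cfsg.PSp n F, orderOf g = M) : ∃ g : Cfsg.PSp n F, orderOf g = 2 * o :=
  Cfsg.Agent.S2510.exists_of_dvd h
    ((Nat.coprime_two_left.mpr ho).mul_dvd_of_dvd_of_dvd hM hoM)

theorem good_psp {n : ℕ} (hn : 0 < n) (h2 : (2 : F) ≠ 0) (x : symplecticGroup (Fin n) F) (o : ℕ)
    (ho : Odd o) (hord : orderOf (QuotientGroup.mk x : Cfsg.PSp n F) = o)
    (hxo : (x : Matrix (Fin n ⊕ Fin n) (Fin n ⊕ Fin n) F) ^ o = 1)
    (π₁ π₂ : Matrix (Fin n ⊕ Fin n) (Fin n ⊕ Fin n) F) (h1 : π₁ + π₂ = 1) (h0 : π₁ * π₂ = 0)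
    (hne1 : π₁ ≠ 0) (hne2 : π₂ ≠ 0)
    (hc1 : Commute π₁ (x : Matrix (Fin n ⊕ Fin n) (Fin n ⊕ Fin n) F))
    (hc2 : Commute π₂ (x : Matrix (Fin n ⊕ Fin n) (Fin n ⊕ Fin n) F))
    (hs1 : adj π₁ = π₁) (hs2 : adj π₂ = π₂) : ∃ g : Cfsg.PSp n F, orderOf g = 2 * o := by
  set X := (x : Matrix (Fin n ⊕ Fin n) (Fin n ⊕ Fin n) F) with hXdef
  set z := π₁ - π₂ with hz
  have hzz : z * z = 1 := by
    rw [hz, sub_mul, mul_sub, mul_sub, idem_left' h1 h0, idem_right' h1 h0, h0, idem_swap' h1 h0, ← h1]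
    abel
  have hadjz : adj z = z := by rw [hz, adj_sub, hs1, hs2]
  have hcz : Commute X z := (hc1.sub_left hc2).symm
  have hXsp : adj X * X = 1 := (mem_sp_iff _).mp x.2
  have hW : X * z ∈ symplecticGroup (Fin n) F := by
    rw [mem_sp_iff, adj_mul, hadjz, mul_assoc, ← mul_assoc (adj X), hXsp, one_mul, hzz]
  have hz1 : z ≠ 1 := by
    intro h
    apply hne2
    have h3 : (2 : F) • π₂ = 0 := by
      rw [two_smul]
      have : π₂ + π₂ = (π₁ + π₂) - (π₁ - π₂) := by abel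
      rw [this, h1, ← hz, h, sub_self]
    exact (smul_eq_zero.mp h3).resolve_left h2
  have hz2 : z ≠ -1 := by
    intro h
    apply hne1
    have h3 : (2 : F) • π₁ = 0 := by
      rw [two_smul]
      have : π₁ + π₁ = (π₁ + π₂) + (π₁ - π₂) := by abel
      rw [this, h1, ← hz, h]; abel
    exact (smul_eq_zero.mp h3).resolve_left h2
  refine ⟨QuotientGroup.mk ⟨X * z, hW⟩, orderOf_psp hn _ _ ?_⟩
  intro k
  show ((X * z) ^ k = 1 ∨ (X * z) ^ k = -1) ↔ _
  rw [hcz.mul_pow]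
  have hzeven : ∀ m, z ^ (2 * m) = 1 := fun m => by rw [pow_mul, sq, hzz, one_pow]
  constructor
  · intro h
    have h3 : X ^ (2 * k) = 1 := by
      have h4 : (X ^ k * z ^ k) ^ 2 = 1 := by
        rcases h with h | h <;> rw [h] <;> simp
      rw [(hcz.pow_pow k k).mul_pow, ← pow_mul, ← pow_mul, mul_comm k 2, hzeven, mul_one] at h4
      exact h4
    have h5 : o ∣ 2 * k := by
      rw [← hord, orderOf_dvd_iff_pow_eq_one, psp_pow_eq_one_iff hn]
      exact Or.inl h3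
    have h6 : o ∣ k := (Nat.Coprime.dvd_of_dvd_mul_left (Nat.coprime_two_left.mpr ho).symm h5)
    have h7 : X ^ k = 1 := by
      obtain ⟨c, rfl⟩ := h6
      rw [pow_mul, hxo, one_pow]
    rw [h7, one_mul] at h
    have h8 : 2 ∣ k := by
      rcases Nat.even_or_odd' k with ⟨c, rfl | rfl⟩
      · exact dvd_mul_right _ _
      · exfalso
        rw [pow_succ, hzeven, one_mul] at h
        rcases h with h | h
        · exact hz1 h
        · exact hz2 h
    exact (Nat.coprime_two_left.mpr ho).mul_dvd_of_dvd_of_dvd h8 h6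
  · rintro ⟨c, rfl⟩
    left
    rw [mul_assoc, hzeven, mul_one, mul_comm 2, mul_assoc, pow_mul, hxo, one_pow]

end Cfsg.Agent.Lib.Helper42.SpecPSp
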