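import Mathlib
import Cfsg.Agent.Lib.Helper42.SpecPSp9

/-!
Spectrum of `PSp_{2n}(q)`, `q` odd: the main case distinction.
-/

set_option autoImplicit false
set_option linter.unusedSectionVars false

namespace Cfsg.Agent.Lib.Helper42.SpecPSp

open Matrix Module Polynomial
open Cfsg.Agent.Lib.Helper42.SpecPSL

variable {F : Type*} [Field F] [Fintype F]

theorem cast_psp {n n' : ℕ} (h : n' = n) (M : ℕ) (hg : ∃ g : Cfsg.PSp n' F, orderOf g = M) :
    ∃ g : Cfsg.PSp n F, orderOf g = M := by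
  subst h; exact hg

theorem arith_D (j D n : ℕ) (hn : 0 < n) (hjD : j * D = n) (hD : 2 ≤ D) :
    0 < j ∧ 0 < n - j ∧ j + (n - j) = n ∧ D ≤ 2 * (n - j) := by
  obtain ⟨D', rfl⟩ : ∃ D', D = D' + 2 := ⟨D - 2, by omega⟩
  have hj : 0 < j := by
    rcases Nat.eq_zero_or_pos j with rfl | h
    · simp at hjD; omega
    · exact h
  have h1 : n = j * (D' + 1) + j := by rw [← hjD]; ring
  have h2 : D' + 1 ≤ j * (D' + 1) := Nat.le_mul_of_pos_left _ hj
  refine ⟨hj, by omega, by omega, by omega⟩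

theorem quad (p : ℕ) [Fact p.Prime] [CharP F p] (hp2 : p ≠ 2) (hq : Odd (Fintype.card F)) (n : ℕ)
    (hn : 0 < n) (g : Cfsg.PSp n F) :
    2 ∣ orderOf g ∨ (∃ g' : Cfsg.PSp n F, orderOf g' = 2 * orderOf g) ∨
      orderOf g ∣ p ^ Nat.clog p (2 * n) ∨ orderOf g ∣ (Fintype.card F ^ n + 1) / 2 ∨
      orderOf g ∣ (Fintype.card F ^ n - 1) / 2 := by
  classical
  have h2F := two_ne_zero_of_char (F := F) p hp2
  have hp1 : 1 < p := (Fact.out : p.Prime).one_lt
  by_cases h2 : 2 ∣ orderOf g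
  · exact Or.inl h2
  right
  have ho : Odd (orderOf g) := by
    rcases Nat.even_or_odd (orderOf g) with h | h
    · exact absurd h.two_dvd h2
    · exact h
  have hcop : Nat.Coprime (orderOf g) 2 := (Nat.coprime_two_left.mpr ho).symm
  obtain ⟨x0, rfl⟩ := QuotientGroup.mk_surjective g
  set o := orderOf (QuotientGroup.mk x0 : Cfsg.PSp n F) with hodef
  obtain ⟨x, hx⟩ : ∃ x : symplecticGroup (Fin n) F, x = x0 ^ (o + 1) := ⟨_, rfl⟩
  have hmk : (QuotientGroup.mk x : Cfsg.PSp n F) = QuotientGroup.mk x0 := by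
    rw [hx, QuotientGroup.mk_pow, pow_succ, hodef, pow_orderOf_eq_one, one_mul]
  have hxo : (x : Matrix (Fin n ⊕ Fin n) (Fin n ⊕ Fin n) F) ^ o = 1 := by
    have := (psp_pow_eq_one_iff hn x0 o).mp (pow_orderOf_eq_one _)
    rw [hx, coe_pow', ← pow_mul, mul_comm, pow_mul]
    rcases this with h | h
    · rw [h, one_pow]
    · rw [h, (ho.add_one).neg_one_pow]
  have hord : orderOf (QuotientGroup.mk x : Cfsg.PSp n F) = o := by rw [hmk]
  set X := (x : Matrix (Fin n ⊕ Fin n) (Fin n ⊕ Fin n) F) with hXdef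
  have hX : adj X * X = 1 := (mem_sp_iff _).mp x.2
  have hX' : X * adj X = 1 := mul_eq_one_comm.mp hX
  have hdvd : ∀ M, X ^ M = 1 → o ∣ M := by
    intro M hM
    rw [← hord, orderOf_dvd_iff_pow_eq_one, psp_pow_eq_one_iff hn]
    exact Or.inl hM
  have hopos : 0 < o := ho.pos
  have : Nonempty (Fin n ⊕ Fin n) := ⟨Sum.inl ⟨0, hn⟩⟩
  have hqe1 : ∀ i, 2 ∣ Fintype.card F ^ i + 1 := fun i => (hq.pow.add_one).two_dvd
  have hqe2 : ∀ i, 2 ∣ Fintype.card F ^ i - 1 := fun i =>
    (Nat.Odd.sub_odd hq.pow odd_one).two_dvd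
  rcases dichotomy_st (adjL n) adj_mul adj_one adj_adj X hX hX' with
    ⟨π₁, π₂, h1, h0, hne1, hne2, hc1, hc2, hs1, hs2⟩ | ⟨f, e, hf, hfe⟩ | ⟨f, a, ε, hf, hεε, hcε, hsε, hfa⟩
  · left
    exact good_psp hn h2F x o ho hord hxo π₁ π₂ h1 h0 hne1 hne2 hc1 hc2 hs1 hs2
  · rcases bad1_sp p hn X hX f hf e hfe with h | ⟨j, D, hjD, h⟩
    · right; left
      exact hcop.dvd_of_dvd_mul_left (hdvd _ h)
    · have h3 := hdvd _ h
      rcases Nat.lt_or_ge D 2 with hD | hD
      · have hD1 : D = 1 := by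
          rcases Nat.eq_zero_or_pos D with rfl | h'
          · simp at hjD; omega
          · omega
        subst hD1
        rw [mul_one] at hjD
        subst hjD
        right; right; left
        rw [Nat.clog_one_right, pow_zero, mul_one] at h3
        obtain ⟨c, hc⟩ := hqe1 j
        rw [hc, Nat.mul_div_cancel_left _ (by norm_num : 0 < 2)]
        rw [hc] at h3
        exact hcop.dvd_of_dvd_mul_left h3
      · left
        obtain ⟨hj, hk, hsum, hDk⟩ := arith_D j D n hn hjD hD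
        apply double_of_dvd o _ ho _ _ (cast_psp hsum _ (exists_C_plus p hp2 j (n - j) hj hk))
        · exact h3.trans (Nat.mul_dvd_mul_left _ (pow_dvd_pow p (Nat.clog_mono_right p hDk)))
        · exact (hqe1 j).mul_right _
  · obtain ⟨j, D, hjD, h⟩ := bad2_sp p hn X hX o hopos hxo f hf a ε hεε hcε hsε hfa
    have h3 := hdvd _ h
    rcases Nat.lt_or_ge D 2 with hD | hD
    · have hD1 : D = 1 := by
        rcases Nat.eq_zero_or_pos D with rfl | h'
        · simp at hjD; omega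
        · omega
      subst hD1
      rw [mul_one] at hjD
      subst hjD
      right; right; right
      rw [Nat.clog_one_right, pow_zero, mul_one] at h3
      obtain ⟨c, hc⟩ := hqe2 j
      rw [hc, Nat.mul_div_cancel_left _ (by norm_num : 0 < 2)]
      rw [hc] at h3
      exact hcop.dvd_of_dvd_mul_left h3
    · left
      obtain ⟨hj, hk, hsum, hDk⟩ := arith_D j D n hn hjD hD
      apply double_of_dvd o _ ho _ _ (cast_psp hsum _ (exists_C_minus p hp2 j (n - j) hj hk))
      · exact h3.trans (Nat.mul_dvd_mul_left _ (pow_dvd_pow p (Nat.clog_mono_right p hDk)))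
      · exact (hqe2 j).mul_right _

end Cfsg.Agent.Lib.Helper42.SpecPSp
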