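import Mathlib
import Cfsg.Agent.Lib.Helper42.SpecPSp10

/-!
Prime graph of `PSp_{2n}(q)`: constructions in every characteristic.
-/

set_option autoImplicit false
set_option linter.unusedSectionVars false

namespace Cfsg.Agent.Lib.Helper42.PGraphS

open Matrix Module
open Cfsg.Agent.Lib.Helper42.SpecPSp

variable {F : Type*} [Field F] [Fintype F]

theorem exists_torus_plus' (p : ℕ) [Fact p.Prime] [CharP F p] (d : ℕ) (hd : 0 < d) :
    ∃ X : Matrix (Fin d ⊕ Fin d) (Fin d ⊕ Fin d) F, X ∈ symplecticGroup (Fin d) F ∧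
      (∀ j, X ^ j = 1 ↔ (Fintype.card F ^ d + 1) ∣ j) ∧
      (∀ j, X ^ (2 * j) = 1 → X ^ j = 1 ∨ X ^ j = -1) := by
  classical
  have : NeZero (2 * d) := ⟨by omega⟩
  have : Nonempty (Fin d ⊕ Fin d) := ⟨Sum.inl ⟨0, hd⟩⟩
  let K := FiniteField.Extension F p (2 * d)
  have hK : Module.finrank F K = 2 * d := FiniteField.finrank_extension F p (2 * d)
  have : Fintype K := Fintype.ofFinite K
  have hq : 2 ≤ Fintype.card F := Fintype.one_lt_card
  set q := Fintype.card F with hqdef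
  have hcardK : Fintype.card K = q ^ (2 * d) := by
    rw [← Nat.card_eq_fintype_card, FiniteField.natCard_extension, Nat.card_eq_fintype_card]
  let σ : K ≃ₐ[F] K := (FiniteField.frobeniusAlgEquivOfAlgebraic F K) ^ d
  have hσ : ∀ a, σ a = a ^ (q ^ d) := by
    intro a
    show ((FiniteField.frobeniusAlgEquivOfAlgebraic F K) ^ d) a = _
    rw [AlgEquiv.coe_pow, FiniteField.coe_frobeniusAlgEquivOfAlgebraic_iterate]
  have hφ : ∀ (i : ℕ) (a : K), ((FiniteField.frobeniusAlgEquivOfAlgebraic F K) ^ i) a = a ^ (q ^ i) := by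
    intro i a
    rw [AlgEquiv.coe_pow, FiniteField.coe_frobeniusAlgEquivOfAlgebraic_iterate]
  have hσσ : ∀ a, σ (σ a) = a := by
    intro a
    rw [hσ, hσ, ← pow_mul, ← pow_add, ← two_mul, ← hcardK, FiniteField.pow_card]
  obtain ⟨ε, hε0, hε⟩ : ∃ ε : K, ε ≠ 0 ∧ σ ε = -ε := by
    by_cases hall : ∀ x, σ x = x
    · exfalso
      have h1 : (FiniteField.frobeniusAlgEquivOfAlgebraic F K) ^ d = 1 := AlgEquiv.ext hall
      have h2 := orderOf_dvd_of_pow_eq_one h1
      rw [FiniteField.orderOf_frobeniusAlgEquivOfAlgebraic, hK] at h2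
      have := Nat.le_of_dvd hd h2
      omega
    · push Not at hall
      obtain ⟨x, hx⟩ := hall
      exact ⟨σ x - x, sub_ne_zero.mpr hx, by rw [map_sub, hσσ]; ring⟩
  let L : K →ₗ[F] K := (LinearMap.mulLeft F ε) ∘ₗ σ.toLinearMap
  let B : LinearMap.BilinForm F K := (Algebra.traceForm F K).comp L LinearMap.id
  have hBapp : ∀ x y, B x y = Algebra.trace F K (ε * σ x * y) := fun x y => rfl
  have hA : B.IsAlt := by
    intro x
    show B x x = 0
    rw [hBapp]
    have h1 : σ (ε * σ x * x) = -(ε * σ x * x) := by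
      rw [map_mul, map_mul, hσσ, hε]; ring
    set z := ε * σ x * x with hz
    have h2 : algebraMap F K (Algebra.trace F K z) = 0 := by
      have hK' : Module.finrank F K = d + d := by rw [hK, two_mul]
      rw [FiniteField.algebraMap_trace_eq_sum_pow, hK', Finset.sum_range_add,
        ← Finset.sum_add_distrib]
      apply Finset.sum_eq_zero
      intro i _
      rw [pow_add, pow_mul, Nat.card_eq_fintype_card, ← hqdef, ← hσ, h1, ← hφ, ← hφ, ← map_add,
        add_neg_cancel, map_zero]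
    exact (map_eq_zero (algebraMap F K)).mp h2
  have hB : B.Nondegenerate := by
    apply nondeg_of_alt B hA
    intro x hx
    have h1 : ε * σ x = 0 := (traceForm_nondegenerate F K).1 _ (fun y => hx y)
    have h2 : σ x = 0 := (mul_eq_zero.mp h1).resolve_left hε0
    exact (map_eq_zero σ).mp h2
  obtain ⟨Ψ, hΨ⟩ := transfer_sp B hB hA d hK
  obtain ⟨ζ, hζ⟩ := IsCyclic.exists_generator (α := Kˣ)
  have hord : orderOf (ζ : K) = q ^ (2 * d) - 1 := by
    rw [orderOf_units, orderOf_eq_card_of_forall_mem_zpowers hζ, Nat.card_units,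
      Nat.card_eq_fintype_card, hcardK]
  have hQ : 2 ≤ q ^ d := le_trans hq (Nat.le_self_pow hd.ne' q)
  have hfac : q ^ (2 * d) - 1 = (q ^ d - 1) * (q ^ d + 1) := by
    rw [two_mul, pow_add]
    obtain ⟨t, ht⟩ : ∃ t, q ^ d = t + 1 := ⟨q ^ d - 1, by omega⟩
    rw [ht]
    simp only [Nat.add_sub_cancel]
    have : (t + 1) * (t + 1) = t * (t + 1 + 1) + 1 := by ring
    rw [this, Nat.add_sub_cancel]
  set a : K := (ζ : K) ^ (q ^ d - 1) with ha
  have horda : orderOf a = q ^ d + 1 := by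
    rw [ha, orderOf_pow_of_dvd (by omega) (by rw [hord, hfac]; exact dvd_mul_right _ _), hord, hfac,
      Nat.mul_div_cancel_left _ (by omega)]
  have ha1 : σ a * a = 1 := by
    rw [hσ, ← pow_succ, ← horda, pow_orderOf_eq_one]
  let Θ : K →ₐ[F] Matrix (Fin d ⊕ Fin d) (Fin d ⊕ Fin d) F := Ψ.toAlgHom.comp (Algebra.lmul F K)
  have hΘ : Function.Injective Θ := Θ.toRingHom.injective
  refine ⟨Θ a, ?_, ?_, ?_⟩
  · apply hΨ
    intro u v
    show B (a * u) (a * v) = B u v
    rw [hBapp, hBapp, map_mul σ]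
    have : ε * (σ a * σ u) * (a * v) = ε * σ u * v := by
      linear_combination (ε * σ u * v) * ha1
    rw [this]
  · intro j
    rw [← map_pow, ← horda, orderOf_dvd_iff_pow_eq_one]
    constructor
    · intro h
      apply hΘ
      rw [h, map_one]
    · intro h
      rw [h, map_one]
  · intro j h
    rw [← map_pow] at h
    have h1 : a ^ (2 * j) = 1 := hΘ (by rw [h, map_one])
    rw [pow_mul', sq, mul_self_eq_one_iff] at h1
    rcases h1 with h1 | h1
    · left; rw [← map_pow, h1, map_one]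
    · right; rw [← map_pow, h1, map_neg, map_one]


/-- a transvection-like element of order `p` -/
theorem exists_unip (p : ℕ) [Fact p.Prime] [CharP F p] (m : ℕ) (hm : 0 < m) :
    ∃ X : Matrix (Fin m ⊕ Fin m) (Fin m ⊕ Fin m) F, X ∈ symplecticGroup (Fin m) F ∧
      (∀ j, X ^ j = 1 ↔ p ∣ j) := by
  classical
  set N : Matrix (Fin m ⊕ Fin m) (Fin m ⊕ Fin m) F := fromBlocks 0 1 0 0 with hN
  have hNN : N * N = 0 := by
    rw [hN, fromBlocks_multiply]
    simp
  have hadj : adj N = -N := by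
    rw [adj, hN, J, fromBlocks_transpose, neg_mul, neg_mul, fromBlocks_multiply, fromBlocks_multiply]
    simp
  have hpow : ∀ j : ℕ, (1 + N) ^ j = 1 + (j : F) • N := by
    intro j
    induction j with
    | zero => simp
    | succ j ih =>
      rw [pow_succ, ih, add_mul, mul_add, mul_add, smul_mul_assoc, smul_mul_assoc, hNN, smul_zero,
        one_mul, mul_one, one_mul, Nat.cast_succ, add_smul, one_smul]
      abel
  refine ⟨1 + N, ?_, ?_⟩
  · rw [mem_sp_iff, adj_add, adj_one, hadj]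
    rw [add_mul, mul_add, mul_add, neg_mul, neg_mul, hNN]
    simp
  · intro j
    rw [hpow, ← CharP.cast_eq_zero_iff F p]
    constructor
    · intro h
      have h1 := congrFun (congrFun h (Sum.inl ⟨0, hm⟩)) (Sum.inr ⟨0, hm⟩)
      simpa [hN] using h1
    · intro h
      rw [h, zero_smul, add_zero]

theorem exists_sum_psp' (d k : ℕ) (hk : 0 < k) (M P : ℕ) (hMP : Nat.Coprime M P)
    (hpar : (2 : F) = 0 ∨ Odd (M * P))
    (hX₁ : ∃ X : Matrix (Fin d ⊕ Fin d) (Fin d ⊕ Fin d) F, X ∈ symplecticGroup (Fin d) F ∧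
      (∀ j, X ^ j = 1 ↔ M ∣ j))
    (hX₂ : ∃ X : Matrix (Fin k ⊕ Fin k) (Fin k ⊕ Fin k) F, X ∈ symplecticGroup (Fin k) F ∧
      (∀ j, X ^ j = 1 ↔ P ∣ j)) :
    ∃ g : Cfsg.PSp (d + k) F, orderOf g = M * P := by
  obtain ⟨X₁, hm₁, h1⟩ := hX₁
  obtain ⟨X₂, hm₂, h2⟩ := hX₂
  obtain ⟨Φ, hΦ, hmem⟩ := sum_sp (F := F) d k
  refine ⟨QuotientGroup.mk ⟨Φ (X₁, X₂), hmem _ _ hm₁ hm₂⟩, orderOf_psp (by omega) _ _ ?_⟩
  have key : ∀ j, Φ (X₁, X₂) ^ j = 1 ↔ M * P ∣ j := by
    intro j
    rw [← map_pow]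
    constructor
    · intro h
      have h3 : (X₁, X₂) ^ j = 1 := hΦ (by rw [h, map_one])
      have h4 : X₁ ^ j = 1 := congrArg Prod.fst h3
      have h5 : X₂ ^ j = 1 := congrArg Prod.snd h3
      rw [h1] at h4
      rw [h2] at h5
      exact hMP.mul_dvd_of_dvd_of_dvd h4 h5
    · intro h
      have h4 : X₁ ^ j = 1 := (h1 j).mpr ((dvd_mul_right _ _).trans h)
      have h5 : X₂ ^ j = 1 := (h2 j).mpr ((dvd_mul_left _ _).trans h)
      have h3 : (X₁, X₂) ^ j = 1 := Prod.ext h4 h5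
      rw [h3, map_one]
  intro j
  show (Φ (X₁, X₂) ^ j = 1 ∨ Φ (X₁, X₂) ^ j = -1) ↔ _
  constructor
  · rintro (h | h)
    · exact (key j).mp h
    · rcases hpar with h0 | hodd
      · apply (key j).mp
        rw [h]
        have : (2 : F) • (1 : Matrix (Fin (d + k) ⊕ Fin (d + k)) (Fin (d + k) ⊕ Fin (d + k)) F) = 0 := by
          rw [h0, zero_smul]
        rw [two_smul] at this
        exact neg_eq_of_add_eq_zero_left this
      · have h3 : Φ (X₁, X₂) ^ (2 * j) = 1 := by rw [pow_mul', h]; simp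
        rw [key] at h3
        exact Nat.Coprime.dvd_of_dvd_mul_left (Nat.coprime_two_right.mpr hodd) h3
  · intro h
    exact Or.inl ((key j).mpr h)

/-- elements of a given order dividing the order of a cyclic torus -/
theorem exists_of_dvd_torus (d M r : ℕ) (hM : 0 < M) (hr : r ∣ M)
    (h : ∃ X : Matrix (Fin d ⊕ Fin d) (Fin d ⊕ Fin d) F, X ∈ symplecticGroup (Fin d) F ∧
      (∀ j, X ^ j = 1 ↔ M ∣ j)) :
    ∃ X : Matrix (Fin d ⊕ Fin d) (Fin d ⊕ Fin d) F, X ∈ symplecticGroup (Fin d) F ∧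
      (∀ j, X ^ j = 1 ↔ r ∣ j) := by
  obtain ⟨X, hX, h1⟩ := h
  obtain ⟨c, rfl⟩ := hr
  have hc : 0 < c := Nat.pos_of_mul_pos_right hM |> fun h => by
    rcases Nat.eq_zero_or_pos c with h0 | h0
    · subst h0; simp at hM
    · exact h0
  refine ⟨X ^ c, (pow_mem hX c), ?_⟩
  intro j
  rw [← pow_mul, h1, mul_comm r c]
  exact Nat.mul_dvd_mul_iff_left hc

end Cfsg.Agent.Lib.Helper42.PGraphS
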