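import Mathlib
import Cfsg.Agent.Lib.Helper42.PGraphS2

/-!
Prime graph of `PSp_{2n}(q)`: two commuting semisimple elements of odd prime orders.
-/

set_option autoImplicit false
set_option linter.unusedSectionVars false

namespace Cfsg.Agent.Lib.Helper42.PGraphS

open Matrix Polynomial
open Cfsg.Agent.Lib.Helper42.SpecPSp Cfsg.Agent.Lib.Helper42.PGraphL

variable {F : Type*} [Field F] {n : ℕ}

theorem exists_irr_vec {ι : Type*} [Fintype ι] [DecidableEq ι] (Y : Matrix ι ι F) (P : F[X])
    (hP : P ≠ 0) (v : ι → F) (hv : v ≠ 0) (h : aeval Y P *ᵥ v = 0) :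
    ∃ f g : F[X], Irreducible f ∧ f ∣ P ∧ aeval Y g *ᵥ v ≠ 0 ∧
      aeval Y f *ᵥ (aeval Y g *ᵥ v) = 0 := by
  induction P using WfDvdMonoid.induction_on_irreducible with
  | zero => exact absurd rfl hP
  | unit u hu =>
    exfalso
    obtain ⟨u', hu'⟩ := hu.exists_left_inv
    apply hv
    have h1 := congrArg (fun Q => aeval Y Q *ᵥ v) hu'
    simp only [map_mul, map_one, one_mulVec, ← mulVec_mulVec, h, mulVec_zero] at h1
    exact h1.symm
  | mul a i ha hi ih =>
    by_cases h0 : aeval Y a *ᵥ v = 0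
    · obtain ⟨f, g, hf, hfa, h1, h2⟩ := ih ha h0
      exact ⟨f, g, hf, hfa.mul_left _, h1, h2⟩
    · refine ⟨i, a, hi, dvd_mul_right _ _, h0, ?_⟩
      rw [mulVec_mulVec, ← map_mul]
      exact h

theorem adj_geom (r : ℕ) (hrF : (r : F) ≠ 0) (B : Matrix (Fin n ⊕ Fin n) (Fin n ⊕ Fin n) F)
    (hBs : adj B * B = 1) (hB : B ^ r = 1) :
    adj (∑ i ∈ Finset.range r, B ^ i) = ∑ i ∈ Finset.range r, B ^ i := by
  set T := ∑ i ∈ Finset.range r, B ^ i with hT
  have h1 : T * B = T := by
    have : T * (B - 1) = 0 := by rw [hT, geom_sum_mul, hB, sub_self]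
    rw [mul_sub, mul_one, sub_eq_zero] at this
    exact this
  have h2 : B * adj B = 1 := mul_eq_one_comm.mp hBs
  have h3 : B * adj T = adj T := by
    have := congrArg adj h1
    rw [adj_mul] at this
    calc B * adj T = B * (adj B * adj T) := by rw [this]
      _ = adj T := by rw [← mul_assoc, h2, one_mul]
  have h4 : ∀ i : ℕ, B ^ i * adj T = adj T := by
    intro i
    induction i with
    | zero => simp
    | succ i ih => rw [pow_succ, mul_assoc, h3, ih]
  have h5 : T * adj T = (r : F) • adj T := by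
    nth_rewrite 1 [hT]
    rw [Finset.sum_mul]
    simp only [h4, Finset.sum_const, Finset.card_range]
    rw [Nat.cast_smul_eq_nsmul]
  have h6 : adj (T * adj T) = T * adj T := by rw [adj_mul, adj_adj]
  rw [h5, adj_smul, adj_adj] at h6
  have h7 : (r : F) • (T - adj T) = 0 := by rw [smul_sub, h6, sub_self]
  exact (sub_eq_zero.mp ((smul_eq_zero.mp h7).resolve_left hrF)).symm

theorem no_fix {ι : Type*} [Fintype ι] [DecidableEq ι] (r : ℕ) (hrF : (r : F) ≠ 0) (B : Matrix ι ι F)
    (w : ι → F) (hw : (∑ i ∈ Finset.range r, B ^ i) *ᵥ w = 0) (hBw : B *ᵥ w = w) : w = 0 := by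
  have h1 : ∀ i : ℕ, (B ^ i) *ᵥ w = w := by
    intro i
    induction i with
    | zero => simp
    | succ i ih => rw [pow_succ, ← Matrix.mulVec_mulVec, hBw, ih]
  rw [Matrix.sum_mulVec] at hw
  simp only [h1, Finset.sum_const, Finset.card_range] at hw
  rw [← Nat.cast_smul_eq_nsmul F] at hw
  exact (smul_eq_zero.mp hw).resolve_left hrF

theorem finrank_W_ge [Fintype F] (r : ℕ) [Fact r.Prime] (hr2 : r ≠ 2) (hrF : (r : F) ≠ 0)
    (B : Matrix (Fin n ⊕ Fin n) (Fin n ⊕ Fin n) F) (hBs : adj B * B = 1)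
    (hB : B ^ r = 1) (hB1 : B ≠ 1) (η : ℕ)
    (hη : (Odd (orderOf ((Fintype.card F : ℕ) : ZMod r)) ∧ η = orderOf ((Fintype.card F : ℕ) : ZMod r)) ∨
      (Even (orderOf ((Fintype.card F : ℕ) : ZMod r)) ∧ 2 * η = orderOf ((Fintype.card F : ℕ) : ZMod r))) :
    2 * η ≤ Module.finrank F (LinearMap.ker (mulVecLin (∑ i ∈ Finset.range r, B ^ i))) := by
  classical
  have hr : r.Prime := Fact.out
  set k := orderOf ((Fintype.card F : ℕ) : ZMod r) with hk
  set T := ∑ i ∈ Finset.range r, B ^ i with hT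
  set W := LinearMap.ker (mulVecLin T) with hW
  have memW : ∀ w, w ∈ W ↔ T *ᵥ w = 0 := by
    intro w; rw [hW, LinearMap.mem_ker, Matrix.mulVecLin_apply]
  set Φ : F[X] := ∑ i ∈ Finset.range r, (X : F[X]) ^ i with hΦ
  have hΦT : aeval B Φ = T := by rw [hΦ, map_sum]; simp [hT]
  have hΦ0 : Φ ≠ 0 := by
    intro h
    have := congrArg (eval 1) h
    rw [hΦ, eval_geom_sum] at this
    simp at this
    exact hrF this
  have hT1 : T * (B - 1) = 0 := by rw [hT, geom_sum_mul, hB, sub_self]
  have hdetT : T.det = 0 := by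
    by_contra h
    have h1 : IsUnit T := (Matrix.isUnit_iff_isUnit_det _).mpr (isUnit_iff_ne_zero.mpr h)
    exact hB1 (sub_eq_zero.mp (h1.mul_right_eq_zero.mp hT1))
  have hTB : Commute T B := by
    rw [← hΦT]; exact commute_aeval B B (Commute.refl B) Φ
  rcases hη with ⟨hodd, he⟩ | ⟨-, he⟩
  · obtain ⟨f, hf, hfd, hdet⟩ := exists_irr B Φ hΦ0 (by rw [hΦT]; exact hdetT)
    have hcop := coprime_of_odd r hr2 hrF f hf hfd hodd
    set P := aeval B f with hP
    set KP := LinearMap.ker (mulVecLin P) with hKP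
    set KP' := LinearMap.ker (mulVecLin (adj P)) with hKP'
    have memK : ∀ w, w ∈ KP ↔ P *ᵥ w = 0 := by
      intro w; rw [hKP, LinearMap.mem_ker, Matrix.mulVecLin_apply]
    have memK' : ∀ w, w ∈ KP' ↔ adj P *ᵥ w = 0 := by
      intro w; rw [hKP', LinearMap.mem_ker, Matrix.mulVecLin_apply]
    have hPB : Commute P B := commute_aeval B B (Commute.refl B) f
    obtain ⟨c, hc'⟩ := hfd
    have hTP : T = aeval B c * P := by rw [← hΦT, hc', mul_comm, map_mul]
    have hKW : KP ≤ W := by
      intro w hw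
      rw [memK] at hw
      rw [memW, hTP, ← mulVec_mulVec, hw, mulVec_zero]
    have hKW' : KP' ≤ W := by
      intro w hw
      rw [memK'] at hw
      have h1 : T = adj P * adj (aeval B c) := by
        rw [← adj_mul, ← hTP]
        exact (adj_geom r hrF B hBs hB).symm
      have h2 : adj P * adj (aeval B c) = adj (aeval B c) * adj P := by
        rw [hP, adj_aeval_eq B hBs r hr.pos hB, adj_aeval_eq B hBs r hr.pos hB, ← map_mul, ← map_mul,
          mul_comm]
      rw [memW, h1, h2, ← mulVec_mulVec, hw, mulVec_zero]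
    have hdisj : KP ⊓ KP' = ⊥ := by
      rw [eq_bot_iff]
      rintro w ⟨h1, h2⟩
      rw [SetLike.mem_coe, memK] at h1
      rw [SetLike.mem_coe, memK'] at h2
      obtain ⟨a, b, hab⟩ := hcop
      have h8 := congrArg (aeval B) hab
      rw [map_add, map_mul, map_mul, map_one, ← adj_aeval_eq B hBs r hr.pos hB] at h8
      have h3 := congrArg (· *ᵥ w) h8
      simp only [add_mulVec, one_mulVec, ← mulVec_mulVec] at h3
      rw [← hP, h1, h2, mulVec_zero, mulVec_zero, add_zero] at h3
      rw [Submodule.mem_bot]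
      exact h3.symm
    have hdim : Module.finrank F KP' = Module.finrank F KP := by
      have h1 : Module.finrank F (LinearMap.range (mulVecLin (adj P))) + Module.finrank F KP = 2 * n :=
        finrank_range_adj P
      have h2 : Module.finrank F (LinearMap.range (mulVecLin (adj P))) + Module.finrank F KP'
          = Module.finrank F (Fin n ⊕ Fin n → F) :=
        LinearMap.finrank_range_add_finrank_ker (mulVecLin (adj P))
      rw [Module.finrank_fintype_fun_eq_card, Fintype.card_sum, Fintype.card_fin] at h2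
      omega
    obtain ⟨v, hv0, hv⟩ := Matrix.exists_mulVec_eq_zero_iff.mpr hdet
    have hKB : ∀ w ∈ KP, B *ᵥ w ∈ KP := by
      intro w hw
      rw [memK] at hw ⊢
      rw [mulVec_mulVec, hPB.eq, ← mulVec_mulVec, hw, mulVec_zero]
    have hd1 : k ∣ Module.finrank F KP := orderOf_dvd_finrank r B hB KP hKB
      (fun w hw => no_fix r hrF B w ((memW w).mp (hKW hw)))
    have hpos1 : 0 < Module.finrank F KP := by
      rw [Module.finrank_pos_iff_exists_ne_zero]
      exact ⟨⟨v, (memK v).mpr hv⟩, fun h => hv0 (congrArg Subtype.val h)⟩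
    have hk1 := Nat.le_of_dvd hpos1 hd1
    have h9 := Submodule.finrank_sup_add_finrank_inf_eq KP KP'
    rw [hdisj, finrank_bot, add_zero] at h9
    have h10 : Module.finrank F (KP ⊔ KP' : Submodule F (Fin n ⊕ Fin n → F)) ≤ Module.finrank F W :=
      Submodule.finrank_mono (sup_le hKW hKW')
    omega
  · obtain ⟨v, hv0, hv⟩ := Matrix.exists_mulVec_eq_zero_iff.mpr hdetT
    have hWB : ∀ w ∈ W, B *ᵥ w ∈ W := by
      intro w hw
      rw [memW] at hw ⊢
      rw [mulVec_mulVec, hTB.eq, ← mulVec_mulVec, hw, mulVec_zero]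
    have hd1 : k ∣ Module.finrank F W := orderOf_dvd_finrank r B hB W hWB
      (fun w hw => no_fix r hrF B w ((memW w).mp hw))
    have hpos1 : 0 < Module.finrank F W := by
      rw [Module.finrank_pos_iff_exists_ne_zero]
      exact ⟨⟨v, (memW v).mpr hv⟩, fun h => hv0 (congrArg Subtype.val h)⟩
    have hk1 := Nat.le_of_dvd hpos1 hd1
    omega

end Cfsg.Agent.Lib.Helper42.PGraphS
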