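import Mathlib
import Cfsg.Agent.Lib.Helper42.PGraphS4

/-!
Prime graph of `PSp_{2n}(q)`: the case of a common block for two primes.
-/

set_option autoImplicit false
set_option linter.unusedSectionVars false

namespace Cfsg.Agent.Lib.Helper42.PGraphS

open Matrix Polynomial
open Cfsg.Agent.Lib.Helper42.SpecPSp Cfsg.Agent.Lib.Helper42.PGraphL

variable {F : Type*} [Field F] {n : ℕ}

theorem caseB [Fintype F] (r s : ℕ) [Fact r.Prime] [Fact s.Prime] (hr2 : r ≠ 2)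
    (hrF : (r : F) ≠ 0) (hsF : (s : F) ≠ 0)
    (Y : Matrix (Fin n ⊕ Fin n) (Fin n ⊕ Fin n) F) (hYs : adj Y * Y = 1) (hY : Y ^ (r * s) = 1)
    (v : Fin n ⊕ Fin n → F) (hv0 : v ≠ 0)
    (hvr : (∑ i ∈ Finset.range r, (Y ^ s) ^ i) *ᵥ v = 0)
    (hvs : (∑ i ∈ Finset.range s, (Y ^ r) ^ i) *ᵥ v = 0) :
    ∃ D, 0 < D ∧ orderOf ((Fintype.card F : ℕ) : ZMod r) ∣ D ∧
      orderOf ((Fintype.card F : ℕ) : ZMod s) ∣ D ∧
      (D ≤ n ∨ (D ≤ 2 * n ∧ ∃ j, r ∣ Fintype.card F ^ j + 1 ∧ s ∣ Fintype.card F ^ j + 1)) := by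
  classical
  have hr : r.Prime := Fact.out
  have hs : s.Prime := Fact.out
  set Gr : F[X] := ∑ i ∈ Finset.range r, ((X : F[X]) ^ s) ^ i with hGr
  set Gs : F[X] := ∑ i ∈ Finset.range s, ((X : F[X]) ^ r) ^ i with hGs
  have hGrY : aeval Y Gr = ∑ i ∈ Finset.range r, (Y ^ s) ^ i := by rw [hGr, map_sum]; simp
  have hGsY : aeval Y Gs = ∑ i ∈ Finset.range s, (Y ^ r) ^ i := by rw [hGs, map_sum]; simp
  have hGr0 : Gr ≠ 0 := by
    intro h
    have := congrArg (eval 1) h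
    rw [hGr, eval_finsetSum] at this
    simp at this
    exact hrF this
  obtain ⟨f, g, hf, hfd, hw0, hfw⟩ := exists_irr_vec Y Gr hGr0 v hv0 (by rw [hGrY]; exact hvr)
  set w := aeval Y g *ᵥ v with hw
  have hGsw : aeval Y Gs *ᵥ w = 0 := by
    rw [hw, mulVec_mulVec, ← map_mul, mul_comm, map_mul, ← mulVec_mulVec, hGsY, hvs, mulVec_zero]
  have hfd' : f ∣ Gs := by
    by_contra h
    obtain ⟨a, b, hab⟩ := (hf.coprime_iff_not_dvd).mpr h
    have h3 := congrArg (fun Q => aeval Y Q *ᵥ w) hab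
    simp only [map_add, map_mul, map_one, add_mulVec, one_mulVec, ← mulVec_mulVec, hfw, hGsw,
      mulVec_zero, add_zero] at h3
    exact hw0 h3.symm
  set P := aeval Y f with hP
  set KP := LinearMap.ker (mulVecLin P) with hKP
  have memK : ∀ u, u ∈ KP ↔ P *ᵥ u = 0 := by
    intro u; rw [hKP, LinearMap.mem_ker, Matrix.mulVecLin_apply]
  have hPY : ∀ j : ℕ, Commute P (Y ^ j) := fun j =>
    (commute_aeval Y Y (Commute.refl Y) f).pow_right j
  have hKY : ∀ (j : ℕ), ∀ u ∈ KP, (Y ^ j) *ᵥ u ∈ KP := by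
    intro j u hu
    rw [memK] at hu ⊢
    rw [mulVec_mulVec, (hPY j).eq, ← mulVec_mulVec, hu, mulVec_zero]
  have hKr : ∀ u ∈ KP, (∑ i ∈ Finset.range r, (Y ^ s) ^ i) *ᵥ u = 0 := by
    intro u hu
    rw [memK] at hu
    obtain ⟨c, hc⟩ := hfd
    rw [← hGrY, hc, mul_comm, map_mul, ← mulVec_mulVec, hu, mulVec_zero]
  have hKs : ∀ u ∈ KP, (∑ i ∈ Finset.range s, (Y ^ r) ^ i) *ᵥ u = 0 := by
    intro u hu
    rw [memK] at hu
    obtain ⟨c, hc⟩ := hfd'
    rw [← hGsY, hc, mul_comm, map_mul, ← mulVec_mulVec, hu, mulVec_zero]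
  have hd1 : orderOf ((Fintype.card F : ℕ) : ZMod r) ∣ Module.finrank F KP :=
    orderOf_dvd_finrank r (Y ^ s) (by rw [← pow_mul, mul_comm, hY]) KP (hKY s)
      (fun u hu => no_fix r hrF (Y ^ s) u (hKr u hu))
  have hd2 : orderOf ((Fintype.card F : ℕ) : ZMod s) ∣ Module.finrank F KP :=
    orderOf_dvd_finrank s (Y ^ r) (by rw [← pow_mul, hY]) KP (hKY r)
      (fun u hu => no_fix s hsF (Y ^ r) u (hKs u hu))
  have hpos : 0 < Module.finrank F KP := by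
    rw [Module.finrank_pos_iff_exists_ne_zero]
    exact ⟨⟨w, (memK w).mpr hfw⟩, fun h => hw0 (congrArg Subtype.val h)⟩
  have hfrs : f ∣ X ^ (r * s) - 1 := by
    have : Gr * (X ^ s - 1) = X ^ (r * s) - 1 := by
      rw [hGr, geom_sum_mul, ← pow_mul, mul_comm s r]
    rw [← this]
    exact hfd.mul_right _
  have hvec : ∀ m : ℕ, f ∣ X ^ m - 1 → (Y ^ m) *ᵥ w = w := by
    intro m hm
    obtain ⟨c, hc⟩ := hm
    have h1 : aeval Y (X ^ m - 1 : F[X]) *ᵥ w = 0 := by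
      rw [hc, mul_comm, map_mul, ← mulVec_mulVec, hfw, mulVec_zero]
    simp only [map_sub, map_pow, aeval_X, map_one, sub_mulVec, one_mulVec] at h1
    exact sub_eq_zero.mp h1
  have hmul : ∀ m t : ℕ, f ∣ X ^ m - 1 → f ∣ X ^ (m * t) - 1 := by
    intro m t hm
    have : (X ^ m - 1 : F[X]) ∣ (X ^ m) ^ t - 1 ^ t := sub_dvd_pow_sub_pow _ _ _
    rw [one_pow, ← pow_mul] at this
    exact hm.trans this
  have hordr : ∀ m : ℕ, f ∣ X ^ m - 1 → r ∣ m := by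
    intro m hm
    by_contra hnd
    have h1 := dvd_gcd_pow f _ _ (hmul m s hm) hfrs
    rw [Nat.gcd_mul_right, Nat.Coprime.symm ((Nat.Prime.coprime_iff_not_dvd hr).mpr hnd), one_mul] at h1
    exact hw0 (no_fix r hrF (Y ^ s) w (hKr w ((memK w).mpr hfw)) (hvec s h1))
  have hords : ∀ m : ℕ, f ∣ X ^ m - 1 → s ∣ m := by
    intro m hm
    by_contra hnd
    have h1 := dvd_gcd_pow f _ _ (hmul m r hm) (by rw [mul_comm s r]; exact hfrs : f ∣ X ^ (s * r) - 1)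
    rw [Nat.gcd_mul_right, Nat.Coprime.symm ((Nat.Prime.coprime_iff_not_dvd hs).mpr hnd), one_mul] at h1
    exact hw0 (no_fix s hsF (Y ^ r) w (hKs w ((memK w).mpr hfw)) (hvec r h1))
  refine ⟨Module.finrank F KP, hpos, hd1, hd2, ?_⟩
  rcases coprime_or (r * s) (Nat.mul_pos hr.pos hs.pos) f hf hfrs with h | h | ⟨j, -, h⟩
  · left
    exact finrank_ker_le Y hYs (r * s) (Nat.mul_pos hr.pos hs.pos) hY f h
  · exfalso
    exact hr2 ((Nat.prime_dvd_prime_iff_eq hr Nat.prime_two).mp (hordr 2 h))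
  · right
    refine ⟨?_, j, hordr _ h, hords _ h⟩
    have := Submodule.finrank_le KP
    rw [Module.finrank_fintype_fun_eq_card, Fintype.card_sum, Fintype.card_fin] at this
    omega

end Cfsg.Agent.Lib.Helper42.PGraphS
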