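import Mathlib
import Cfsg.Agent.Lib.Helper42.PGraphS3

/-!
Prime graph of `PSp_{2n}(q)`: more constructions; arithmetic.
-/

set_option autoImplicit false
set_option linter.unusedSectionVars false

namespace Cfsg.Agent.Lib.Helper42.PGraphS

open Matrix Module
open Cfsg.Agent.Lib.Helper42.SpecPSp

variable {F : Type*} [Field F] [Fintype F]

theorem exists_pad (d t M : ℕ)
    (h : ∃ X : Matrix (Fin d ⊕ Fin d) (Fin d ⊕ Fin d) F, X ∈ symplecticGroup (Fin d) F ∧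
      (∀ j, X ^ j = 1 ↔ M ∣ j)) :
    ∃ X : Matrix (Fin (d + t) ⊕ Fin (d + t)) (Fin (d + t) ⊕ Fin (d + t)) F,
      X ∈ symplecticGroup (Fin (d + t)) F ∧ (∀ j, X ^ j = 1 ↔ M ∣ j) := by
  obtain ⟨X, hX, h1⟩ := h
  obtain ⟨Φ, hΦ, hmem⟩ := sum_sp (F := F) d t
  refine ⟨Φ (X, 1), hmem _ _ hX (one_mem _), ?_⟩
  intro j
  rw [← map_pow, ← h1]
  constructor
  · intro h
    have h3 : (X, (1 : Matrix (Fin t ⊕ Fin t) (Fin t ⊕ Fin t) F)) ^ j = 1 := hΦ (by rw [h, map_one])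
    exact congrArg Prod.fst h3
  · intro h
    have h3 : (X, (1 : Matrix (Fin t ⊕ Fin t) (Fin t ⊕ Fin t) F)) ^ j = 1 :=
      Prod.ext h (one_pow j)
    rw [h3, map_one]

theorem exists_psp_of_odd (n : ℕ) (hn : 0 < n) (M : ℕ) (hM : Odd M)
    (h : ∃ X : Matrix (Fin n ⊕ Fin n) (Fin n ⊕ Fin n) F, X ∈ symplecticGroup (Fin n) F ∧
      (∀ j, X ^ j = 1 ↔ M ∣ j)) :
    ∃ g : Cfsg.PSp n F, orderOf g = M := by
  obtain ⟨X, hX, key⟩ := h
  refine ⟨QuotientGroup.mk ⟨X, hX⟩, orderOf_psp hn _ _ ?_⟩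
  intro j
  show (X ^ j = 1 ∨ X ^ j = -1) ↔ _
  constructor
  · rintro (h | h)
    · exact (key j).mp h
    · have h3 : X ^ (2 * j) = 1 := by rw [pow_mul', h]; simp
      rw [key] at h3
      exact Nat.Coprime.dvd_of_dvd_mul_left (Nat.coprime_two_right.mpr hM) h3
  · intro h
    exact Or.inl ((key j).mpr h)

theorem torus_dvd (p : ℕ) [Fact p.Prime] [CharP F p] (η : ℕ) (hη : 0 < η) (M : ℕ)
    (h : M ∣ Fintype.card F ^ η - 1 ∨ M ∣ Fintype.card F ^ η + 1) :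
    ∃ X : Matrix (Fin η ⊕ Fin η) (Fin η ⊕ Fin η) F, X ∈ symplecticGroup (Fin η) F ∧
      (∀ j, X ^ j = 1 ↔ M ∣ j) := by
  have hq2 : 2 ≤ Fintype.card F := Fintype.one_lt_card
  rcases h with h | h
  · obtain ⟨X, hX, h1, -⟩ := exists_torus_minus (F := F) p η hη
    have hpos : 0 < Fintype.card F ^ η - 1 := by
      have : 2 ≤ Fintype.card F ^ η := le_trans hq2 (Nat.le_self_pow hη.ne' _)
      omega
    exact exists_of_dvd_torus η _ M hpos h ⟨X, hX, h1⟩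
  · obtain ⟨X, hX, h1, -⟩ := exists_torus_plus' (F := F) p η hη
    exact exists_of_dvd_torus η _ M (by omega) h ⟨X, hX, h1⟩

theorem two_mul_le_of_not_dvd (k l D : ℕ) (hD : 0 < D) (hkD : k ∣ D) (hlD : l ∣ D) (h : ¬ k ∣ l) :
    2 * l ≤ D := by
  have h1 : Nat.lcm k l ∣ D := Nat.lcm_dvd hkD hlD
  obtain ⟨c, hc⟩ := Nat.dvd_lcm_right k l
  have h2 := Nat.le_of_dvd hD h1
  have hc2 : 2 ≤ c := by
    by_contra hlt
    have : c = 0 ∨ c = 1 := by omega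
    rcases this with h0 | h0
    · rw [h0, mul_zero] at hc
      rw [hc] at h1
      have := Nat.eq_zero_of_zero_dvd h1
      omega
    · rw [h0, mul_one] at hc
      exact h (hc ▸ Nat.dvd_lcm_left k l)
  nlinarith

theorem arith1 (k l ηk ηl n D : ℕ)
    (hηk : (Odd k ∧ ηk = k) ∨ (Even k ∧ 2 * ηk = k)) (hηl : (Odd l ∧ ηl = l) ∨ (Even l ∧ 2 * ηl = l))
    (hkl : ηk ≤ ηl) (hD : 0 < D) (hkD : k ∣ D) (hlD : l ∣ D) (hDn : D ≤ n) :
    ηk + ηl ≤ n ∨ ∃ t, Odd t ∧ l = k * t := by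
  by_cases hdiv : k ∣ l
  · obtain ⟨t, ht⟩ := hdiv
    rcases Nat.even_or_odd t with he | ho
    · left
      have hl : Even l := by rw [ht]; exact he.mul_left k
      have := Nat.le_of_dvd hD hlD
      rcases hηl with ⟨h1, -⟩ | ⟨-, h1⟩
      · exact absurd hl (Nat.not_even_iff_odd.mpr h1)
      · omega
    · right; exact ⟨t, ho, ht⟩
  · left
    have := two_mul_le_of_not_dvd k l D hD hkD hlD hdiv
    rcases hηl with ⟨-, h1⟩ | ⟨-, h1⟩ <;> omega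

theorem arith2 (k l ηk ηl n D j : ℕ)
    (hηk : (Odd k ∧ ηk = k) ∨ (Even k ∧ 2 * ηk = k)) (hηl : (Odd l ∧ ηl = l) ∨ (Even l ∧ 2 * ηl = l))
    (hkl : ηk ≤ ηl) (hD : 0 < D) (hkD : k ∣ D) (hlD : l ∣ D) (hDn : D ≤ 2 * n)
    (hk1 : k ∣ 2 * j) (hk2 : ¬ k ∣ j) (hl1 : l ∣ 2 * j) (hl2 : ¬ l ∣ j) :
    ηk + ηl ≤ n ∨ ∃ t, Odd t ∧ l = k * t := by
  have hle : 2 * ηl = l := by
    rcases hηl with ⟨h1, -⟩ | ⟨-, h1⟩
    · exact absurd (Nat.Coprime.dvd_of_dvd_mul_left (Nat.coprime_two_right.mpr h1) hl1) hl2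
    · exact h1
  by_cases hdiv : k ∣ l
  · obtain ⟨t, ht⟩ := hdiv
    rcases Nat.even_or_odd t with he | ho
    · exfalso
      obtain ⟨u, hu⟩ := he
      apply hk2
      have h1 : 2 * (k * u) ∣ 2 * j := by
        have : l = 2 * (k * u) := by rw [ht, hu]; ring
        rw [← this]; exact hl1
      exact (dvd_mul_right k u).trans (Nat.dvd_of_mul_dvd_mul_left (by norm_num) h1)
    · right; exact ⟨t, ho, ht⟩
  · left
    have := two_mul_le_of_not_dvd k l D hD hkD hlD hdiv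
    omega

end Cfsg.Agent.Lib.Helper42.PGraphS
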