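import Mathlib
import Cfsg.Agent.Lib.Helper42.PGraphS4

/-!
Prime graph of `PSU_n(q)`: a linear lemma on two independent blocks.
-/

set_option autoImplicit false
set_option linter.unusedSectionVars false

namespace Cfsg.Agent.Lib.Helper42.PGraphU

open Matrix Polynomial
open Cfsg.Agent.Lib.Helper42.PGraphL Cfsg.Agent.Lib.Helper42.PGraphS

variable {F : Type*} [Field F] [Fintype F]

/-- a nilpotent matrix kills an invariant subspace of minimal dimension -/
theorem ker_le_ker {ι : Type*} [Fintype ι] [DecidableEq ι] (r : ℕ) [Fact r.Prime]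
    (B N P : Matrix ι ι F) (hB : B ^ r = 1) (hN : IsNilpotent N) (hBN : Commute B N)
    (hPB : Commute P B) (hPN : Commute P N)
    (hfix : ∀ w, P *ᵥ w = 0 → B *ᵥ w = w → w = 0)
    (hdim : Module.finrank F (LinearMap.ker (mulVecLin P)) ≤ orderOf ((Fintype.card F : ℕ) : ZMod r)) :
    LinearMap.ker (mulVecLin P) ≤ LinearMap.ker (mulVecLin N) := by
  classical
  set k := orderOf ((Fintype.card F : ℕ) : ZMod r) with hk
  set KP := LinearMap.ker (mulVecLin P) with hKP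
  set Kn := LinearMap.ker (mulVecLin N) with hKn
  have memK : ∀ w, w ∈ KP ↔ P *ᵥ w = 0 := by
    intro w; rw [hKP, LinearMap.mem_ker, Matrix.mulVecLin_apply]
  have memKn : ∀ w, w ∈ Kn ↔ N *ᵥ w = 0 := by
    intro w; rw [hKn, LinearMap.mem_ker, Matrix.mulVecLin_apply]
  by_cases hbot : KP = ⊥
  · rw [hbot]; exact bot_le
  obtain ⟨v, hvK, hv0⟩ := Submodule.exists_mem_ne_zero_of_ne_bot hbot
  have hv := (memK v).mp hvK
  obtain ⟨w, hwK, hwN, hw0⟩ : ∃ w, w ∈ KP ∧ w ∈ Kn ∧ w ≠ 0 := by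
    obtain ⟨m, hm⟩ := hN
    have hex : ∃ m, (N ^ m) *ᵥ v = 0 := ⟨m, by rw [hm, zero_mulVec]⟩
    set m0 := Nat.find hex with hm0
    have h1 : (N ^ m0) *ᵥ v = 0 := Nat.find_spec hex
    have h2 : 1 ≤ m0 := by
      by_contra hlt
      have : m0 = 0 := by omega
      rw [this, pow_zero, one_mulVec] at h1
      exact hv0 h1
    refine ⟨(N ^ (m0 - 1)) *ᵥ v, ?_, ?_, Nat.find_min hex (by omega)⟩
    · rw [memK, mulVec_mulVec, (hPN.pow_right _).eq, ← mulVec_mulVec, hv, mulVec_zero]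
    · rw [memKn, mulVec_mulVec, ← pow_succ', Nat.sub_add_cancel h2, h1]
  have hKB : ∀ w ∈ KP, B *ᵥ w ∈ KP := by
    intro w hw
    rw [memK] at hw ⊢
    rw [mulVec_mulVec, hPB.eq, ← mulVec_mulVec, hw, mulVec_zero]
  have hKnB : ∀ w ∈ Kn, B *ᵥ w ∈ Kn := by
    intro w hw
    rw [memKn] at hw ⊢
    rw [Matrix.mulVec_mulVec, ← hBN.eq, ← Matrix.mulVec_mulVec, hw, Matrix.mulVec_zero]
  have hd2 : k ∣ Module.finrank F (KP ⊓ Kn : Submodule F (ι → F)) :=
    orderOf_dvd_finrank r B hB (KP ⊓ Kn) (fun w hw => ⟨hKB w hw.1, hKnB w hw.2⟩)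
      (fun w hw => hfix w ((memK w).mp hw.1))
  have hpos2 : 0 < Module.finrank F (KP ⊓ Kn : Submodule F (ι → F)) := by
    rw [Module.finrank_pos_iff_exists_ne_zero]
    exact ⟨⟨w, ⟨hwK, hwN⟩⟩, fun h => hw0 (congrArg Subtype.val h)⟩
  have hk2 := Nat.le_of_dvd hpos2 hd2
  have heq : KP ⊓ Kn = KP := Submodule.eq_of_le_of_finrank_le inf_le_left (by omega)
  rw [← heq]
  exact inf_le_right

/-- positive multiples -/
theorem finrank_ker_ge {ι : Type*} [Fintype ι] [DecidableEq ι] (r : ℕ) [Fact r.Prime]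
    (B P : Matrix ι ι F) (hB : B ^ r = 1) (hPB : Commute P B) (hdet : P.det = 0)
    (hfix : ∀ w, P *ᵥ w = 0 → B *ᵥ w = w → w = 0) :
    0 < Module.finrank F (LinearMap.ker (mulVecLin P)) ∧
    orderOf ((Fintype.card F : ℕ) : ZMod r) ∣ Module.finrank F (LinearMap.ker (mulVecLin P)) := by
  classical
  set KP := LinearMap.ker (mulVecLin P) with hKP
  have memK : ∀ w, w ∈ KP ↔ P *ᵥ w = 0 := by
    intro w; rw [hKP, LinearMap.mem_ker, Matrix.mulVecLin_apply]
  obtain ⟨v, hv0, hv⟩ := Matrix.exists_mulVec_eq_zero_iff.mpr hdet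
  have hKB : ∀ w ∈ KP, B *ᵥ w ∈ KP := by
    intro w hw
    rw [memK] at hw ⊢
    rw [mulVec_mulVec, hPB.eq, ← mulVec_mulVec, hw, mulVec_zero]
  refine ⟨?_, orderOf_dvd_finrank r B hB KP hKB (fun w hw => hfix w ((memK w).mp hw))⟩
  rw [Module.finrank_pos_iff_exists_ne_zero]
  exact ⟨⟨v, (memK v).mpr hv⟩, fun h => hv0 (congrArg Subtype.val h)⟩

theorem lin_core2 {ι : Type*} [Fintype ι] [DecidableEq ι] (r : ℕ) [Fact r.Prime]
    (B N P P' : Matrix ι ι F) (hB : B ^ r = 1) (hN : IsNilpotent N) (hN0 : N ≠ 0)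
    (hBN : Commute B N) (hPB : Commute P B) (hPN : Commute P N) (hPB' : Commute P' B)
    (hPN' : Commute P' N) (hdet : P.det = 0) (hdet' : P'.det = 0)
    (hfix : ∀ w, P *ᵥ w = 0 → B *ᵥ w = w → w = 0)
    (hfix' : ∀ w, P' *ᵥ w = 0 → B *ᵥ w = w → w = 0)
    (hdisj : ∀ w, P *ᵥ w = 0 → P' *ᵥ w = 0 → w = 0)
    (hk2 : 2 ≤ orderOf ((Fintype.card F : ℕ) : ZMod r)) :
    2 * orderOf ((Fintype.card F : ℕ) : ZMod r) + 2 ≤ Fintype.card ι := by
  classical
  set k := orderOf ((Fintype.card F : ℕ) : ZMod r) with hk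
  set KP := LinearMap.ker (mulVecLin P) with hKP
  set KP' := LinearMap.ker (mulVecLin P') with hKP'
  set Kn := LinearMap.ker (mulVecLin N) with hKn
  have memK : ∀ w, w ∈ KP ↔ P *ᵥ w = 0 := by
    intro w; rw [hKP, LinearMap.mem_ker, Matrix.mulVecLin_apply]
  have memK' : ∀ w, w ∈ KP' ↔ P' *ᵥ w = 0 := by
    intro w; rw [hKP', LinearMap.mem_ker, Matrix.mulVecLin_apply]
  have memKn : ∀ w, w ∈ Kn ↔ N *ᵥ w = 0 := by
    intro w; rw [hKn, LinearMap.mem_ker, Matrix.mulVecLin_apply]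
  obtain ⟨hp1, hd1⟩ : 0 < Module.finrank F KP ∧ k ∣ Module.finrank F KP :=
    finrank_ker_ge r B P hB hPB hdet hfix
  obtain ⟨hp2, hd2⟩ : 0 < Module.finrank F KP' ∧ k ∣ Module.finrank F KP' :=
    finrank_ker_ge r B P' hB hPB' hdet' hfix'
  have hbot : KP ⊓ KP' = ⊥ := by
    rw [eq_bot_iff]
    rintro w ⟨h1, h2⟩
    rw [Submodule.mem_bot]
    exact hdisj w ((memK w).mp h1) ((memK' w).mp h2)
  have hsum := Submodule.finrank_sup_add_finrank_inf_eq KP KP'
  rw [hbot, finrank_bot, add_zero] at hsum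
  have hle := Submodule.finrank_le (KP ⊔ KP')
  rw [Module.finrank_fintype_fun_eq_card] at hle
  by_contra hlt
  obtain ⟨c1, hc1⟩ := hd1
  obtain ⟨c2, hc2⟩ := hd2
  have hc11 : c1 = 1 := by
    have h1 : 1 ≤ c1 := by
      rcases Nat.eq_zero_or_pos c1 with h | h
      · rw [h, mul_zero] at hc1; omega
      · exact h
    have h2 : 1 ≤ c2 := by
      rcases Nat.eq_zero_or_pos c2 with h | h
      · rw [h, mul_zero] at hc2; omega
      · exact h
    by_contra hne
    have h3 : 2 ≤ c1 := by omega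
    have : k * 2 ≤ k * c1 := Nat.mul_le_mul_left k h3
    have : k * 1 ≤ k * c2 := Nat.mul_le_mul_left k h2
    omega
  have hc21 : c2 = 1 := by
    have h1 : 1 ≤ c2 := by
      rcases Nat.eq_zero_or_pos c2 with h | h
      · rw [h, mul_zero] at hc2; omega
      · exact h
    by_contra hne
    have h3 : 2 ≤ c2 := by omega
    have : k * 2 ≤ k * c2 := Nat.mul_le_mul_left k h3
    rw [hc11, mul_one] at hc1
    omega
  rw [hc11, mul_one] at hc1
  rw [hc21, mul_one] at hc2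
  have h1 : KP ≤ Kn := ker_le_ker r B N P hB hN hBN hPB hPN hfix (by rw [← hKP, hc1])
  have h2 : KP' ≤ Kn := ker_le_ker r B N P' hB hN hBN hPB' hPN' hfix' (by rw [← hKP', hc2])
  have h3 : KP ⊔ KP' ≤ Kn := sup_le h1 h2
  set L := LinearMap.range (mulVecLin N) with hL
  have hrn : Module.finrank F L + Module.finrank F Kn = Fintype.card ι := by
    have := LinearMap.finrank_range_add_finrank_ker (mulVecLin N)
    rwa [Module.finrank_fintype_fun_eq_card] at this
  have hLpos : 0 < Module.finrank F L := by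
    rw [Module.finrank_pos_iff_exists_ne_zero]
    by_contra hcon
    push Not at hcon
    apply hN0
    apply Matrix.toLin'.injective
    apply LinearMap.ext
    intro v
    rw [Matrix.toLin'_apply, map_zero, LinearMap.zero_apply]
    have := hcon ⟨N *ᵥ v, ⟨v, rfl⟩⟩
    exact congrArg Subtype.val this
  have h4 := Submodule.finrank_mono h3
  have hL1 : Module.finrank F L = 1 := by omega
  have hKn : Kn = KP ⊔ KP' := (Submodule.eq_of_le_of_finrank_le h3 (by omega)).symm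
  have hLB : ∀ w ∈ L, B *ᵥ w ∈ L := by
    rintro _ ⟨v, rfl⟩
    refine ⟨B *ᵥ v, ?_⟩
    rw [Matrix.mulVecLin_apply, Matrix.mulVecLin_apply, Matrix.mulVec_mulVec, Matrix.mulVec_mulVec,
      hBN.eq]
  -- a fixed vector in `L`
  obtain ⟨w, hwL, hBw, hw0⟩ : ∃ w ∈ L, B *ᵥ w = w ∧ w ≠ 0 := by
    by_contra hcon
    push Not at hcon
    have := orderOf_dvd_finrank r B hB L hLB (fun w hw hBw => by
      by_contra h0
      exact h0 (hcon w hw hBw))
    rw [hL1] at this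
    have := Nat.le_of_dvd one_pos this
    omega
  -- `N w = 0`
  have hNw : N *ᵥ w = 0 := by
    have hNwL : N *ᵥ w ∈ L := ⟨w, rfl⟩
    obtain ⟨c, hc⟩ : ∃ c : F, c • w = N *ᵥ w := by
      have := (finrank_eq_one_iff_of_nonzero' (⟨w, hwL⟩ : L)
        (fun h => hw0 (congrArg Subtype.val h))).mp hL1 ⟨N *ᵥ w, hNwL⟩
      obtain ⟨c, hc⟩ := this
      exact ⟨c, congrArg Subtype.val hc⟩
    have hpow : ∀ j : ℕ, (N ^ j) *ᵥ w = c ^ j • w := by
      intro j
      induction j with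
      | zero => simp
      | succ j ih => rw [pow_succ, ← mulVec_mulVec, ← hc, mulVec_smul, ih, smul_smul, ← pow_succ']
    obtain ⟨m, hm⟩ := hN
    have h5 := hpow m
    rw [hm, zero_mulVec] at h5
    have h6 : c ^ m = 0 := (smul_eq_zero.mp h5.symm).resolve_right hw0
    have h7 : c = 0 := by
      by_contra hc0
      exact pow_ne_zero m hc0 h6
    rw [← hc, h7, zero_smul]
  have hwK : w ∈ KP ⊔ KP' := by rw [← hKn, memKn]; exact hNw
  obtain ⟨u, hu, u', hu', huw⟩ := Submodule.mem_sup.mp hwK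
  have hKB : ∀ w ∈ KP, B *ᵥ w ∈ KP := by
    intro w hw
    rw [memK] at hw ⊢
    rw [mulVec_mulVec, hPB.eq, ← mulVec_mulVec, hw, mulVec_zero]
  have hKB' : ∀ w ∈ KP', B *ᵥ w ∈ KP' := by
    intro w hw
    rw [memK'] at hw ⊢
    rw [mulVec_mulVec, hPB'.eq, ← mulVec_mulVec, hw, mulVec_zero]
  have h7 : B *ᵥ u - u = -(B *ᵥ u' - u') := by
    have : B *ᵥ (u + u') = u + u' := by rw [huw, hBw]
    rw [mulVec_add] at this
    have h8 : B *ᵥ u - u + (B *ᵥ u' - u') = 0 := by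
      rw [sub_add_sub_comm, this, sub_self]
    exact eq_neg_of_add_eq_zero_left h8
  have h8 : B *ᵥ u - u ∈ KP ⊓ KP' :=
    ⟨KP.sub_mem (hKB u hu) hu, by rw [h7]; exact KP'.neg_mem (KP'.sub_mem (hKB' u' hu') hu')⟩
  rw [hbot, Submodule.mem_bot] at h8
  have hu0 : u = 0 := hfix u ((memK u).mp hu) (sub_eq_zero.mp h8)
  rw [h8, zero_eq_neg] at h7
  have hu0' : u' = 0 := hfix' u' ((memK' u').mp hu') (sub_eq_zero.mp h7)
  apply hw0
  rw [← huw, hu0, hu0', add_zero]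

end Cfsg.Agent.Lib.Helper42.PGraphU
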