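import Mathlib
import Cfsg.Agent.Lib.Helper42.PGraphU1
import Cfsg.Agent.Lib.Helper42.SpecPSU3

/-!
Prime graph of `PSU_n(q)`: conjugate-dual factors.
-/

set_option autoImplicit false
set_option linter.unusedSectionVars false

namespace Cfsg.Agent.Lib.Helper42.PGraphU

open Matrix Polynomial
open Cfsg.Agent.Lib.Helper13 Cfsg.Agent.Lib.Helper5 Cfsg.Agent.Lib.Helper39.SUDeg
open Cfsg.Agent.Lib.Helper42.PGraphL Cfsg.Agent.Lib.Helper42.PGraphS
open Cfsg.Agent.Lib.Helper42.SpecPSU Cfsg.Agent.Lib.Helper42.SpecPSp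

variable {F : Type*} [Field F] [Fintype F] {q : ℕ} (hF : Fintype.card F = q ^ 2) {n : ℕ}

theorem cT_eq_pow (B : Matrix (Fin n) (Fin n) F) (hBs : cT hF B * B = 1) (m : ℕ)
    (hm : 0 < m) (hB : B ^ m = 1) : cT hF B = B ^ (m - 1) := by
  have h1 : B * B ^ (m - 1) = 1 := by rw [← pow_succ', Nat.sub_add_cancel hm, hB]
  calc cT hF B = cT hF B * (B * B ^ (m - 1)) := by rw [h1, mul_one]
    _ = B ^ (m - 1) := by rw [← mul_assoc, hBs, one_mul]

/-- the conjugate-dual polynomial -/
noncomputable def dag (m : ℕ) (f : F[X]) : F[X] := (f.map (frobQ hF)).comp (X ^ (m - 1))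

theorem cT_aeval_eq (B : Matrix (Fin n) (Fin n) F) (hBs : cT hF B * B = 1) (m : ℕ)
    (hm : 0 < m) (hB : B ^ m = 1) (f : F[X]) :
    cT hF (aeval B f) = aeval B (dag hF m f) := by
  rw [cT_aeval, cT_eq_pow hF B hBs m hm hB, dag, aeval_comp]; simp

theorem coprime_or_u (m : ℕ) (hm : 0 < m) (f : F[X]) (hf : Irreducible f) (hfd : f ∣ X ^ m - 1) :
    IsCoprime f (dag hF m f) ∨ (Odd f.natDegree ∧ f ∣ X ^ (q ^ f.natDegree + 1) - 1) := by
  classical
  by_cases hdvd : f ∣ dag hF m f
  swap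
  · left
    exact (hf.coprime_iff_not_dvd).mpr hdvd
  right
  have : Fact (Irreducible f) := ⟨hf⟩
  let K := AdjoinRoot f
  have : Module.Finite F K := (AdjoinRoot.powerBasis hf.ne_zero).finite
  have : Finite K := Module.finite_of_finite F
  set β : K := AdjoinRoot.root f with hβ
  have hβm : β ^ m = 1 := by
    have := (AdjoinRoot.mk_eq_zero (f := f)).mpr hfd
    rw [map_sub, map_pow, AdjoinRoot.mk_X, map_one, sub_eq_zero] at this
    exact this
  have hββ : β * β ^ (m - 1) = 1 := by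
    rw [← pow_succ', Nat.sub_add_cancel hm, hβm]
  have h0 : aeval (β ^ (m - 1)) (f.map (frobQ hF)) = 0 := by
    have := (AdjoinRoot.mk_eq_zero (f := f)).mpr hdvd
    rw [← AdjoinRoot.aeval_eq, dag, aeval_comp] at this
    simpa using this
  let τ : K →+* K := AdjoinRoot.lift ((algebraMap F K).comp (frobQ hF)) (β ^ (m - 1)) (by
    rw [← h0, aeval_def, eval₂_map])
  have hτβ : τ β = β ^ (m - 1) := AdjoinRoot.lift_root _
  have hτF : ∀ c : F, τ (algebraMap F K c) = algebraMap F K (c ^ q) := by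
    intro c
    exact AdjoinRoot.lift_of _
  have hττ : ∀ a, τ (τ a) = a := by
    let ρ : K →ₐ[F] K :=
      { (τ.comp τ) with
        commutes' := by
          intro c
          show τ (τ (algebraMap F K c)) = _
          rw [hτF, hτF, pow_q_pow_q hF] }
    have : ρ = AlgHom.id F K := by
      apply AdjoinRoot.algHom_ext
      show τ (τ β) = β
      rw [hτβ, map_pow, hτβ]
      have h1 : (β ^ (m - 1)) ^ (m - 1) * β ^ (m - 1) = 1 := by
        rw [← pow_succ, Nat.sub_add_cancel hm, ← pow_mul, mul_comm, pow_mul, hβm, one_pow]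
      have h2 : β ^ (m - 1) ≠ 0 := right_ne_zero_of_mul_eq_one hββ
      exact mul_right_cancel₀ h2 (h1.trans hββ.symm)
    intro a
    exact congrArg (fun g : K →ₐ[F] K => g a) this
  obtain ⟨hodd, h⟩ := invol_field hF τ hτF hττ
  rw [finrank_adjoinRoot f hf] at hodd h
  refine ⟨hodd, ?_⟩
  rw [← AdjoinRoot.mk_eq_zero, map_sub, map_pow, AdjoinRoot.mk_X, map_one, sub_eq_zero]
  have := h β
  rw [hτβ] at this
  rw [pow_succ', ← this]
  exact hββ

theorem cT_geom (r : ℕ) (hrF : (r : F) ≠ 0) (B : Matrix (Fin n) (Fin n) F)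
    (hBs : cT hF B * B = 1) (hB : B ^ r = 1) :
    cT hF (∑ i ∈ Finset.range r, B ^ i) = ∑ i ∈ Finset.range r, B ^ i := by
  set T := ∑ i ∈ Finset.range r, B ^ i with hT
  have h1 : T * B = T := by
    have : T * (B - 1) = 0 := by rw [hT, geom_sum_mul, hB, sub_self]
    rw [mul_sub, mul_one, sub_eq_zero] at this
    exact this
  have h2 : B * cT hF B = 1 := mul_eq_one_comm.mp hBs
  have h3 : B * cT hF T = cT hF T := by
    have := congrArg (cT hF) h1
    rw [cT_mul] at this
    calc B * cT hF T = B * (cT hF B * cT hF T) := by rw [this]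
      _ = cT hF T := by rw [← mul_assoc, h2, one_mul]
  have h4 : ∀ i : ℕ, B ^ i * cT hF T = cT hF T := by
    intro i
    induction i with
    | zero => simp
    | succ i ih => rw [pow_succ, mul_assoc, h3, ih]
  have h5 : T * cT hF T = (r : F) • cT hF T := by
    nth_rewrite 1 [hT]
    rw [Finset.sum_mul]
    simp only [h4, Finset.sum_const, Finset.card_range]
    rw [Nat.cast_smul_eq_nsmul]
  have h6 : cT hF (T * cT hF T) = T * cT hF T := by rw [cT_mul, cT_cT]
  have hrq : (r : F) ^ q = r := by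
    have := map_natCast (frobQ hF) r
    rwa [frobQ_apply] at this
  rw [h5, cT_smul, cT_cT, hrq] at h6
  have h7 : (r : F) • (T - cT hF T) = 0 := by rw [smul_sub, h6, sub_self]
  exact (sub_eq_zero.mp ((smul_eq_zero.mp h7).resolve_left hrF)).symm

/-- the standing data for a unitary element of prime order of non-self-dual type -/
theorem u_setup (r : ℕ) [Fact r.Prime] (hrF : (r : F) ≠ 0)
    (B : Matrix (Fin n) (Fin n) F) (hBs : cT hF B * B = 1) (hB : B ^ r = 1) (hB1 : B ≠ 1)
    (htype : ∀ d, Odd d → ¬ r ∣ q ^ d + 1) :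
    ∃ f a b : F[X], Irreducible f ∧ (aeval B f).det = 0 ∧ (cT hF (aeval B f)).det = 0 ∧
      aeval B a * aeval B f + aeval B b * cT hF (aeval B f) = 1 ∧
      (∀ w, aeval B f *ᵥ w = 0 → B *ᵥ w = w → w = 0) ∧
      (∀ w, cT hF (aeval B f) *ᵥ w = 0 → B *ᵥ w = w → w = 0) ∧
      cT hF (aeval B f) = aeval B (dag hF r f) := by
  classical
  have hr : r.Prime := Fact.out
  set T := ∑ i ∈ Finset.range r, B ^ i with hT
  set Φ : F[X] := ∑ i ∈ Finset.range r, (X : F[X]) ^ i with hΦ
  have hΦT : aeval B Φ = T := by rw [hΦ, map_sum]; simp [hT]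
  have hΦ0 : Φ ≠ 0 := by
    intro h
    have := congrArg (eval 1) h
    rw [hΦ, eval_geom_sum] at this
    simp at this
    exact hrF this
  have hT1 : T * (B - 1) = 0 := by rw [hT, geom_sum_mul, hB, sub_self]
  have hdetT : T.det = 0 := by
    by_contra h
    have h1 : IsUnit T := (Matrix.isUnit_iff_isUnit_det _).mpr (isUnit_iff_ne_zero.mpr h)
    exact hB1 (sub_eq_zero.mp (h1.mul_right_eq_zero.mp hT1))
  obtain ⟨f, hf, hfd, hdet⟩ := exists_irr B Φ hΦ0 (by rw [hΦT]; exact hdetT)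
  have hfr : f ∣ X ^ r - 1 := by
    rw [← geom_sum_mul]
    exact hfd.mul_right _
  have hno := not_dvd_X_sub_one r hrF f hf hfd
  have hcop : IsCoprime f (dag hF r f) := by
    rcases coprime_or_u hF r hr.pos f hf hfr with h | ⟨hodd, h⟩
    · exact h
    · exfalso
      apply hno
      have := dvd_gcd_pow f r _ hfr h
      rwa [(Nat.Prime.coprime_iff_not_dvd hr).mpr (htype _ hodd)] at this
  obtain ⟨a, b, hab⟩ := hcop
  have hcT := cT_aeval_eq hF B hBs r hr.pos hB f
  refine ⟨f, a, b, hf, hdet, by rw [det_cT, hdet, zero_pow (by have := two_le_of_card_sq hF; omega)],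
    ?_, ?_, ?_, hcT⟩
  · have h8 := congrArg (aeval B) hab
    rw [map_add, map_mul, map_mul, map_one, ← hcT] at h8
    exact h8
  · intro w hw hBw
    obtain ⟨c, hc'⟩ := hfd
    apply no_fix r hrF B w _ hBw
    rw [← hT, ← hΦT, hc', mul_comm, map_mul, ← mulVec_mulVec, hw, mulVec_zero]
  · intro w hw hBw
    obtain ⟨c, hc'⟩ := hfd
    apply no_fix r hrF B w _ hBw
    have hTP : T = aeval B c * aeval B f := by rw [← hΦT, hc', mul_comm, map_mul]
    have h1 : T = cT hF (aeval B f) * cT hF (aeval B c) := by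
      rw [← cT_mul, ← hTP]
      exact (cT_geom hF r hrF B hBs hB).symm
    have h2 : cT hF (aeval B f) * cT hF (aeval B c) = cT hF (aeval B c) * cT hF (aeval B f) := by
      rw [cT_aeval_eq hF B hBs r hr.pos hB, cT_aeval_eq hF B hBs r hr.pos hB, ← map_mul, ← map_mul,
        mul_comm]
    rw [← hT, h1, h2, ← mulVec_mulVec, hw, mulVec_zero]

end Cfsg.Agent.Lib.Helper42.PGraphU
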