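import Mathlib
import Cfsg.Agent.Lib.Helper42.PGraphU2
import Cfsg.Agent.Lib.Helper42.PGraphL2
import Cfsg.Agent.Lib.Helper42.SpecPSU10

/-!
Prime graph of `PSU_n(q)`: lifting commuting elements.
-/

set_option autoImplicit false
set_option linter.unusedSectionVars false

namespace Cfsg.Agent.Lib.Helper42.PGraphU

open Matrix Polynomial
open Cfsg.Agent.Lib.Helper13 Cfsg.Agent.Lib.Helper5 Cfsg.Agent.Lib.Helper39.SUDeg
open Cfsg.Agent.Lib.Helper42.PGraphL Cfsg.Agent.Lib.Helper42.PGraphS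
open Cfsg.Agent.Lib.Helper42.SpecPSU Cfsg.Agent.Lib.Helper42.SpecPSL

variable {F : Type*} [Field F] [Fintype F] {q : ℕ} (hF : Fintype.card F = q ^ 2) {n : ℕ}

include hF in
theorem exists_comm_scalar_u (x y : Cfsg.SU n F q)
    (h : Commute (QuotientGroup.mk x : Cfsg.PSU n F q) (QuotientGroup.mk y)) :
    ∃ μ : F, y.1.1 * x.1.1 = μ • (x.1.1 * y.1.1) := by
  have h1 : (QuotientGroup.mk (x * y) : Cfsg.PSU n F q) = QuotientGroup.mk (y * x) := h
  rw [QuotientGroup.eq] at h1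
  obtain ⟨μ, hμ⟩ := SU_center_scalar hF _ h1
  refine ⟨μ, ?_⟩
  set z := (x * y)⁻¹ * (y * x) with hz
  have h2 : y * x = (x * y) * z := by rw [hz]; group
  have h3 : (y * x).1.1 = (x * y).1.1 * z.1.1 := by rw [← SU_mul_coe, ← h2]
  rw [SU_mul_coe, SU_mul_coe, hμ] at h3
  rw [h3]
  show _ * algebraMap F (Matrix (Fin n) (Fin n) F) μ = _
  rw [Algebra.smul_def, Algebra.commutes]

include hF in
/-- normalising a unitary matrix whose `r`-th power is a scalar -/
theorem exists_unitary_root (hn : 0 < n) (r : ℕ) (hr : r.Prime) (hrq : ¬ r ∣ Fintype.card F - 1)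
    (Y : Matrix (Fin n) (Fin n) F) (hU : cT hF Y * Y = 1) (β : F)
    (hβ : Y ^ r = Matrix.scalar (Fin n) β) :
    ∃ γ : F, γ ≠ 0 ∧ γ ^ r = β ∧ cT hF (γ⁻¹ • Y) * (γ⁻¹ • Y) = 1 ∧ (γ⁻¹ • Y) ^ r = 1 := by
  classical
  have : Nonempty (Fin n) := ⟨⟨0, hn⟩⟩
  have hUr : cT hF (Y ^ r) * Y ^ r = 1 := by
    have hcomm : Commute (cT hF Y) Y := by
      show _ * _ = _ * _
      rw [hU, mul_eq_one_comm.mp hU]
    rw [cT_pow, ← hcomm.mul_pow, hU, one_pow]
  have hβ1 : β ^ q * β = 1 := by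
    rw [hβ] at hUr
    have h1 : cT hF (algebraMap F (Matrix (Fin n) (Fin n) F) β) * algebraMap F (Matrix (Fin n) (Fin n) F) β = 1 := hUr
    rw [cT_algebraMap, ← map_mul] at h1
    exact algebraMap_matrix_inj _ _ (by rw [h1, map_one])
  have hβ0 : β ≠ 0 := right_ne_zero_of_mul_eq_one hβ1
  obtain ⟨γ, hγ0, hγ⟩ := exists_root r hrq hr β hβ0
  have hγ1 : γ ^ q * γ = 1 := by
    have h1 : (γ ^ q * γ) ^ r = 1 := by
      rw [mul_pow, ← pow_mul, mul_comm q r, pow_mul, hγ, hβ1]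
    have h2 : (γ ^ q * γ) ^ (Fintype.card F - 1) = 1 :=
      FiniteField.pow_card_sub_one_eq_one _ (mul_ne_zero (pow_ne_zero _ hγ0) hγ0)
    have h3 := pow_gcd_eq_one.mpr ⟨h1, h2⟩
    rwa [(Nat.Prime.coprime_iff_not_dvd hr).mpr hrq, pow_one] at h3
  refine ⟨γ, hγ0, hγ, ?_, ?_⟩
  · rw [cT_smul, smul_mul_smul_comm, hU, inv_pow, ← mul_inv, hγ1, inv_one, one_smul]
  · rw [_root_.smul_pow, hβ, inv_pow, hγ]
    show β⁻¹ • algebraMap F (Matrix (Fin n) (Fin n) F) β = 1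
    rw [Algebra.algebraMap_eq_smul_one, smul_smul, inv_mul_cancel₀ hβ0, one_smul]

include hF in
theorem psu_lift (p : ℕ) [Fact p.Prime] [CharP F p]
    (a b : Cfsg.PSU n F q) (ha : orderOf a = p) (r : ℕ) [Fact r.Prime]
    (hb : orderOf b = r) (hab : Commute a b) (hrq : ¬ r ∣ Fintype.card F - 1) :
    ∃ B N : Matrix (Fin n) (Fin n) F, cT hF B * B = 1 ∧ B ^ r = 1 ∧ B ≠ 1 ∧ IsNilpotent N ∧ N ≠ 0 ∧
      Commute B N := by
  classical
  have hp : p.Prime := Fact.out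
  have hr : r.Prime := Fact.out
  obtain ⟨x, rfl⟩ := QuotientGroup.mk_surjective a
  obtain ⟨y, rfl⟩ := QuotientGroup.mk_surjective b
  set X : Matrix (Fin n) (Fin n) F := x.1.1 with hX
  set Y : Matrix (Fin n) (Fin n) F := y.1.1 with hY
  have hn : 0 < n := by
    rcases Nat.eq_zero_or_pos n with rfl | h
    · exfalso
      have : (QuotientGroup.mk x : Cfsg.PSU 0 F q) = 1 := by
        have : x = 1 := SU_ext (Subsingleton.elim _ _)
        rw [this]; rfl
      rw [this, orderOf_one] at ha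
      exact hp.one_lt.ne ha
    · exact h
  obtain ⟨l, hl⟩ := (psu_pow_eq_one_iff hF x p).mp (by rw [← ha, pow_orderOf_eq_one])
  obtain ⟨β, hβ⟩ := (psu_pow_eq_one_iff hF y r).mp (by rw [← hb, pow_orderOf_eq_one])
  have hXs : ∀ c : F, X ≠ Matrix.scalar (Fin n) c := by
    intro c hc
    have : (QuotientGroup.mk x : Cfsg.PSU n F q) ^ 1 = 1 :=
      (psu_pow_eq_one_iff hF x 1).mpr ⟨c, by rw [pow_one]; exact hc⟩
    have h1 := orderOf_dvd_of_pow_eq_one this
    rw [ha] at h1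
    exact hp.one_lt.ne' (Nat.dvd_one.mp h1)
  have hYs : ∀ c : F, Y ≠ Matrix.scalar (Fin n) c := by
    intro c hc
    have : (QuotientGroup.mk y : Cfsg.PSU n F q) ^ 1 = 1 :=
      (psu_pow_eq_one_iff hF y 1).mpr ⟨c, by rw [pow_one]; exact hc⟩
    have h1 := orderOf_dvd_of_pow_eq_one this
    rw [hb] at h1
    exact hr.one_lt.ne' (Nat.dvd_one.mp h1)
  have hl0 : l ≠ 0 := scalar_ne_zero_of_pow hn X x.1.2 p l hl
  obtain ⟨μ, hμ⟩ := exists_comm_scalar_u hF x y hab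
  have hpow : ∀ j : ℕ, Y * X ^ j = μ ^ j • (X ^ j * Y) := by
    intro j
    induction j with
    | zero => simp
    | succ j ih =>
      rw [pow_succ, ← mul_assoc, ih, Matrix.smul_mul, mul_assoc, hμ, Matrix.mul_smul, smul_smul,
        ← mul_assoc, ← pow_succ μ]
  have hμ1 : μ = 1 := by
    have h1 := hpow p
    rw [hl] at h1
    have h2 : Y * Matrix.scalar (Fin n) l = l • Y := by
      show _ * algebraMap F (Matrix (Fin n) (Fin n) F) l = _
      rw [Algebra.smul_def, Algebra.commutes]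
    have h3 : Matrix.scalar (Fin n) l * Y = l • Y := by
      show algebraMap F (Matrix (Fin n) (Fin n) F) l * _ = _
      rw [Algebra.smul_def]
    rw [h2, h3, smul_smul] at h1
    have hY0 : Y ≠ 0 := by
      intro h
      apply hYs 0
      rw [h, map_zero]
    have h4 : (l - μ ^ p * l) • Y = 0 := by rw [sub_smul, ← h1, sub_self]
    have h5 : l - μ ^ p * l = 0 := (smul_eq_zero.mp h4).resolve_right hY0
    have h6 : μ ^ p ^ 1 = 1 := by
      rw [pow_one]
      have : (1 - μ ^ p) * l = 0 := by linear_combination h5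
      have := (mul_eq_zero.mp this).resolve_right hl0
      exact (sub_eq_zero.mp this).symm
    exact eq_one_of_pow_char_pow p μ 1 h6
  rw [hμ1, one_smul] at hμ
  have hcYX : Commute Y X := hμ
  obtain ⟨ν, hν⟩ : ∃ ν : F, ν ^ p = l := by
    have hinj : Function.Injective (frobenius F p) := frobenius_inj F p
    obtain ⟨ν, hν⟩ := (Finite.injective_iff_surjective.mp hinj) l
    exact ⟨ν, hν⟩
  set N := X - Matrix.scalar (Fin n) ν with hN
  have hcs : ∀ (c : F) (Z : Matrix (Fin n) (Fin n) F), Commute Z (Matrix.scalar (Fin n) c) := by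
    intro c Z
    exact (Algebra.commutes c Z).symm
  have hNnil : IsNilpotent N := by
    refine ⟨p, ?_⟩
    have : Nonempty (Fin n) := ⟨⟨0, hn⟩⟩
    rw [hN, sub_pow_char_of_commute p (hcs ν X), hl, ← map_pow, hν, sub_self]
  have hN0 : N ≠ 0 := fun h => hXs ν (sub_eq_zero.mp h)
  obtain ⟨γ, hγ0, hγ, hBU, hBr⟩ := exists_unitary_root hF hn r hr hrq Y (su_cT hF y) β hβ
  refine ⟨γ⁻¹ • Y, N, hBU, hBr, ?_, hNnil, hN0, ?_⟩
  · intro h
    apply hYs γ
    have : Y = γ • (γ⁻¹ • Y) := by rw [smul_smul, mul_inv_cancel₀ hγ0, one_smul]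
    rw [this, h]
    show _ = algebraMap F (Matrix (Fin n) (Fin n) F) γ
    rw [Algebra.algebraMap_eq_smul_one]
  · rw [hN]
    exact (Commute.sub_right hcYX (hcs ν Y)).smul_left _

end Cfsg.Agent.Lib.Helper42.PGraphU
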