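import Mathlib
import Cfsg.Agent.Lib.Helper42.PGraphU3
import Cfsg.Agent.Lib.Helper42.SpecPSU5

/-!
Elements of `PSU_{2m}(q)` whose order is divisible by a primitive prime of "linear type".
-/

set_option autoImplicit false
set_option linter.unusedSectionVars false

namespace Cfsg.Agent.Lib.Helper42.PGraphU

open Matrix Polynomial
open Cfsg.Agent.Lib.Helper13 Cfsg.Agent.Lib.Helper5 Cfsg.Agent.Lib.Helper39.SUDeg
open Cfsg.Agent.Lib.Helper42.PGraphL Cfsg.Agent.Lib.Helper42.PGraphS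
open Cfsg.Agent.Lib.Helper42.SpecPSU Cfsg.Agent.Lib.Helper42.SpecPSL

variable {F : Type*} [Field F] [Fintype F]

theorem ker_le_ker' {ι : Type*} [Fintype ι] [DecidableEq ι] (r : ℕ) [Fact r.Prime]
    (B M P : Matrix ι ι F) (hB : B ^ r = 1) (hBM : Commute B M) (hPB : Commute P B)
    (hfix : ∀ w, P *ᵥ w = 0 → B *ᵥ w = w → w = 0)
    (hdim : Module.finrank F (LinearMap.ker (mulVecLin P)) ≤ orderOf ((Fintype.card F : ℕ) : ZMod r))
    (w : ι → F) (hw0 : w ≠ 0) (hPw : P *ᵥ w = 0) (hMw : M *ᵥ w = 0) :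
    LinearMap.ker (mulVecLin P) ≤ LinearMap.ker (mulVecLin M) := by
  classical
  set k := orderOf ((Fintype.card F : ℕ) : ZMod r) with hk
  set KP := LinearMap.ker (mulVecLin P) with hKP
  set Kn := LinearMap.ker (mulVecLin M) with hKn
  have memK : ∀ w, w ∈ KP ↔ P *ᵥ w = 0 := by
    intro w; rw [hKP, LinearMap.mem_ker, Matrix.mulVecLin_apply]
  have memKn : ∀ w, w ∈ Kn ↔ M *ᵥ w = 0 := by
    intro w; rw [hKn, LinearMap.mem_ker, Matrix.mulVecLin_apply]
  have hKB : ∀ w ∈ KP, B *ᵥ w ∈ KP := by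
    intro w hw
    rw [memK] at hw ⊢
    rw [mulVec_mulVec, hPB.eq, ← mulVec_mulVec, hw, mulVec_zero]
  have hKnB : ∀ w ∈ Kn, B *ᵥ w ∈ Kn := by
    intro w hw
    rw [memKn] at hw ⊢
    rw [Matrix.mulVec_mulVec, ← hBM.eq, ← Matrix.mulVec_mulVec, hw, Matrix.mulVec_zero]
  have hd2 : k ∣ Module.finrank F (KP ⊓ Kn : Submodule F (ι → F)) :=
    orderOf_dvd_finrank r B hB (KP ⊓ Kn) (fun w hw => ⟨hKB w hw.1, hKnB w hw.2⟩)
      (fun w hw => hfix w ((memK w).mp hw.1))
  have hpos2 : 0 < Module.finrank F (KP ⊓ Kn : Submodule F (ι → F)) := by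
    rw [Module.finrank_pos_iff_exists_ne_zero]
    exact ⟨⟨w, ⟨(memK w).mpr hPw, (memKn w).mpr hMw⟩⟩, fun h => hw0 (congrArg Subtype.val h)⟩
  have hk2 := Nat.le_of_dvd hpos2 hd2
  have heq : KP ⊓ Kn = KP := Submodule.eq_of_le_of_finrank_le inf_le_left (by omega)
  rw [← heq]
  exact inf_le_right

variable {q : ℕ} (hF : Fintype.card F = q ^ 2)

include hF in
theorem order_dvd_NU (n m : ℕ) (hnm : n = 2 * m) (hm : 0 < m) (r : ℕ) [Fact r.Prime] (hrF : (r : F) ≠ 0)
    (hrq : ¬ r ∣ Fintype.card F - 1) (hk : orderOf ((Fintype.card F : ℕ) : ZMod r) = m)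
    (htype : ∀ d, Odd d → ¬ r ∣ q ^ d + 1) (x : Cfsg.SU n F q)
    (hrx : r ∣ orderOf (QuotientGroup.mk x : Cfsg.PSU n F q))
    (hpos : 0 < orderOf (QuotientGroup.mk x : Cfsg.PSU n F q)) :
    orderOf (QuotientGroup.mk x : Cfsg.PSU n F q) ∣ NU q n := by
  classical
  have hr : r.Prime := Fact.out
  have hq2 := two_le_of_card_sq hF
  have hn : 0 < n := by omega
  set o := orderOf (QuotientGroup.mk x : Cfsg.PSU n F q) with ho
  set X := x.1.1 with hX
  have hXU : cT hF X * X = 1 := su_cT hF x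
  obtain ⟨j0, hj0⟩ := hrx
  have hj0pos : 0 < j0 := by
    rcases Nat.eq_zero_or_pos j0 with h | h
    · rw [h, mul_zero] at hj0; omega
    · exact h
  obtain ⟨lam, hlam⟩ := (psu_pow_eq_one_iff hF x o).mp (by rw [ho, pow_orderOf_eq_one])
  have hYU : cT hF (X ^ j0) * X ^ j0 = 1 := by
    have hcomm : Commute (cT hF X) X := by
      show _ * _ = _ * _
      rw [hXU, mul_eq_one_comm.mp hXU]
    rw [cT_pow, ← hcomm.mul_pow, hXU, one_pow]
  obtain ⟨γ, hγ0, hγ, hBU, hBr⟩ := exists_unitary_root hF hn r hr hrq (X ^ j0) hYU lam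
    (by rw [← pow_mul, mul_comm, ← hj0]; exact hlam)
  set B := γ⁻¹ • X ^ j0 with hB
  have hB1 : B ≠ 1 := by
    intro h
    have h1 : X ^ j0 = Matrix.scalar (Fin n) γ := by
      have : X ^ j0 = γ • B := by rw [hB, smul_smul, mul_inv_cancel₀ hγ0, one_smul]
      rw [this, h]
      show _ = algebraMap F (Matrix (Fin n) (Fin n) F) γ
      rw [Algebra.algebraMap_eq_smul_one]
    have h2 := (psu_pow_eq_one_iff hF x j0).mpr ⟨γ, h1⟩
    have h3 := orderOf_dvd_of_pow_eq_one h2
    rw [← ho, hj0] at h3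
    have h4 := Nat.le_of_dvd hj0pos h3
    have := hr.two_le
    nlinarith
  have hBX : Commute B X := by
    rw [hB]
    exact ((Commute.refl X).pow_left j0).smul_left _
  obtain ⟨f, a, b, hf, hdet, hdet', hab, hfix, hfix', hcT⟩ := u_setup hF r hrF B hBU hBr hB1 htype
  set P := aeval B f with hP
  set P' := cT hF P with hP'
  have hPB : Commute P B := commute_aeval B B (Commute.refl B) f
  have hPB' : Commute P' B := by rw [hcT]; exact commute_aeval B B (Commute.refl B) _
  have hPX : Commute P X := commute_aeval B X hBX f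
  have hPX' : Commute P' X := by rw [hcT]; exact commute_aeval B X hBX _
  have hPP : Commute P P' := by
    rw [hcT, hP]
    show _ * _ = _ * _
    rw [← map_mul, ← map_mul, mul_comm]
  set KP := LinearMap.ker (mulVecLin P) with hKP
  set KP' := LinearMap.ker (mulVecLin P') with hKP'
  have memK : ∀ w, w ∈ KP ↔ P *ᵥ w = 0 := by
    intro w; rw [hKP, LinearMap.mem_ker, Matrix.mulVecLin_apply]
  have memK' : ∀ w, w ∈ KP' ↔ P' *ᵥ w = 0 := by
    intro w; rw [hKP', LinearMap.mem_ker, Matrix.mulVecLin_apply]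
  obtain ⟨hp1, hd1⟩ : 0 < Module.finrank F KP ∧ _ ∣ Module.finrank F KP :=
    finrank_ker_ge r B P hBr hPB hdet hfix
  obtain ⟨hp2, hd2⟩ : 0 < Module.finrank F KP' ∧ _ ∣ Module.finrank F KP' :=
    finrank_ker_ge r B P' hBr hPB' hdet' hfix'
  rw [hk] at hd1 hd2
  have hbot : KP ⊓ KP' = ⊥ := by
    rw [eq_bot_iff]
    rintro w ⟨h1, h2⟩
    rw [Submodule.mem_bot]
    have h3 := congrArg (fun M => Matrix.mulVec M w) hab
    simp only [Matrix.add_mulVec, Matrix.one_mulVec, ← Matrix.mulVec_mulVec, (memK w).mp h1,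
      (memK' w).mp h2, Matrix.mulVec_zero, add_zero] at h3
    exact h3.symm
  have hsum := Submodule.finrank_sup_add_finrank_inf_eq KP KP'
  rw [hbot, finrank_bot, add_zero] at hsum
  have hle := Submodule.finrank_le (KP ⊔ KP')
  rw [Module.finrank_fintype_fun_eq_card, Fintype.card_fin] at hle
  have hg1 := Nat.le_of_dvd hp1 hd1
  have hg2 := Nat.le_of_dvd hp2 hd2
  have hdimK : Module.finrank F KP = m := by omega
  have htop : KP ⊔ KP' = ⊤ := by
    apply Submodule.eq_top_of_finrank_eq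
    rw [Module.finrank_fintype_fun_eq_card, Fintype.card_fin]
    omega
  have hPP0 : P * P' = 0 := by
    apply Matrix.toLin'.injective
    apply LinearMap.ext
    intro v
    rw [Matrix.toLin'_apply, map_zero, LinearMap.zero_apply]
    have hv : v ∈ KP ⊔ KP' := by rw [htop]; trivial
    obtain ⟨u, hu, u', hu', rfl⟩ := Submodule.mem_sup.mp hv
    rw [mulVec_add]
    nth_rewrite 1 [hPP.eq]
    rw [← mulVec_mulVec, ← mulVec_mulVec, (memK u).mp hu, (memK' u').mp hu', mulVec_zero, mulVec_zero,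
      add_zero]
  -- the idempotents
  set E := aeval B b * P' with hE
  set E' := aeval B a * P with hE'
  have hsumE : E' + E = 1 := hab
  have hcb : Commute (aeval B b) P := by
    show _ * _ = _ * _
    rw [hP, ← map_mul, ← map_mul, mul_comm]
  have hca' : Commute (aeval B a) P' := by
    show _ * _ = _ * _
    rw [hcT, ← map_mul, ← map_mul, mul_comm]
  have hEE' : E * E' = 0 := by
    rw [hE, hE', mul_assoc, ← mul_assoc P', ← hca'.eq, mul_assoc, ← hPP.eq, hPP0, mul_zero, mul_zero]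
  have hEid : E * E = E := by
    have : E = E * (E' + E) := by rw [hsumE, mul_one]
    rw [mul_add, hEE', zero_add] at this
    exact this.symm
  have hPE : P * E = 0 := by
    rw [hE, ← mul_assoc, ← hcb.eq, mul_assoc, hPP0, mul_zero]
  have hcTE : cT hF E = 1 - E := by
    have h1 : cT hF E = P * cT hF (aeval B b) := by rw [hE, cT_mul, hP', cT_cT]
    have h2 : cT hF E' = P' * cT hF (aeval B a) := by rw [hE', cT_mul]
    have hx1 : Commute (cT hF (aeval B b)) E := by
      rw [hE, hcT, cT_aeval_eq hF B hBU r hr.pos hBr]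
      show _ * _ = _ * _
      rw [← map_mul, ← map_mul, ← map_mul, mul_comm]
    have hx2 : Commute (cT hF (aeval B a)) E' := by
      rw [hE', hP, cT_aeval_eq hF B hBU r hr.pos hBr]
      show _ * _ = _ * _
      rw [← map_mul, ← map_mul, ← map_mul, mul_comm]
    have h3 : cT hF E * E = 0 := by
      rw [h1, mul_assoc, hx1.eq, ← mul_assoc, hPE, zero_mul]
    have hPE' : P' * E' = 0 := by
      rw [hE', ← mul_assoc, ← hca'.eq, mul_assoc, ← hPP.eq, hPP0, mul_zero]
    have h4 : cT hF E' * E' = 0 := by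
      rw [h2, mul_assoc, hx2.eq, ← mul_assoc, hPE', zero_mul]
    have h5 : cT hF E' + cT hF E = 1 := by rw [← cT_add, hsumE, cT_one]
    have h6 : cT hF E = cT hF E * E' := by
      have : cT hF E = cT hF E * (E' + E) := by rw [hsumE, mul_one]
      rw [mul_add, h3, add_zero] at this
      exact this
    have h7 : E' = cT hF E * E' := by
      have : E' = (cT hF E' + cT hF E) * E' := by rw [h5, one_mul]
      rw [add_mul, h4, zero_add] at this
      exact this
    rw [h6, ← h7, ← hsumE, add_sub_cancel_right]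
  have hEX : Commute E X := by
    rw [hE]
    exact (commute_aeval B X hBX b).mul_left hPX'
  -- an irreducible polynomial for `X` on the block
  obtain ⟨v, hv0, hv⟩ := Matrix.exists_mulVec_eq_zero_iff.mpr hdet
  obtain ⟨g0, h0, hg0, -, hw0, hgw⟩ := exists_irr_vec X X.charpoly (Matrix.charpoly_monic X).ne_zero v hv0
    (by rw [Matrix.aeval_self_charpoly, zero_mulVec])
  have hPw : P *ᵥ (aeval X h0 *ᵥ v) = 0 := by
    rw [mulVec_mulVec, ((commute_aeval X P hPX.symm h0).symm).eq, ← mulVec_mulVec, hv, mulVec_zero]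
  have hker := ker_le_ker' r B (aeval X g0) P hBr ((commute_aeval X B hBX.symm g0).symm) hPB hfix
    (by rw [hk]; exact hdimK.le) _ hw0 hPw hgw
  have hgE : aeval X g0 * E = 0 := by
    apply Matrix.toLin'.injective
    apply LinearMap.ext
    intro u
    rw [Matrix.toLin'_apply, map_zero, LinearMap.zero_apply, ← mulVec_mulVec]
    have h1 : E *ᵥ u ∈ LinearMap.ker (mulVecLin P) := by
      rw [LinearMap.mem_ker, mulVecLin_apply, mulVec_mulVec, hPE, zero_mulVec]
    have h2 := hker h1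
    rwa [LinearMap.mem_ker, mulVecLin_apply] at h2
  obtain ⟨h1, h2⟩ := bad2 hF hn X g0 hg0 E hEid hEX hcTE hgE x.1.2 hXU
  obtain ⟨t, ht⟩ := (NU_dvd_iff q n (NU q n) (MU_pos q n hq2 hn)).mp dvd_rfl
  obtain ⟨c, hc⟩ := h2 (NU q n) (by rw [ht, pow_mul, h1, one_pow])
  rw [ho, orderOf_dvd_iff_pow_eq_one, psu_pow_eq_one_iff hF]
  exact ⟨c, hc⟩

end Cfsg.Agent.Lib.Helper42.PGraphU
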