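import Mathlib
import Cfsg.Agent.Lib.Helper42.PGraphS4
import Cfsg.Agent.Lib.Helper42.PGraphU1

/-!
Orthogonal groups in odd characteristic: the adjoint with respect to a symmetric Gram matrix,
and the dimension of the commutator space of an isometry of odd prime order.
-/

set_option autoImplicit false
set_option linter.unusedSectionVars false

namespace Cfsg.Agent.Lib.Helper42.SpecO

open Matrix Polynomial
open Cfsg.Agent.Lib.Helper42.PGraphL Cfsg.Agent.Lib.Helper42.PGraphS Cfsg.Agent.Lib.Helper42.PGraphU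

variable {F : Type*} [Field F] {ι : Type*} [Fintype ι] [DecidableEq ι]

/-- the adjoint with respect to the Gram matrix `G` -/
noncomputable def adjG (G M : Matrix ι ι F) : Matrix ι ι F := G⁻¹ * Mᵀ * G

variable (G : Matrix ι ι F) [hG : Fact (IsUnit G.det)] [hGs : Fact (Gᵀ = G)]

theorem GiG : G⁻¹ * G = 1 := Matrix.nonsing_inv_mul G hG.out

theorem GGi : G * G⁻¹ = 1 := Matrix.mul_nonsing_inv G hG.out

variable {G}

theorem adjG_add (A B : Matrix ι ι F) : adjG G (A + B) = adjG G A + adjG G B := by
  simp only [adjG, transpose_add, mul_add, add_mul]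

theorem adjG_sub (A B : Matrix ι ι F) : adjG G (A - B) = adjG G A - adjG G B := by
  simp only [adjG, transpose_sub, mul_sub, sub_mul]

theorem adjG_smul (c : F) (A : Matrix ι ι F) : adjG G (c • A) = c • adjG G A := by
  simp only [adjG, transpose_smul, mul_smul_comm, smul_mul_assoc]

theorem adjG_zero : adjG G (0 : Matrix ι ι F) = 0 := by
  simp [adjG]

theorem adjG_neg (A : Matrix ι ι F) : adjG G (-A) = -adjG G A := by
  simp only [adjG, transpose_neg, mul_neg, neg_mul]

theorem adjG_one : adjG G (1 : Matrix ι ι F) = 1 := by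
  simp [adjG, GiG G]

theorem adjG_mul (A B : Matrix ι ι F) : adjG G (A * B) = adjG G B * adjG G A := by
  simp only [adjG, transpose_mul]
  have : G⁻¹ * Bᵀ * G * (G⁻¹ * Aᵀ * G) = G⁻¹ * Bᵀ * (G * G⁻¹) * Aᵀ * G := by
    simp only [mul_assoc]
  rw [this, GGi G, mul_one]
  simp only [mul_assoc]

theorem adjG_adjG (A : Matrix ι ι F) : adjG G (adjG G A) = A := by
  simp only [adjG, transpose_mul, transpose_transpose, transpose_nonsing_inv, hGs.out]
  have : G⁻¹ * (G * (A * G⁻¹)) * G = (G⁻¹ * G) * A * (G⁻¹ * G) := by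
    simp only [mul_assoc]
  rw [this, GiG G]
  simp

theorem adjG_pow (M : Matrix ι ι F) (k : ℕ) : adjG G (M ^ k) = (adjG G M) ^ k := by
  induction k with
  | zero => simp [adjG_one]
  | succ k ih => rw [pow_succ, adjG_mul, ih, pow_succ']

theorem adjG_aeval (X : Matrix ι ι F) (P : F[X]) :
    adjG G (aeval X P) = aeval (adjG G X) P := by
  induction P using Polynomial.induction_on' with
  | add p r hp hr => rw [map_add, adjG_add, hp, hr, map_add]
  | monomial k a =>
    rw [Polynomial.aeval_monomial, Polynomial.aeval_monomial,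
      ← Algebra.smul_def, ← Algebra.smul_def, adjG_smul, adjG_pow]

theorem det_adjG (M : Matrix ι ι F) : (adjG G M).det = M.det := by
  rw [adjG, det_mul, det_mul, det_transpose, mul_right_comm, ← det_mul, GiG G, det_one, one_mul]

theorem adjG_eq_pow (B : Matrix ι ι F) (hBs : adjG G B * B = 1) (m : ℕ)
    (hm : 0 < m) (hB : B ^ m = 1) : adjG G B = B ^ (m - 1) := by
  have h1 : B * B ^ (m - 1) = 1 := by rw [← pow_succ', Nat.sub_add_cancel hm, hB]
  calc adjG G B = adjG G B * (B * B ^ (m - 1)) := by rw [h1, mul_one]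
    _ = B ^ (m - 1) := by rw [← mul_assoc, hBs, one_mul]

theorem adjG_aeval_eq (B : Matrix ι ι F) (hBs : adjG G B * B = 1) (m : ℕ)
    (hm : 0 < m) (hB : B ^ m = 1) (f : F[X]) :
    adjG G (aeval B f) = aeval B (f.comp (X ^ (m - 1))) := by
  rw [adjG_aeval, adjG_eq_pow B hBs m hm hB, aeval_comp]; simp

theorem rank_adjG (P : Matrix ι ι F) : (adjG G P).rank = P.rank := by
  unfold adjG
  have h1 : IsUnit G.det := hG.out
  have h2 : IsUnit (G⁻¹).det := by
    rw [← Matrix.isUnit_iff_isUnit_det]
    exact (Matrix.isUnit_nonsing_inv_iff).mpr ((Matrix.isUnit_iff_isUnit_det _).mpr h1)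
  rw [rank_mul_eq_left_of_isUnit_det _ _ h1, rank_mul_eq_right_of_isUnit_det _ _ h2, rank_transpose]

theorem finrank_range_adjG (P : Matrix ι ι F) :
    Module.finrank F (LinearMap.range (mulVecLin (adjG G P))) +
      Module.finrank F (LinearMap.ker (mulVecLin P)) = Fintype.card ι := by
  have h1 := LinearMap.finrank_range_add_finrank_ker (mulVecLin P)
  rw [Module.finrank_fintype_fun_eq_card] at h1
  have h2 : Module.finrank F (LinearMap.range (mulVecLin (adjG G P))) = (adjG G P).rank := rfl
  have h3 : Module.finrank F (LinearMap.range (mulVecLin P)) = P.rank := rfl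
  rw [h2, rank_adjG, ← h3]
  omega

theorem adjG_geom (r : ℕ) (hrF : (r : F) ≠ 0) (B : Matrix ι ι F)
    (hBs : adjG G B * B = 1) (hB : B ^ r = 1) :
    adjG G (∑ i ∈ Finset.range r, B ^ i) = ∑ i ∈ Finset.range r, B ^ i := by
  set T := ∑ i ∈ Finset.range r, B ^ i with hT
  have h1 : T * B = T := by
    have : T * (B - 1) = 0 := by rw [hT, geom_sum_mul, hB, sub_self]
    rw [mul_sub, mul_one, sub_eq_zero] at this
    exact this
  have h2 : B * adjG G B = 1 := mul_eq_one_comm.mp hBs
  have h3 : B * adjG G T = adjG G T := by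
    have := congrArg (adjG G) h1
    rw [adjG_mul] at this
    calc B * adjG G T = B * (adjG G B * adjG G T) := by rw [this]
      _ = adjG G T := by rw [← mul_assoc, h2, one_mul]
  have h4 : ∀ i : ℕ, B ^ i * adjG G T = adjG G T := by
    intro i
    induction i with
    | zero => simp
    | succ i ih => rw [pow_succ, mul_assoc, h3, ih]
  have h5 : T * adjG G T = (r : F) • adjG G T := by
    nth_rewrite 1 [hT]
    rw [Finset.sum_mul]
    simp only [h4, Finset.sum_const, Finset.card_range]
    rw [Nat.cast_smul_eq_nsmul]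
  have h6 : adjG G (T * adjG G T) = T * adjG G T := by rw [adjG_mul, adjG_adjG]
  rw [h5, adjG_smul, adjG_adjG] at h6
  have h7 : (r : F) • (T - adjG G T) = 0 := by rw [smul_sub, h6, sub_self]
  exact (sub_eq_zero.mp ((smul_eq_zero.mp h7).resolve_left hrF)).symm

theorem W_struct [Fintype F] (r : ℕ) [Fact r.Prime] (hr2 : r ≠ 2) (hrF : (r : F) ≠ 0)
    (B : Matrix ι ι F) (hBs : adjG G B * B = 1)
    (hB : B ^ r = 1) (hB1 : B ≠ 1) (η : ℕ)
    (hη : (Odd (orderOf ((Fintype.card F : ℕ) : ZMod r)) ∧ η = orderOf ((Fintype.card F : ℕ) : ZMod r)) ∨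
      (Even (orderOf ((Fintype.card F : ℕ) : ZMod r)) ∧ 2 * η = orderOf ((Fintype.card F : ℕ) : ZMod r))) :
    2 * η ≤ Module.finrank F (LinearMap.ker (mulVecLin (∑ i ∈ Finset.range r, B ^ i))) ∧
    orderOf ((Fintype.card F : ℕ) : ZMod r) ∣
      Module.finrank F (LinearMap.ker (mulVecLin (∑ i ∈ Finset.range r, B ^ i))) ∧
    (Module.finrank F (LinearMap.ker (mulVecLin (∑ i ∈ Finset.range r, B ^ i))) = 2 * η →
      ∀ N : Matrix ι ι F, IsNilpotent N → Commute B N →
        LinearMap.ker (mulVecLin (∑ i ∈ Finset.range r, B ^ i)) ≤ LinearMap.ker (mulVecLin N)) := by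
  classical
  have hr : r.Prime := Fact.out
  set k := orderOf ((Fintype.card F : ℕ) : ZMod r) with hk
  set T := ∑ i ∈ Finset.range r, B ^ i with hT
  set W := LinearMap.ker (mulVecLin T) with hW
  have memW : ∀ w, w ∈ W ↔ T *ᵥ w = 0 := by
    intro w; rw [hW, LinearMap.mem_ker, Matrix.mulVecLin_apply]
  set Φ : F[X] := ∑ i ∈ Finset.range r, (X : F[X]) ^ i with hΦ
  have hΦT : aeval B Φ = T := by rw [hΦ, map_sum]; simp [hT]
  have hΦ0 : Φ ≠ 0 := by
    intro h
    have := congrArg (eval 1) h
    rw [hΦ, eval_geom_sum] at this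
    simp at this
    exact hrF this
  have hT1 : T * (B - 1) = 0 := by rw [hT, geom_sum_mul, hB, sub_self]
  have hdetT : T.det = 0 := by
    by_contra h
    have h1 : IsUnit T := (Matrix.isUnit_iff_isUnit_det _).mpr (isUnit_iff_ne_zero.mpr h)
    exact hB1 (sub_eq_zero.mp (h1.mul_right_eq_zero.mp hT1))
  have hTB : Commute T B := by
    rw [← hΦT]; exact commute_aeval B B (Commute.refl B) Φ
  have hWB : ∀ w ∈ W, B *ᵥ w ∈ W := by
    intro w hw
    rw [memW] at hw ⊢
    rw [mulVec_mulVec, hTB.eq, ← mulVec_mulVec, hw, mulVec_zero]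
  have hdW : k ∣ Module.finrank F W := orderOf_dvd_finrank r B hB W hWB
    (fun w hw => no_fix r hrF B w ((memW w).mp hw))
  rcases hη with ⟨hodd, he⟩ | ⟨-, he⟩
  · obtain ⟨f, hf, hfd, hdet⟩ := exists_irr B Φ hΦ0 (by rw [hΦT]; exact hdetT)
    have hcop := coprime_of_odd r hr2 hrF f hf hfd hodd
    set P := aeval B f with hP
    set KP := LinearMap.ker (mulVecLin P) with hKP
    set KP' := LinearMap.ker (mulVecLin (adjG G P)) with hKP'
    have memK : ∀ w, w ∈ KP ↔ P *ᵥ w = 0 := by
      intro w; rw [hKP, LinearMap.mem_ker, Matrix.mulVecLin_apply]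
    have memK' : ∀ w, w ∈ KP' ↔ adjG G P *ᵥ w = 0 := by
      intro w; rw [hKP', LinearMap.mem_ker, Matrix.mulVecLin_apply]
    have hPB : Commute P B := commute_aeval B B (Commute.refl B) f
    obtain ⟨c, hc'⟩ := hfd
    have hTP : T = aeval B c * P := by rw [← hΦT, hc', mul_comm, map_mul]
    have hKW : KP ≤ W := by
      intro w hw
      rw [memK] at hw
      rw [memW, hTP, ← mulVec_mulVec, hw, mulVec_zero]
    have hKW' : KP' ≤ W := by
      intro w hw
      rw [memK'] at hw
      have h1 : T = adjG G P * adjG G (aeval B c) := by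
        rw [← adjG_mul, ← hTP]
        exact (adjG_geom r hrF B hBs hB).symm
      have h2 : adjG G P * adjG G (aeval B c) = adjG G (aeval B c) * adjG G P := by
        rw [hP, adjG_aeval_eq B hBs r hr.pos hB, adjG_aeval_eq B hBs r hr.pos hB, ← map_mul, ← map_mul,
          mul_comm]
      rw [memW, h1, h2, ← mulVec_mulVec, hw, mulVec_zero]
    have hdisj : KP ⊓ KP' = ⊥ := by
      rw [eq_bot_iff]
      rintro w ⟨h1, h2⟩
      rw [SetLike.mem_coe, memK] at h1
      rw [SetLike.mem_coe, memK'] at h2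
      obtain ⟨a, b, hab⟩ := hcop
      have h8 := congrArg (aeval B) hab
      rw [map_add, map_mul, map_mul, map_one, ← adjG_aeval_eq (G := G) B hBs r hr.pos hB] at h8
      have h3 := congrArg (· *ᵥ w) h8
      simp only [add_mulVec, one_mulVec, ← mulVec_mulVec] at h3
      rw [← hP, h1, h2, mulVec_zero, mulVec_zero, add_zero] at h3
      rw [Submodule.mem_bot]
      exact h3.symm
    have hdim : Module.finrank F KP' = Module.finrank F KP := by
      have h1 : Module.finrank F (LinearMap.range (mulVecLin (adjG G P))) + Module.finrank F KP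
          = Fintype.card ι := finrank_range_adjG P
      have h2 : Module.finrank F (LinearMap.range (mulVecLin (adjG G P))) + Module.finrank F KP'
          = Module.finrank F (ι → F) :=
        LinearMap.finrank_range_add_finrank_ker (mulVecLin (adjG G P))
      rw [Module.finrank_fintype_fun_eq_card] at h2
      omega
    obtain ⟨v, hv0, hv⟩ := Matrix.exists_mulVec_eq_zero_iff.mpr hdet
    have hKB : ∀ w ∈ KP, B *ᵥ w ∈ KP := by
      intro w hw
      rw [memK] at hw ⊢
      rw [mulVec_mulVec, hPB.eq, ← mulVec_mulVec, hw, mulVec_zero]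
    have hd1 : k ∣ Module.finrank F KP := orderOf_dvd_finrank r B hB KP hKB
      (fun w hw => no_fix r hrF B w ((memW w).mp (hKW hw)))
    have hpos1 : 0 < Module.finrank F KP := by
      rw [Module.finrank_pos_iff_exists_ne_zero]
      exact ⟨⟨v, (memK v).mpr hv⟩, fun h => hv0 (congrArg Subtype.val h)⟩
    have hk1 := Nat.le_of_dvd hpos1 hd1
    have h9 := Submodule.finrank_sup_add_finrank_inf_eq KP KP'
    rw [hdisj, finrank_bot, add_zero] at h9
    have h10 : Module.finrank F (KP ⊔ KP' : Submodule F (ι → F)) ≤ Module.finrank F W :=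
      Submodule.finrank_mono (sup_le hKW hKW')
    refine ⟨by omega, hdW, ?_⟩
    intro hfin N hN hBN
    have hsup : KP ⊔ KP' = W := Submodule.eq_of_le_of_finrank_le (sup_le hKW hKW') (by omega)
    rw [← hsup]
    apply sup_le
    · exact ker_le_ker r B N P hB hN hBN hPB (commute_aeval B N hBN f)
        (fun w hw => no_fix r hrF B w ((memW w).mp (hKW ((memK w).mpr hw))))
        (by show Module.finrank F KP ≤ k; omega)
    · have hP' : adjG G P = aeval B (f.comp (X ^ (r - 1))) := adjG_aeval_eq B hBs r hr.pos hB f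
      exact ker_le_ker r B N (adjG G P) hB hN hBN
        (by rw [hP']; exact commute_aeval B B (Commute.refl B) _)
        (by rw [hP']; exact commute_aeval B N hBN _)
        (fun w hw => no_fix r hrF B w ((memW w).mp (hKW' ((memK' w).mpr hw))))
        (by show Module.finrank F KP' ≤ k; omega)
  · obtain ⟨v, hv0, hv⟩ := Matrix.exists_mulVec_eq_zero_iff.mpr hdetT
    have hpos1 : 0 < Module.finrank F W := by
      rw [Module.finrank_pos_iff_exists_ne_zero]
      exact ⟨⟨v, (memW v).mpr hv⟩, fun h => hv0 (congrArg Subtype.val h)⟩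
    have hk1 := Nat.le_of_dvd hpos1 hdW
    refine ⟨by omega, hdW, ?_⟩
    intro hfin N hN hBN
    exact ker_le_ker r B N T hB hN hBN hTB (by rw [← hΦT]; exact commute_aeval B N hBN Φ)
      (fun w hw => no_fix r hrF B w hw) (by show Module.finrank F W ≤ k; omega)

end Cfsg.Agent.Lib.Helper42.SpecO
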