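import Mathlib
import Cfsg.Agent.Lib.Helper42.SpecO1

/-!
Orthogonal groups in odd characteristic: small linear algebra lemmas (rank drop for nilpotents,
skew matrices of rank one, determinants of involutions, fixed vectors in odd dimension).
-/

set_option autoImplicit false
set_option linter.unusedSectionVars false

namespace Cfsg.Agent.Lib.Helper42.SpecO

open Matrix Polynomial

variable {F : Type*} [Field F] {ι : Type*} [Fintype ι] [DecidableEq ι]

theorem eq_zero_of_mulVec (A : Matrix ι ι F) (h : ∀ v, A *ᵥ v = 0) : A = 0 := by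
  apply Matrix.toLin'.injective
  apply LinearMap.ext
  intro v
  rw [Matrix.toLin'_apply, h v]; simp

theorem eq_zero_of_rank (A : Matrix ι ι F) (h : A.rank = 0) : A = 0 := by
  have h1 : Module.finrank F (LinearMap.range (mulVecLin A)) = 0 := h
  rw [Submodule.finrank_eq_zero] at h1
  apply eq_zero_of_mulVec
  intro v
  have : A *ᵥ v ∈ LinearMap.range (mulVecLin A) := ⟨v, rfl⟩
  rw [h1] at this
  exact (Submodule.mem_bot F).mp this

theorem rank_drop (N A : Matrix ι ι F) (hN : IsNilpotent N) (hc : Commute N A) (hA : A ≠ 0) :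
    (N * A).rank < A.rank := by
  by_contra hlt
  rw [not_lt] at hlt
  have hle : LinearMap.range (mulVecLin (N * A)) ≤ LinearMap.range (mulVecLin A) := by
    rintro _ ⟨v, rfl⟩
    exact ⟨N *ᵥ v, by simp only [mulVecLin_apply, mulVec_mulVec, hc.eq]⟩
  have heq : LinearMap.range (mulVecLin (N * A)) = LinearMap.range (mulVecLin A) :=
    Submodule.eq_of_le_of_finrank_le hle hlt
  have key : ∀ j : ℕ, ∀ v, ∃ v', A *ᵥ v = (N ^ j * A) *ᵥ v' := by
    intro j
    induction j with
    | zero => intro v; exact ⟨v, by simp⟩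
    | succ j ih =>
      intro v
      obtain ⟨v', hv'⟩ := ih v
      have h1 : A *ᵥ v' ∈ LinearMap.range (mulVecLin (N * A)) := by
        rw [heq]; exact ⟨v', rfl⟩
      obtain ⟨v'', hv''⟩ := h1
      rw [mulVecLin_apply] at hv''
      refine ⟨v'', ?_⟩
      rw [hv', ← mulVec_mulVec, ← hv'', mulVec_mulVec, pow_succ, mul_assoc]
  obtain ⟨m, hm⟩ := hN
  apply hA
  apply eq_zero_of_mulVec
  intro v
  obtain ⟨v', hv'⟩ := key m v
  rw [hv', hm, zero_mul, zero_mulVec]

theorem skew_rank (h2 : (2 : F) ≠ 0) (A : Matrix ι ι F) (hA : Aᵀ = -A) (hr : A.rank ≤ 1) : A = 0 := by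
  have hsk : ∀ x y : ι → F, x ⬝ᵥ A *ᵥ y = -(y ⬝ᵥ A *ᵥ x) := by
    intro x y
    rw [Matrix.dotProduct_mulVec, ← Matrix.mulVec_transpose, hA, neg_mulVec, neg_dotProduct,
      dotProduct_comm]
  have h0 : ∀ x : ι → F, x ⬝ᵥ A *ᵥ x = 0 := by
    intro x
    have := hsk x x
    have h3 : (2 : F) * (x ⬝ᵥ A *ᵥ x) = 0 := by linear_combination this
    exact (mul_eq_zero.mp h3).resolve_left h2
  have hr' : Module.finrank F (LinearMap.range (mulVecLin A)) ≤ 1 := hr
  obtain ⟨⟨y₀, x₀, hx₀⟩, hy₀⟩ := finrank_le_one_iff.mp hr'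
  rw [mulVecLin_apply] at hx₀
  have hy0 : y₀ = 0 := by
    apply dotProduct_eq_zero
    intro v
    obtain ⟨c, hc⟩ := hy₀ ⟨A *ᵥ v, v, rfl⟩
    have hc' : c • y₀ = A *ᵥ v := congrArg Subtype.val hc
    rw [dotProduct_comm, ← hx₀, hsk, ← hc', dotProduct_smul, ← hx₀, h0]
    simp
  apply eq_zero_of_mulVec
  intro v
  obtain ⟨c, hc⟩ := hy₀ ⟨A *ᵥ v, v, rfl⟩
  have hc' : c • y₀ = A *ᵥ v := congrArg Subtype.val hc
  rw [← hc', hy0, smul_zero]

theorem det_invol (z : Matrix ι ι F) (hz : z * z = 1) :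
    z.det = (-1) ^ Module.finrank F (LinearMap.ker (mulVecLin (z + 1))) := by
  set W := LinearMap.ker (mulVecLin (z + 1)) with hW
  have memW : ∀ w, w ∈ W ↔ z *ᵥ w = -w := by
    intro w
    rw [hW, LinearMap.mem_ker, mulVecLin_apply, add_mulVec, one_mulVec, add_eq_zero_iff_eq_neg]
  have he : W ≤ W.comap (mulVecLin z) := by
    intro w hw
    rw [Submodule.mem_comap, mulVecLin_apply, (memW w).mp hw]
    exact W.neg_mem hw
  have h1 := LinearMap.det_eq_det_mul_det W (mulVecLin z) he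
  have h2 : LinearMap.restrict (mulVecLin z) (p := W) (q := W) he = (-1 : F) • LinearMap.id := by
    apply LinearMap.ext
    intro w
    apply Subtype.ext
    simp only [LinearMap.coe_restrict_apply, mulVecLin_apply, LinearMap.smul_apply, LinearMap.id_apply,
      neg_smul, one_smul]
    exact (memW w).mp w.2
  have h3 : W.mapQ W (mulVecLin z) he = LinearMap.id := by
    apply LinearMap.ext
    intro x
    obtain ⟨x, rfl⟩ := Submodule.Quotient.mk_surjective W x
    rw [Submodule.mapQ_apply, LinearMap.id_apply, Submodule.Quotient.eq, memW, mulVecLin_apply,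
      mulVec_sub, mulVec_mulVec, hz, one_mulVec]
    abel
  rw [h2, h3, LinearMap.det_smul, LinearMap.det_id, LinearMap.det_id, mul_one, mul_one] at h1
  rw [← h1, ← Matrix.toLin'_apply', LinearMap.det_toLin']

theorem rank_add_le (e₁ e₂ : Matrix ι ι F) (h1 : e₁ * e₁ = e₁) (h2 : e₂ * e₂ = e₂)
    (h12 : e₁ * e₂ = 0) (h21 : e₂ * e₁ = 0) : e₁.rank + e₂.rank ≤ (e₁ + e₂).rank := by
  set R₁ := LinearMap.range (mulVecLin e₁) with hR₁
  set R₂ := LinearMap.range (mulVecLin e₂) with hR₂
  have hdisj : R₁ ⊓ R₂ = ⊥ := by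
    rw [eq_bot_iff]
    rintro v ⟨⟨a, ha⟩, ⟨b, hb⟩⟩
    rw [mulVecLin_apply] at ha hb
    rw [Submodule.mem_bot]
    have h3 : e₁ *ᵥ v = v := by rw [← ha, mulVec_mulVec, h1]
    rw [← h3, ← hb, mulVec_mulVec, h12, zero_mulVec]
  have hle : R₁ ⊔ R₂ ≤ LinearMap.range (mulVecLin (e₁ + e₂)) := by
    apply sup_le
    · rintro _ ⟨a, rfl⟩
      refine ⟨e₁ *ᵥ a, ?_⟩
      rw [mulVecLin_apply, mulVecLin_apply, mulVec_mulVec, add_mul, h1, h21, add_zero]
    · rintro _ ⟨a, rfl⟩
      refine ⟨e₂ *ᵥ a, ?_⟩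
      rw [mulVecLin_apply, mulVecLin_apply, mulVec_mulVec, add_mul, h2, h12, zero_add]
  have h9 := Submodule.finrank_sup_add_finrank_inf_eq R₁ R₂
  rw [hdisj, finrank_bot, add_zero] at h9
  have h10 := Submodule.finrank_mono hle
  show Module.finrank F R₁ + Module.finrank F R₂ ≤ _
  rw [← h9]
  exact h10

variable {G : Matrix ι ι F} [hG : Fact (IsUnit G.det)] [hGs : Fact (Gᵀ = G)]

theorem det_sq_of_isom (b : Matrix ι ι F) (hbs : adjG G b * b = 1) : b.det * b.det = 1 := by
  have := congrArg Matrix.det hbs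
  rwa [det_mul, det_adjG, det_one] at this

theorem det_of_odd_order (b : Matrix ι ι F) (hbs : adjG G b * b = 1) (r : ℕ) (hr : Odd r)
    (hb : b ^ r = 1) : b.det = 1 := by
  obtain ⟨m, rfl⟩ := hr
  have h1 := congrArg Matrix.det hb
  rw [det_pow, det_one, pow_succ, pow_mul, pow_two, det_sq_of_isom b hbs, one_pow, one_mul] at h1
  exact h1

theorem det_sub_one (h2 : (2 : F) ≠ 0) (b : Matrix ι ι F) (hbs : adjG G b * b = 1)
    (hdet : b.det = 1) (hodd : Odd (Fintype.card ι)) : (b - 1).det = 0 := by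
  have h1 : adjG G (b - 1) * b = -(b - 1) := by
    rw [adjG_sub, adjG_one, sub_mul, hbs, one_mul]; abel
  have h3 := congrArg Matrix.det h1
  rw [det_mul, det_adjG, hdet, mul_one, det_neg, hodd.neg_one_pow] at h3
  have h4 : (2 : F) * (b - 1).det = 0 := by linear_combination h3
  exact (mul_eq_zero.mp h4).resolve_left h2

/-- a unipotent isometry acts trivially on a nondegenerate subspace of dimension at most two -/
theorem nil_mul_idem (h2 : (2 : F) ≠ 0) (u e : Matrix ι ι F) (hus : adjG G u * u = 1)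
    (hN : IsNilpotent (u - 1)) (he : e * e = e) (hes : adjG G e = e) (hc : Commute (u - 1) e)
    (hr : e.rank ≤ 2) : (u - 1) * e = 0 := by
  set N := u - 1 with hNdef
  set M := N * e with hM
  by_contra hM0
  have he0 : e ≠ 0 := by
    rintro rfl
    exact hM0 (by rw [hM, mul_zero])
  have hr1 : M.rank ≤ 1 := by
    have : M.rank < e.rank := rank_drop N e hN hc he0
    omega
  have hcM : Commute N M := (Commute.refl N).mul_right hc
  have hNM : N * M = 0 := by
    have := rank_drop N M hN hcM hM0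
    have h0 : (N * M).rank = 0 := by omega
    exact eq_zero_of_rank _ h0
  have huM : u * M = M := by
    have : u = N + 1 := by rw [hNdef]; abel
    rw [this, add_mul, hNM, one_mul, zero_add]
  have h3 : adjG G u * M = M := by
    calc adjG G u * M = adjG G u * (u * M) := by rw [huM]
      _ = M := by rw [← mul_assoc, hus, one_mul]
  have h4 : adjG G M * u = -M := by
    rw [hM, adjG_mul, hes, hNdef, adjG_sub, adjG_one, mul_assoc, sub_mul, hus, one_mul, ← hNdef,
      hc.eq, hNdef, ← mul_neg, neg_sub]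
  have h5 : adjG G M = -M := by
    have h6 := congrArg (adjG G) h4
    rw [adjG_mul, adjG_adjG, adjG_neg, h3] at h6
    exact (neg_eq_iff_eq_neg.mpr h6).symm ▸ rfl
  have h7 : (G * M)ᵀ = -(G * M) := by
    rw [transpose_mul, hGs.out]
    have h8 : G * adjG G M = Mᵀ * G := by
      rw [adjG, ← mul_assoc, ← mul_assoc, GGi G, one_mul]
    rw [← h8, h5, mul_neg]
  have h9 : (G * M).rank ≤ 1 := by
    rw [rank_mul_eq_right_of_isUnit_det _ _ hG.out]; exact hr1
  have h10 := skew_rank h2 (G * M) h7 h9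
  apply hM0
  calc M = G⁻¹ * (G * M) := by rw [← mul_assoc, GiG G, one_mul]
    _ = 0 := by rw [h10, mul_zero]

end Cfsg.Agent.Lib.Helper42.SpecO
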