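import Mathlib
import Cfsg.Agent.Lib.Helper42.SpecO2

/-!
Orthogonal groups in odd characteristic: the structure of a commuting triple
(involution, semisimple element of large prime order, unipotent element) in dimension `2d+3`.
-/

set_option autoImplicit false
set_option linter.unusedSectionVars false

namespace Cfsg.Agent.Lib.Helper42.SpecO

open Matrix Polynomial
open Cfsg.Agent.Lib.Helper42.PGraphL Cfsg.Agent.Lib.Helper42.PGraphS Cfsg.Agent.Lib.Helper42.PGraphU

variable {F : Type*} [Field F] {ι : Type*} [Fintype ι] [DecidableEq ι]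

theorem idem_of_sq (A : Matrix ι ι F) (c : F) (hc : c ≠ 0) (h : A * A = c • A) :
    (c⁻¹ • A) * (c⁻¹ • A) = c⁻¹ • A := by
  rw [smul_mul_smul_comm, h, smul_smul]
  congr 1
  field_simp

theorem geom_facts (r : ℕ) (b : Matrix ι ι F) (hb : b ^ r = 1) :
    (∑ i ∈ Finset.range r, b ^ i) * b = ∑ i ∈ Finset.range r, b ^ i ∧
    b * (∑ i ∈ Finset.range r, b ^ i) = ∑ i ∈ Finset.range r, b ^ i ∧
    (∑ i ∈ Finset.range r, b ^ i) * (∑ i ∈ Finset.range r, b ^ i)
      = (r : F) • ∑ i ∈ Finset.range r, b ^ i := by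
  set T := ∑ i ∈ Finset.range r, b ^ i with hT
  have h1 : T * b = T := by
    have : T * (b - 1) = 0 := by rw [hT, geom_sum_mul, hb, sub_self]
    rw [mul_sub, mul_one, sub_eq_zero] at this
    exact this
  have h2 : b * T = T := by
    have : (b - 1) * T = 0 := by rw [hT, mul_geom_sum, hb, sub_self]
    rw [sub_mul, one_mul, sub_eq_zero] at this
    exact this
  refine ⟨h1, h2, ?_⟩
  have h4 : ∀ i : ℕ, b ^ i * T = T := by
    intro i
    induction i with
    | zero => simp
    | succ i ih => rw [pow_succ, mul_assoc, h2, ih]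
  nth_rewrite 1 [hT]
  rw [Finset.sum_mul]
  simp only [h4, Finset.sum_const, Finset.card_range]
  rw [Nat.cast_smul_eq_nsmul]

variable {G : Matrix ι ι F} [hG : Fact (IsUnit G.det)] [hGs : Fact (Gᵀ = G)]

theorem form_adj (M : Matrix ι ι F) (x y : ι → F) :
    x ⬝ᵥ G *ᵥ (M *ᵥ y) = (adjG G M *ᵥ x) ⬝ᵥ G *ᵥ y := by
  have h1 : G * M = (adjG G M)ᵀ * G := by
    rw [adjG, transpose_mul, transpose_mul, transpose_transpose, transpose_nonsing_inv, hGs.out,
      mul_assoc, mul_assoc, GiG G, mul_one]
  rw [mulVec_mulVec, h1, ← mulVec_mulVec, Matrix.dotProduct_mulVec, Matrix.vecMul_transpose]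

/-- the part of `b` living on the image of a self-adjoint idempotent -/
theorem big_of_ne [Fintype F] (r : ℕ) [Fact r.Prime] (hr2 : r ≠ 2) (hrF : (r : F) ≠ 0)
    (b e : Matrix ι ι F) (hbs : adjG G b * b = 1) (hb : b ^ r = 1)
    (he : e * e = e) (hes : adjG G e = e) (hc : Commute b e) (hne : (b - 1) * e ≠ 0) (η : ℕ)
    (hη : (Odd (orderOf ((Fintype.card F : ℕ) : ZMod r)) ∧ η = orderOf ((Fintype.card F : ℕ) : ZMod r)) ∨
      (Even (orderOf ((Fintype.card F : ℕ) : ZMod r)) ∧ 2 * η = orderOf ((Fintype.card F : ℕ) : ZMod r))) :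
    2 * η ≤ Module.finrank F (LinearMap.ker (mulVecLin (1 - e))) := by
  set B := 1 + (b - 1) * e with hB
  have hpow : ∀ i : ℕ, B ^ i = 1 + (b ^ i - 1) * e := by
    intro i
    induction i with
    | zero => simp
    | succ i ih =>
      rw [pow_succ, ih, hB]
      have h1 : (b ^ i - 1) * e * ((b - 1) * e) = (b ^ i - 1) * (b - 1) * e := by
        have : e * ((b - 1) * e) = (b - 1) * e := by
          rw [← mul_assoc, ← (hc.sub_left (Commute.one_left e)).eq, mul_assoc, he]
        rw [mul_assoc, this, mul_assoc]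
      rw [mul_add, add_mul, add_mul, h1, pow_succ]
      noncomm_ring
  have hBr : B ^ r = 1 := by rw [hpow, hb, sub_self, zero_mul, add_zero]
  have hB1 : B ≠ 1 := by
    intro h
    apply hne
    rw [hB] at h
    exact add_eq_left.mp h
  have hbs' : b * adjG G b = 1 := mul_eq_one_comm.mp hbs
  have hc' : Commute (adjG G b) e := by
    have h1 : e * adjG G b = adjG G b * e := by
      have := congrArg (adjG G) hc.eq
      rwa [adjG_mul, adjG_mul, hes] at this
    exact h1.symm
  have hBs : adjG G B * B = 1 := by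
    rw [hB, adjG_add, adjG_one, adjG_mul, adjG_sub, adjG_one, hes]
    have h1 : e * (adjG G b - 1) * ((b - 1) * e) = (adjG G b - 1) * (b - 1) * e := by
      rw [← (hc'.sub_left (Commute.one_left e)).eq, mul_assoc, ← mul_assoc e,
        ← (hc.sub_left (Commute.one_left e)).eq, mul_assoc, he, mul_assoc]
    have h2 : e * (adjG G b - 1) = (adjG G b - 1) * e := (hc'.sub_left (Commute.one_left e)).eq.symm
    have h3 : (adjG G b - 1) * (b - 1) = 1 - b - adjG G b + 1 := by
      rw [sub_mul, mul_sub, mul_sub, hbs]; noncomm_ring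
    rw [add_mul, mul_add, mul_add, h1, h2, h3]
    noncomm_ring
  have key := (W_struct r hr2 hrF B hBs hBr hB1 η hη).1
  refine key.trans (Submodule.finrank_mono ?_)
  intro v hv
  rw [LinearMap.mem_ker, mulVecLin_apply] at hv ⊢
  have h1 : (1 - e) * (∑ i ∈ Finset.range r, B ^ i) = (r : F) • (1 - e) := by
    rw [Finset.mul_sum]
    have : ∀ i ∈ Finset.range r, (1 - e) * B ^ i = 1 - e := by
      intro i _
      rw [hpow, mul_add, mul_one]
      have : (1 - e) * ((b ^ i - 1) * e) = 0 := by
        have h5 : (b ^ i - 1) * e = e * (b ^ i - 1) :=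
          ((hc.pow_left i).sub_left (Commute.one_left e)).eq
        rw [h5, ← mul_assoc, sub_mul, one_mul, he, sub_self, zero_mul]
      rw [this, add_zero]
    rw [Finset.sum_congr rfl this, Finset.sum_const, Finset.card_range, Nat.cast_smul_eq_nsmul]
  have h2 := congrArg (· *ᵥ v) h1
  simp only [← mulVec_mulVec, hv, mulVec_zero, smul_mulVec] at h2
  exact ((smul_eq_zero.mp h2.symm).resolve_left hrF)

theorem structure_thm [Fintype F] (h2 : (2 : F) ≠ 0) (r : ℕ) [Fact r.Prime] (hr2 : r ≠ 2)
    (hrF : (r : F) ≠ 0) (d : ℕ) (hd : 2 ≤ d) (hcard : Fintype.card ι = 2 * d + 3)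
    (hη : (Odd (orderOf ((Fintype.card F : ℕ) : ZMod r)) ∧ d = orderOf ((Fintype.card F : ℕ) : ZMod r)) ∨
      (Even (orderOf ((Fintype.card F : ℕ) : ZMod r)) ∧ 2 * d = orderOf ((Fintype.card F : ℕ) : ZMod r)))
    (z b u : Matrix ι ι F) (hzs : adjG G z * z = 1) (hbs : adjG G b * b = 1)
    (hus : adjG G u * u = 1) (hzb : Commute z b) (hzu : Commute z u) (hbu : Commute b u)
    (hz : z * z = 1) (hz1 : z ≠ 1) (hzdet : z.det = 1) (hb : b ^ r = 1) (hb1 : b ≠ 1)
    (hN : IsNilpotent (u - 1)) (hu1 : u ≠ 1) :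
    (∀ v, z *ᵥ v = v ↔ b *ᵥ v = v) ∧
    Module.finrank F (LinearMap.ker (mulVecLin (b - 1))) = 3 ∧
    ∃ e : ι → F, e ≠ 0 ∧ b *ᵥ e = e ∧ e ⬝ᵥ G *ᵥ e = 0 := by
  classical
  have hr : r.Prime := Fact.out
  have hrodd : Odd r := hr.odd_of_ne_two hr2
  set k := orderOf ((Fintype.card F : ℕ) : ZMod r) with hk
  set N := u - 1 with hNdef
  have hN0 : N ≠ 0 := sub_ne_zero.mpr hu1
  have hbN : Commute b N := hbu.sub_right (Commute.one_right b)
  have hzN : Commute z N := hzu.sub_right (Commute.one_right z)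
  set T := ∑ i ∈ Finset.range r, b ^ i with hT
  obtain ⟨hTb, hbT, hTT⟩ := geom_facts (F := F) r b hb
  rw [← hT] at hTb hbT hTT
  have hTs : adjG G T = T := adjG_geom r hrF b hbs hb
  set W := LinearMap.ker (mulVecLin T) with hW
  have memW : ∀ w, w ∈ W ↔ T *ᵥ w = 0 := by
    intro w; rw [hW, LinearMap.mem_ker, Matrix.mulVecLin_apply]
  obtain ⟨hW1, hW2, hW3⟩ := W_struct r hr2 hrF b hbs hb hb1 d hη
  rw [← hT, ← hW] at hW1 hW2 hW3
  rw [← hk] at hW2
  -- a fixed vector
  have hoddc : Odd (Fintype.card ι) := by rw [hcard]; exact ⟨d + 1, by ring⟩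
  have hdetb : b.det = 1 := det_of_odd_order b hbs r hrodd hb
  have hdet0 : (b - 1).det = 0 := det_sub_one h2 b hbs hdetb hoddc
  obtain ⟨v₀, hv₀, hv₀'⟩ := Matrix.exists_mulVec_eq_zero_iff.mpr hdet0
  have hbv₀ : b *ᵥ v₀ = v₀ := by
    rw [sub_mulVec, one_mulVec, sub_eq_zero] at hv₀'; exact hv₀'
  have hWlt : Module.finrank F W < 2 * d + 3 := by
    have h1 : W ≠ ⊤ := by
      intro h
      have : v₀ ∈ W := by rw [h]; trivial
      exact hv₀ (no_fix r hrF b v₀ ((memW v₀).mp this) hbv₀)
    have h3 := Submodule.finrank_lt h1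
    rwa [Module.finrank_fintype_fun_eq_card, hcard] at h3
  have hfin : Module.finrank F W = 2 * d := by
    obtain ⟨c, hc⟩ := hW2
    rcases hη with ⟨hodd, he⟩ | ⟨-, he⟩
    · have hd3 : 3 ≤ d := by
        rw [← he] at hodd
        obtain ⟨m, hm⟩ := hodd
        omega
      rw [← he] at hc
      have hc2 : c = 2 := by
        by_contra hne
        rcases Nat.lt_or_ge c 2 with h | h
        · have : d * c ≤ d * 1 := Nat.mul_le_mul_left d (by omega)
          omega
        · have : d * 3 ≤ d * c := Nat.mul_le_mul_left d (by omega)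
          omega
      rw [hc, hc2]; ring
    · rw [← he] at hc
      have hc2 : c = 1 := by
        by_contra hne
        rcases Nat.lt_or_ge c 1 with h | h
        · have : c = 0 := by omega
          rw [this] at hc
          omega
        · have : 2 * d * 2 ≤ 2 * d * c := Nat.mul_le_mul_left (2 * d) (by omega)
          omega
      rw [hc, hc2]; ring
  have hWN : W ≤ LinearMap.ker (mulVecLin N) := hW3 hfin N hN hbN
  -- the projection onto the fixed space
  set π := (r : F)⁻¹ • T with hπ
  have hππ : π * π = π := idem_of_sq T (r : F) hrF hTT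
  have hπs : adjG G π = π := by rw [hπ, adjG_smul, hTs]
  have hbπ : b * π = π := by rw [hπ, mul_smul_comm, hbT]
  have hTN : Commute T N := by
    rw [hT]; exact Commute.sum_left _ _ _ (fun i _ => hbN.pow_left i)
  have hTz : Commute T z := by
    rw [hT]; exact Commute.sum_left _ _ _ (fun i _ => (hzb.symm).pow_left i)
  have hπN : Commute π N := hTN.smul_left _
  have hπz : Commute π z := hTz.smul_left _
  have hTπ : T * (1 - π) = 0 := by
    rw [mul_sub, mul_one, hπ, mul_smul_comm, hTT, smul_smul, inv_mul_cancel₀ hrF, one_smul, sub_self]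
  have hN1π : N * (1 - π) = 0 := by
    apply eq_zero_of_mulVec
    intro v
    have h1 : (1 - π) *ᵥ v ∈ W := by rw [memW, mulVec_mulVec, hTπ, zero_mulVec]
    have h3 := hWN h1
    rwa [LinearMap.mem_ker, mulVecLin_apply, mulVec_mulVec] at h3
  have hNπ : N * π = N := by
    rw [mul_sub, mul_one, sub_eq_zero] at hN1π; exact hN1π.symm
  have hfix : ∀ v, b *ᵥ v = v ↔ π *ᵥ v = v := by
    intro v
    constructor
    · intro h
      have h1 : ∀ i : ℕ, (b ^ i) *ᵥ v = v := by
        intro i
        induction i with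
        | zero => simp
        | succ i ih => rw [pow_succ, ← Matrix.mulVec_mulVec, h, ih]
      rw [hπ, smul_mulVec, hT, Matrix.sum_mulVec]
      simp only [h1, Finset.sum_const, Finset.card_range]
      rw [← Nat.cast_smul_eq_nsmul F, smul_smul, inv_mul_cancel₀ hrF, one_smul]
    · intro h
      rw [← h, mulVec_mulVec, hbπ]
  have hkerπ : LinearMap.ker (mulVecLin π) = W := by
    ext v
    rw [LinearMap.mem_ker, mulVecLin_apply, memW, hπ, smul_mulVec, smul_eq_zero]
    constructor
    · rintro (h | h)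
      · exact absurd h (inv_ne_zero hrF)
      · exact h
    · intro h; exact Or.inr h
  have hrankπ : π.rank = 3 := by
    have h1 := LinearMap.finrank_range_add_finrank_ker (mulVecLin π)
    rw [Module.finrank_fintype_fun_eq_card, hcard, hkerπ, hfin] at h1
    have h3 : Module.finrank F (LinearMap.range (mulVecLin π)) = π.rank := rfl
    omega
  have hkerb : LinearMap.ker (mulVecLin (b - 1)) = LinearMap.range (mulVecLin π) := by
    ext v
    rw [LinearMap.mem_ker, mulVecLin_apply, sub_mulVec, one_mulVec, sub_eq_zero, hfix]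
    constructor
    · intro h; exact ⟨v, h⟩
    · rintro ⟨w, rfl⟩
      rw [mulVecLin_apply, mulVec_mulVec, hππ]
  have hfinb : Module.finrank F (LinearMap.ker (mulVecLin (b - 1))) = 3 := by
    rw [hkerb]; exact hrankπ
  -- the eigenprojections of `z`
  have hzs' : adjG G z = z := by
    calc adjG G z = adjG G z * (z * z) := by rw [hz, mul_one]
      _ = z := by rw [← mul_assoc, hzs, one_mul]
  set πp := (2 : F)⁻¹ • (1 + z) with hπp
  set πm := (2 : F)⁻¹ • (1 - z) with hπm
  have hpp : πp * πp = πp := by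
    apply idem_of_sq _ _ h2
    rw [add_mul, mul_add, mul_add, hz, two_smul]; noncomm_ring
  have hmm : πm * πm = πm := by
    apply idem_of_sq _ _ h2
    rw [sub_mul, mul_sub, mul_sub, hz, two_smul]; noncomm_ring
  have hpm : πp * πm = 0 := by
    rw [hπp, hπm, smul_mul_smul_comm, add_mul, mul_sub, mul_sub, hz]; simp
  have hmp : πm * πp = 0 := by
    rw [hπp, hπm, smul_mul_smul_comm, sub_mul, mul_add, mul_add, hz]
    have : (1 * 1 + 1 * z - (z * 1 + 1) : Matrix ι ι F) = 0 := by noncomm_ring
    rw [this, smul_zero]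
  have hsum : πp + πm = 1 := by
    rw [hπp, hπm, ← smul_add]
    have : (1 + z + (1 - z) : Matrix ι ι F) = (2 : F) • 1 := by rw [two_smul]; abel
    rw [this, smul_smul, inv_mul_cancel₀ h2, one_smul]
  have hps : adjG G πp = πp := by rw [hπp, adjG_smul, adjG_add, adjG_one, hzs']
  have hms : adjG G πm = πm := by rw [hπm, adjG_smul, adjG_sub, adjG_one, hzs']
  have hbp : Commute b πp := ((Commute.one_right b).add_right hzb.symm).smul_right _
  have hbm : Commute b πm := ((Commute.one_right b).sub_right hzb.symm).smul_right _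
  have hNp : Commute N πp := ((Commute.one_right N).add_right hzN.symm).smul_right _
  have hNm : Commute N πm := ((Commute.one_right N).sub_right hzN.symm).smul_right _
  have hπp' : Commute π πp := ((Commute.one_right π).add_right hπz).smul_right _
  have hπm' : Commute π πm := ((Commute.one_right π).sub_right hπz).smul_right _
  -- the dichotomy for `b`
  have hdich : (b - 1) * πp = 0 ∨ (b - 1) * πm = 0 := by
    by_contra hcon
    rw [not_or] at hcon
    have h1 := big_of_ne r hr2 hrF b πp hbs hb hpp hps hbp hcon.1 d hη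
    have h3 := big_of_ne r hr2 hrF b πm hbs hb hmm hms hbm hcon.2 d hη
    have hdisj : LinearMap.ker (mulVecLin (1 - πp)) ⊓ LinearMap.ker (mulVecLin (1 - πm)) = ⊥ := by
      rw [eq_bot_iff]
      rintro v ⟨ha, hb'⟩
      rw [SetLike.mem_coe, LinearMap.mem_ker, mulVecLin_apply, sub_mulVec, one_mulVec,
        sub_eq_zero] at ha hb'
      rw [Submodule.mem_bot, ha, hb', mulVec_mulVec, hpm, zero_mulVec]
    have h9 := Submodule.finrank_sup_add_finrank_inf_eq (LinearMap.ker (mulVecLin (1 - πp)))
      (LinearMap.ker (mulVecLin (1 - πm)))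
    rw [hdisj, finrank_bot, add_zero] at h9
    have h10 := Submodule.finrank_le (LinearMap.ker (mulVecLin (1 - πp)) ⊔
      LinearMap.ker (mulVecLin (1 - πm)))
    rw [Module.finrank_fintype_fun_eq_card, hcard] at h10
    omega
  -- the dichotomy for `z` on the fixed space
  have hdich2 : π * πp = 0 ∨ π * πm = 0 := by
    by_contra hcon
    rw [not_or] at hcon
    have i1 : (π * πp) * (π * πp) = π * πp := by
      rw [mul_assoc, ← mul_assoc πp, ← hπp'.eq, mul_assoc, hpp, ← mul_assoc, hππ]
    have i2 : (π * πm) * (π * πm) = π * πm := by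
      rw [mul_assoc, ← mul_assoc πm, ← hπm'.eq, mul_assoc, hmm, ← mul_assoc, hππ]
    have i12 : (π * πp) * (π * πm) = 0 := by
      rw [mul_assoc, ← mul_assoc πp, ← hπp'.eq, mul_assoc, hpm, mul_zero, mul_zero]
    have i21 : (π * πm) * (π * πp) = 0 := by
      rw [mul_assoc, ← mul_assoc πm, ← hπm'.eq, mul_assoc, hmp, mul_zero, mul_zero]
    have hle := rank_add_le _ _ i1 i2 i12 i21
    rw [← mul_add, hsum, mul_one, hrankπ] at hle
    have r1 : (π * πp).rank ≠ 0 := fun h => hcon.1 (eq_zero_of_rank _ h)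
    have r2 : (π * πm).rank ≠ 0 := fun h => hcon.2 (eq_zero_of_rank _ h)
    have s1 : adjG G (π * πp) = π * πp := by rw [adjG_mul, hπs, hps, hπp'.eq]
    have s2 : adjG G (π * πm) = π * πm := by rw [adjG_mul, hπs, hms, hπm'.eq]
    have n1 := nil_mul_idem h2 u (π * πp) hus hN i1 s1 (hπN.symm.mul_right hNp) (by omega)
    have n2 := nil_mul_idem h2 u (π * πm) hus hN i2 s2 (hπN.symm.mul_right hNm) (by omega)
    apply hN0
    rw [← hNπ]
    calc N * π = N * (π * πp) + N * (π * πm) := by rw [← mul_add, ← mul_add, hsum, mul_one]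
      _ = 0 := by rw [n1, n2, add_zero]
  have absorb : ∀ e : Matrix ι ι F, (b - 1) * e = 0 → π * e = e := by
    intro e he
    have h1 : b * e = e := by rw [sub_mul, one_mul, sub_eq_zero] at he; exact he
    have h3 : ∀ i : ℕ, b ^ i * e = e := by
      intro i
      induction i with
      | zero => simp
      | succ i ih => rw [pow_succ, mul_assoc, h1, ih]
    rw [hπ, smul_mul_assoc, hT, Finset.sum_mul]
    simp only [h3, Finset.sum_const, Finset.card_range]
    rw [← Nat.cast_smul_eq_nsmul F, smul_smul, inv_mul_cancel₀ hrF, one_smul]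
  have hneg1 : (-1 : F) ≠ 1 := by
    intro h
    apply h2
    linear_combination -h
  have hmain : π = πp := by
    rcases hdich2 with hA | hA <;> rcases hdich with hB | hB
    · -- πp = 0, z = -1
      exfalso
      have h1 : πp = 0 := by rw [← absorb πp hB, hA]
      have h3 : z = -1 := by
        rw [hπp, smul_eq_zero] at h1
        have := h1.resolve_left (inv_ne_zero h2)
        exact (eq_neg_of_add_eq_zero_right this)
      rw [h3, det_neg, det_one, mul_one, hoddc.neg_one_pow] at hzdet
      exact hneg1 hzdet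
    · -- π = πm
      exfalso
      have h1 : π = πm := by
        calc π = π * πp + π * πm := by rw [← mul_add, hsum, mul_one]
          _ = πm := by rw [hA, absorb πm hB, zero_add]
      have h3 : LinearMap.ker (mulVecLin (z + 1)) = LinearMap.ker (mulVecLin (b - 1)) := by
        ext v
        rw [LinearMap.mem_ker, LinearMap.mem_ker, mulVecLin_apply, mulVecLin_apply, sub_mulVec,
          one_mulVec, sub_eq_zero, hfix, h1]
        have h4 : z + 1 = (2 : F) • (1 - πm) := by
          have h5 : 1 - πm = πp := by rw [← hsum, add_sub_cancel_right]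
          rw [h5, hπp, smul_smul, mul_inv_cancel₀ h2, one_smul, add_comm]
        rw [h4, smul_mulVec, smul_eq_zero, sub_mulVec, one_mulVec, sub_eq_zero]
        constructor
        · rintro (h | h)
          · exact absurd h h2
          · exact h.symm
        · intro h; exact Or.inr h.symm
      rw [det_invol z hz, h3, hfinb] at hzdet
      have h6 : (-1 : F) ^ 3 = -1 := by ring
      rw [h6] at hzdet
      exact hneg1 hzdet
    · calc π = π * πp + π * πm := by rw [← mul_add, hsum, mul_one]
        _ = πp := by rw [hA, absorb πp hB, add_zero]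
    · exfalso
      have h1 : πm = 0 := by rw [← absorb πm hB, hA]
      apply hz1
      rw [hπm, smul_eq_zero] at h1
      have := h1.resolve_left (inv_ne_zero h2)
      exact (sub_eq_zero.mp this).symm
  refine ⟨?_, hfinb, ?_⟩
  · intro v
    rw [hfix, hmain, hπp, smul_mulVec, add_mulVec, one_mulVec]
    constructor
    · intro h
      rw [h, ← two_smul F, smul_smul, inv_mul_cancel₀ h2, one_smul]
    · intro h
      have h1 := congrArg (fun w => (2 : F) • w) h
      simp only [smul_smul, mul_inv_cancel₀ h2, one_smul, two_smul] at h1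
      exact add_left_cancel h1
  · -- the singular vector
    obtain ⟨m, hm⟩ := hN
    have hex : ∃ m, N ^ m = 0 := ⟨m, hm⟩
    set m0 := Nat.find hex with hm0
    have h1 : N ^ m0 = 0 := Nat.find_spec hex
    have h3 : 2 ≤ m0 := by
      by_contra hlt
      have : m0 = 0 ∨ m0 = 1 := by omega
      rcases this with h | h
      · rw [h, pow_zero] at h1
        have hne : Nonempty ι := by
          rw [← Fintype.card_pos_iff, hcard]; omega
        exact one_ne_zero h1
      · rw [h, pow_one] at h1
        exact hN0 h1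
    have h4 : N ^ (m0 - 1) ≠ 0 := Nat.find_min hex (by omega)
    obtain ⟨x, hx⟩ : ∃ x, N ^ (m0 - 1) *ᵥ x ≠ 0 := by
      by_contra hcon
      push Not at hcon
      exact h4 (eq_zero_of_mulVec _ hcon)
    have h5 : N ^ (m0 - 1) = N * N ^ (m0 - 2) := by
      rw [← pow_succ']; congr 1; omega
    have hNe : N *ᵥ (N ^ (m0 - 1) *ᵥ x) = 0 := by
      rw [mulVec_mulVec, ← pow_succ', Nat.sub_add_cancel (by omega), h1, zero_mulVec]
    refine ⟨N ^ (m0 - 1) *ᵥ x, hx, ?_, ?_⟩
    · have h6 : b * N = N := by
        calc b * N = b * (π * N) := by rw [hπN.eq, hNπ]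
          _ = N := by rw [← mul_assoc, hbπ, hπN.eq, hNπ]
      rw [h5, mulVec_mulVec, ← mul_assoc, h6]
    · have hue : u *ᵥ (N ^ (m0 - 1) *ᵥ x) = N ^ (m0 - 1) *ᵥ x := by
        have : u = N + 1 := by rw [hNdef]; abel
        rw [this, add_mulVec, hNe, one_mulVec, zero_add]
      have hue' : adjG G u *ᵥ (N ^ (m0 - 1) *ᵥ x) = N ^ (m0 - 1) *ᵥ x := by
        nth_rewrite 1 [← hue]
        rw [mulVec_mulVec, hus, one_mulVec]
      nth_rewrite 2 [h5]
      rw [← mulVec_mulVec, form_adj, hNdef, adjG_sub, adjG_one, sub_mulVec, one_mulVec, ← hNdef, hue',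
        sub_self, zero_dotProduct]

end Cfsg.Agent.Lib.Helper42.SpecO
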