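import Mathlib
import Cfsg.Agent.Lib.Helper42.SpecO3

/-!
Orthogonal groups in odd dimension: upper bounds for the prime graph.
-/

set_option autoImplicit false
set_option linter.unusedSectionVars false

namespace Cfsg.Agent.Lib.Helper42.SpecO

open Matrix Polynomial
open Cfsg.Agent.Lib.Helper42.PGraphL Cfsg.Agent.Lib.Helper42.PGraphS Cfsg.Agent.Lib.Helper42.PGraphU

variable {F : Type*} [Field F] {ι : Type*} [Fintype ι] [DecidableEq ι]
variable {G : Matrix ι ι F} [hG : Fact (IsUnit G.det)] [hGs : Fact (Gᵀ = G)]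

theorem proj_facts (r : ℕ) (hrF : (r : F) ≠ 0) (b : Matrix ι ι F) (hbs : adjG G b * b = 1)
    (hb : b ^ r = 1) :
    ∃ π : Matrix ι ι F, π * π = π ∧ adjG G π = π ∧ b * π = π ∧
      (∀ c, Commute b c → Commute π c) ∧
      LinearMap.ker (mulVecLin π) = LinearMap.ker (mulVecLin (∑ i ∈ Finset.range r, b ^ i)) ∧
      (∀ v, b *ᵥ v = v ↔ π *ᵥ v = v) ∧
      LinearMap.ker (mulVecLin (b - 1)) = LinearMap.range (mulVecLin π) ∧
      (∀ e : Matrix ι ι F, (b - 1) * e = 0 → π * e = e) ∧
      (∑ i ∈ Finset.range r, b ^ i) * (1 - π) = 0 := by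
  set T := ∑ i ∈ Finset.range r, b ^ i with hT
  obtain ⟨hTb, hbT, hTT⟩ := geom_facts (F := F) r b hb
  rw [← hT] at hTb hbT hTT
  have hTs : adjG G T = T := adjG_geom r hrF b hbs hb
  set π := (r : F)⁻¹ • T with hπ
  have hππ : π * π = π := idem_of_sq T (r : F) hrF hTT
  have hbπ : b * π = π := by rw [hπ, mul_smul_comm, hbT]
  have hfix : ∀ v, b *ᵥ v = v ↔ π *ᵥ v = v := by
    intro v
    constructor
    · intro h
      have h1 : ∀ i : ℕ, (b ^ i) *ᵥ v = v := by
        intro i
        induction i with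
        | zero => simp
        | succ i ih => rw [pow_succ, ← Matrix.mulVec_mulVec, h, ih]
      rw [hπ, smul_mulVec, hT, Matrix.sum_mulVec]
      simp only [h1, Finset.sum_const, Finset.card_range]
      rw [← Nat.cast_smul_eq_nsmul F, smul_smul, inv_mul_cancel₀ hrF, one_smul]
    · intro h
      rw [← h, mulVec_mulVec, hbπ]
  refine ⟨π, hππ, by rw [hπ, adjG_smul, hTs], hbπ, ?_, ?_, hfix, ?_, ?_, ?_⟩
  · intro c hc
    apply Commute.smul_left
    rw [hT]; exact Commute.sum_left _ _ _ (fun i _ => hc.pow_left i)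
  · ext v
    rw [LinearMap.mem_ker, mulVecLin_apply, LinearMap.mem_ker, mulVecLin_apply, hπ, smul_mulVec,
      smul_eq_zero]
    constructor
    · rintro (h | h)
      · exact absurd h (inv_ne_zero hrF)
      · exact h
    · intro h; exact Or.inr h
  · ext v
    rw [LinearMap.mem_ker, mulVecLin_apply, sub_mulVec, one_mulVec, sub_eq_zero, hfix]
    constructor
    · intro h; exact ⟨v, h⟩
    · rintro ⟨w, rfl⟩
      rw [mulVecLin_apply, mulVec_mulVec, hππ]
  · intro e he
    have h1 : b * e = e := by rw [sub_mul, one_mul, sub_eq_zero] at he; exact he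
    have h3 : ∀ i : ℕ, b ^ i * e = e := by
      intro i
      induction i with
      | zero => simp
      | succ i ih => rw [pow_succ, mul_assoc, h1, ih]
    rw [hπ, smul_mul_assoc, hT, Finset.sum_mul]
    simp only [h3, Finset.sum_const, Finset.card_range]
    rw [← Nat.cast_smul_eq_nsmul F, smul_smul, inv_mul_cancel₀ hrF, one_smul]
  · rw [mul_sub, mul_one, hπ, mul_smul_comm, hTT, smul_smul, inv_mul_cancel₀ hrF, one_smul, sub_self]

/-- in odd dimension the commutator space of an isometry of odd order is proper -/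
theorem finrank_W_lt (h2 : (2 : F) ≠ 0) (r : ℕ) (hrodd : Odd r) (hrF : (r : F) ≠ 0)
    (b : Matrix ι ι F) (hbs : adjG G b * b = 1) (hb : b ^ r = 1) (hodd : Odd (Fintype.card ι)) :
    Module.finrank F (LinearMap.ker (mulVecLin (∑ i ∈ Finset.range r, b ^ i))) < Fintype.card ι := by
  have hdetb : b.det = 1 := det_of_odd_order b hbs r hrodd hb
  have hdet0 : (b - 1).det = 0 := det_sub_one h2 b hbs hdetb hodd
  obtain ⟨v₀, hv₀, hv₀'⟩ := Matrix.exists_mulVec_eq_zero_iff.mpr hdet0
  have hbv₀ : b *ᵥ v₀ = v₀ := by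
    rw [sub_mulVec, one_mulVec, sub_eq_zero] at hv₀'; exact hv₀'
  have h1 : LinearMap.ker (mulVecLin (∑ i ∈ Finset.range r, b ^ i)) ≠ ⊤ := by
    intro h
    have : v₀ ∈ LinearMap.ker (mulVecLin (∑ i ∈ Finset.range r, b ^ i)) := by rw [h]; trivial
    rw [LinearMap.mem_ker, mulVecLin_apply] at this
    exact hv₀ (no_fix r hrF b v₀ this hbv₀)
  have h3 := Submodule.finrank_lt h1
  rwa [Module.finrank_fintype_fun_eq_card] at h3

theorem upperB [Fintype F] (h2 : (2 : F) ≠ 0) (r : ℕ) [Fact r.Prime] (hr2 : r ≠ 2)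
    (hrF : (r : F) ≠ 0) (n η : ℕ) (hcard : Fintype.card ι = 2 * n + 1)
    (hη : (Odd (orderOf ((Fintype.card F : ℕ) : ZMod r)) ∧ η = orderOf ((Fintype.card F : ℕ) : ZMod r)) ∨
      (Even (orderOf ((Fintype.card F : ℕ) : ZMod r)) ∧ 2 * η = orderOf ((Fintype.card F : ℕ) : ZMod r)))
    (b u : Matrix ι ι F) (hbs : adjG G b * b = 1) (hus : adjG G u * u = 1) (hbu : Commute b u)
    (hb : b ^ r = 1) (hb1 : b ≠ 1) (hN : IsNilpotent (u - 1)) (hu1 : u ≠ 1) : η + 1 ≤ n := by
  classical
  have hr : r.Prime := Fact.out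
  have hrodd : Odd r := hr.odd_of_ne_two hr2
  have hoddc : Odd (Fintype.card ι) := by rw [hcard]; exact ⟨n, rfl⟩
  obtain ⟨hW1, -, hW3⟩ := W_struct r hr2 hrF b hbs hb hb1 η hη
  have hlt := finrank_W_lt h2 r hrodd hrF b hbs hb hoddc
  rw [hcard] at hlt
  by_contra hcon
  have hηn : η = n := by omega
  have hbN : Commute b (u - 1) := hbu.sub_right (Commute.one_right b)
  have hWN := hW3 (by omega) (u - 1) hN hbN
  obtain ⟨π, hππ, hπs, hbπ, hπc, hkerπ, hfix, hkerb, habs, hTπ⟩ := proj_facts r hrF b hbs hb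
  have hrankπ : π.rank ≤ 2 := by
    have h1 := LinearMap.finrank_range_add_finrank_ker (mulVecLin π)
    rw [Module.finrank_fintype_fun_eq_card, hcard, hkerπ] at h1
    have h3 : Module.finrank F (LinearMap.range (mulVecLin π)) = π.rank := rfl
    omega
  have n1 := nil_mul_idem h2 u π hus hN hππ hπs (hπc _ hbN).symm hrankπ
  have hN1π : (u - 1) * (1 - π) = 0 := by
    apply eq_zero_of_mulVec
    intro v
    have h1 : (1 - π) *ᵥ v ∈ LinearMap.ker (mulVecLin (∑ i ∈ Finset.range r, b ^ i)) := by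
      rw [LinearMap.mem_ker, mulVecLin_apply, mulVec_mulVec, hTπ, zero_mulVec]
    have h3 := hWN h1
    rwa [LinearMap.mem_ker, mulVecLin_apply, mulVec_mulVec] at h3
  apply hu1
  rw [mul_sub, mul_one, n1, sub_zero] at hN1π
  exact sub_eq_zero.mp hN1π

theorem structure_one [Fintype F] (h2 : (2 : F) ≠ 0) (r : ℕ) [Fact r.Prime] (hr2 : r ≠ 2)
    (hrF : (r : F) ≠ 0) (n : ℕ) (hn : 1 ≤ n) (hcard : Fintype.card ι = 2 * n + 1)
    (hη : (Odd (orderOf ((Fintype.card F : ℕ) : ZMod r)) ∧ n = orderOf ((Fintype.card F : ℕ) : ZMod r)) ∨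
      (Even (orderOf ((Fintype.card F : ℕ) : ZMod r)) ∧ 2 * n = orderOf ((Fintype.card F : ℕ) : ZMod r)))
    (z b : Matrix ι ι F) (hzs : adjG G z * z = 1) (hbs : adjG G b * b = 1) (hzb : Commute z b)
    (hz : z * z = 1) (hz1 : z ≠ 1) (hzdet : z.det = 1) (hb : b ^ r = 1) (hb1 : b ≠ 1) :
    (∀ v, z *ᵥ v = v ↔ b *ᵥ v = v) ∧
    Module.finrank F (LinearMap.ker (mulVecLin (b - 1))) = 1 := by
  classical
  have hr : r.Prime := Fact.out
  have hrodd : Odd r := hr.odd_of_ne_two hr2
  have hoddc : Odd (Fintype.card ι) := by rw [hcard]; exact ⟨n, rfl⟩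
  obtain ⟨hW1, -, -⟩ := W_struct r hr2 hrF b hbs hb hb1 n hη
  have hlt := finrank_W_lt h2 r hrodd hrF b hbs hb hoddc
  rw [hcard] at hlt
  obtain ⟨π, hππ, hπs, hbπ, hπc, hkerπ, hfix, hkerb, habs, hTπ⟩ := proj_facts r hrF b hbs hb
  have hrankπ : π.rank = 1 := by
    have h1 := LinearMap.finrank_range_add_finrank_ker (mulVecLin π)
    rw [Module.finrank_fintype_fun_eq_card, hcard, hkerπ] at h1
    have h3 : Module.finrank F (LinearMap.range (mulVecLin π)) = π.rank := rfl
    omega
  have hfinb : Module.finrank F (LinearMap.ker (mulVecLin (b - 1))) = 1 := by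
    rw [hkerb]; exact hrankπ
  have hzs' : adjG G z = z := by
    calc adjG G z = adjG G z * (z * z) := by rw [hz, mul_one]
      _ = z := by rw [← mul_assoc, hzs, one_mul]
  set πp := (2 : F)⁻¹ • (1 + z) with hπp
  set πm := (2 : F)⁻¹ • (1 - z) with hπm
  have hpp : πp * πp = πp := by
    apply idem_of_sq _ _ h2
    rw [add_mul, mul_add, mul_add, hz, two_smul]; noncomm_ring
  have hmm : πm * πm = πm := by
    apply idem_of_sq _ _ h2
    rw [sub_mul, mul_sub, mul_sub, hz, two_smul]; noncomm_ring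
  have hpm : πp * πm = 0 := by
    rw [hπp, hπm, smul_mul_smul_comm, add_mul, mul_sub, mul_sub, hz]; simp
  have hsum : πp + πm = 1 := by
    rw [hπp, hπm, ← smul_add]
    have : (1 + z + (1 - z) : Matrix ι ι F) = (2 : F) • 1 := by rw [two_smul]; abel
    rw [this, smul_smul, inv_mul_cancel₀ h2, one_smul]
  have hps : adjG G πp = πp := by rw [hπp, adjG_smul, adjG_add, adjG_one, hzs']
  have hms : adjG G πm = πm := by rw [hπm, adjG_smul, adjG_sub, adjG_one, hzs']
  have hbp : Commute b πp := ((Commute.one_right b).add_right hzb.symm).smul_right _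
  have hbm : Commute b πm := ((Commute.one_right b).sub_right hzb.symm).smul_right _
  have hdich : (b - 1) * πp = 0 ∨ (b - 1) * πm = 0 := by
    by_contra hcon
    rw [not_or] at hcon
    have h1 := big_of_ne r hr2 hrF b πp hbs hb hpp hps hbp hcon.1 n hη
    have h3 := big_of_ne r hr2 hrF b πm hbs hb hmm hms hbm hcon.2 n hη
    have hdisj : LinearMap.ker (mulVecLin (1 - πp)) ⊓ LinearMap.ker (mulVecLin (1 - πm)) = ⊥ := by
      rw [eq_bot_iff]
      rintro v ⟨ha, hb'⟩
      rw [SetLike.mem_coe, LinearMap.mem_ker, mulVecLin_apply, sub_mulVec, one_mulVec,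
        sub_eq_zero] at ha hb'
      rw [Submodule.mem_bot, ha, hb', mulVec_mulVec, hpm, zero_mulVec]
    have h9 := Submodule.finrank_sup_add_finrank_inf_eq (LinearMap.ker (mulVecLin (1 - πp)))
      (LinearMap.ker (mulVecLin (1 - πm)))
    rw [hdisj, finrank_bot, add_zero] at h9
    have h10 := Submodule.finrank_le (LinearMap.ker (mulVecLin (1 - πp)) ⊔
      LinearMap.ker (mulVecLin (1 - πm)))
    rw [Module.finrank_fintype_fun_eq_card, hcard] at h10
    omega
  have hneg1 : (-1 : F) ≠ 1 := by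
    intro h
    apply h2
    linear_combination -h
  -- an idempotent below `π` is `0` or has the same range
  have hsub : ∀ e : Matrix ι ι F, π * e = e → e ≠ 0 →
      LinearMap.range (mulVecLin e) = LinearMap.range (mulVecLin π) := by
    intro e he he0
    have hle : LinearMap.range (mulVecLin e) ≤ LinearMap.range (mulVecLin π) := by
      rintro _ ⟨v, rfl⟩
      exact ⟨e *ᵥ v, by rw [mulVecLin_apply, mulVecLin_apply, mulVec_mulVec, he]⟩
    apply Submodule.eq_of_le_of_finrank_le hle
    have h1 : e.rank ≠ 0 := fun h => he0 (eq_zero_of_rank _ h)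
    show π.rank ≤ e.rank
    omega
  have hrange : ∀ e : Matrix ι ι F, e * e = e → ∀ v, v ∈ LinearMap.range (mulVecLin e) ↔ e *ᵥ v = v := by
    intro e he v
    constructor
    · rintro ⟨w, rfl⟩
      rw [mulVecLin_apply, mulVec_mulVec, he]
    · intro h; exact ⟨v, h⟩
  refine ⟨?_, hfinb⟩
  rcases hdich with hB | hB
  · have h1 := habs πp hB
    have hp0 : πp ≠ 0 := by
      intro h0
      have h3 : z = -1 := by
        rw [hπp, smul_eq_zero] at h0
        have := h0.resolve_left (inv_ne_zero h2)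
        exact (eq_neg_of_add_eq_zero_right this)
      rw [h3, det_neg, det_one, mul_one, hoddc.neg_one_pow] at hzdet
      exact hneg1 hzdet
    have h4 := hsub πp h1 hp0
    intro v
    rw [hfix, ← hrange π hππ, ← h4, hrange πp hpp, hπp, smul_mulVec, add_mulVec, one_mulVec]
    constructor
    · intro h
      rw [h, ← two_smul F, smul_smul, inv_mul_cancel₀ h2, one_smul]
    · intro h
      have h1 := congrArg (fun w => (2 : F) • w) h
      simp only [smul_smul, mul_inv_cancel₀ h2, one_smul, two_smul] at h1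
      exact add_left_cancel h1
  · exfalso
    have h1 := habs πm hB
    have hm0 : πm ≠ 0 := by
      intro h0
      apply hz1
      rw [hπm, smul_eq_zero] at h0
      have := h0.resolve_left (inv_ne_zero h2)
      exact (sub_eq_zero.mp this).symm
    have h4 := hsub πm h1 hm0
    have h3 : LinearMap.ker (mulVecLin (z + 1)) = LinearMap.range (mulVecLin πm) := by
      ext v
      rw [hrange πm hmm, LinearMap.mem_ker, mulVecLin_apply]
      have h5 : z + 1 = (2 : F) • (1 - πm) := by
        have h6 : 1 - πm = πp := by rw [← hsum, add_sub_cancel_right]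
        rw [h6, hπp, smul_smul, mul_inv_cancel₀ h2, one_smul, add_comm]
      rw [h5, smul_mulVec, smul_eq_zero, sub_mulVec, one_mulVec, sub_eq_zero]
      constructor
      · rintro (h | h)
        · exact absurd h h2
        · exact h.symm
      · intro h; exact Or.inr h.symm
    rw [det_invol z hz, h3, h4] at hzdet
    have h7 : Module.finrank F (LinearMap.range (mulVecLin π)) = 1 := hrankπ
    rw [h7, pow_one] at hzdet
    exact hneg1 hzdet

end Cfsg.Agent.Lib.Helper42.SpecO
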