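import Mathlib
import Cfsg.Agent.Lib.Helper42.SpecO9
import Cfsg.Agent.Lib.Helper42.PGraphS5
import Cfsg.Agent.Lib.Helper42.PGraphS6
import Cfsg.Agent.S2469

/-!
Odd-dimensional orthogonal groups: upper bounds for the adjacency of two odd primes.
-/

set_option autoImplicit false
set_option linter.unusedSectionVars false

namespace Cfsg.Agent.Lib.Helper42.SpecO

open Matrix Polynomial
open Cfsg.Agent.Lib.Helper42.PGraphL Cfsg.Agent.Lib.Helper42.PGraphS Cfsg.Agent.Lib.Helper42.PGraphU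

variable {F : Type*} [Field F] {ι : Type*} [Fintype ι] [DecidableEq ι]
variable {G : Matrix ι ι F} [hG : Fact (IsUnit G.det)] [hGs : Fact (Gᵀ = G)]

theorem ker_le_rangeO (B : Matrix ι ι F) (hBs : adjG G B * B = 1) (m : ℕ)
    (hm : 0 < m) (hB : B ^ m = 1) (f : F[X]) (hcop : IsCoprime f (f.comp (X ^ (m - 1)))) :
    LinearMap.ker (mulVecLin (aeval B f)) ≤ LinearMap.range (mulVecLin (adjG G (aeval B f))) := by
  obtain ⟨a, b, hab⟩ := hcop
  intro v hv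
  rw [LinearMap.mem_ker, mulVecLin_apply] at hv
  have h1 := congrArg (aeval B) hab
  rw [map_add, map_mul, map_mul, map_one, ← adjG_aeval_eq (G := G) B hBs m hm hB] at h1
  refine ⟨aeval B b *ᵥ v, ?_⟩
  rw [mulVecLin_apply, mulVec_mulVec]
  have h2 : adjG G (aeval B f) * aeval B b = aeval B b * adjG G (aeval B f) := by
    rw [adjG_aeval_eq B hBs m hm hB, ← map_mul, ← map_mul, mul_comm]
  rw [h2]
  have h3 := congrArg (· *ᵥ v) h1
  simp only [add_mulVec, one_mulVec, ← mulVec_mulVec, hv, mulVec_zero, zero_add] at h3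
  rw [← mulVec_mulVec]
  exact h3

theorem finrank_ker_leO (B : Matrix ι ι F) (hBs : adjG G B * B = 1) (m : ℕ)
    (hm : 0 < m) (hB : B ^ m = 1) (f : F[X]) (hcop : IsCoprime f (f.comp (X ^ (m - 1)))) :
    2 * Module.finrank F (LinearMap.ker (mulVecLin (aeval B f))) ≤ Fintype.card ι := by
  have h1 := Submodule.finrank_mono (ker_le_rangeO (G := G) B hBs m hm hB f hcop)
  have h2 := finrank_range_adjG (G := G) (aeval B f)
  omega

theorem caseBO [Fintype F] (h2 : (2 : F) ≠ 0) (n : ℕ) (hcard : Fintype.card ι = 2 * n + 1)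
    (r s : ℕ) [Fact r.Prime] [Fact s.Prime] (hr2 : r ≠ 2)
    (hrF : (r : F) ≠ 0) (hsF : (s : F) ≠ 0)
    (Y : Matrix ι ι F) (hYs : adjG G Y * Y = 1) (hY : Y ^ (r * s) = 1)
    (v : ι → F) (hv0 : v ≠ 0)
    (hvr : (∑ i ∈ Finset.range r, (Y ^ s) ^ i) *ᵥ v = 0)
    (hvs : (∑ i ∈ Finset.range s, (Y ^ r) ^ i) *ᵥ v = 0) :
    ∃ D, 0 < D ∧ orderOf ((Fintype.card F : ℕ) : ZMod r) ∣ D ∧
      orderOf ((Fintype.card F : ℕ) : ZMod s) ∣ D ∧
      (D ≤ n ∨ (D ≤ 2 * n ∧ ∃ j, r ∣ Fintype.card F ^ j + 1 ∧ s ∣ Fintype.card F ^ j + 1)) := by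
  classical
  have hr : r.Prime := Fact.out
  have hs : s.Prime := Fact.out
  set Gr : F[X] := ∑ i ∈ Finset.range r, ((X : F[X]) ^ s) ^ i with hGr
  set Gs : F[X] := ∑ i ∈ Finset.range s, ((X : F[X]) ^ r) ^ i with hGs
  have hGrY : aeval Y Gr = ∑ i ∈ Finset.range r, (Y ^ s) ^ i := by rw [hGr, map_sum]; simp
  have hGsY : aeval Y Gs = ∑ i ∈ Finset.range s, (Y ^ r) ^ i := by rw [hGs, map_sum]; simp
  have hGr0 : Gr ≠ 0 := by
    intro h
    have := congrArg (eval 1) h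
    rw [hGr, eval_finsetSum] at this
    simp at this
    exact hrF this
  obtain ⟨f, g, hf, hfd, hw0, hfw⟩ := exists_irr_vec Y Gr hGr0 v hv0 (by rw [hGrY]; exact hvr)
  set w := aeval Y g *ᵥ v with hw
  have hGsw : aeval Y Gs *ᵥ w = 0 := by
    rw [hw, mulVec_mulVec, ← map_mul, mul_comm, map_mul, ← mulVec_mulVec, hGsY, hvs, mulVec_zero]
  have hfd' : f ∣ Gs := by
    by_contra h
    obtain ⟨a, b, hab⟩ := (hf.coprime_iff_not_dvd).mpr h
    have h3 := congrArg (fun Q => aeval Y Q *ᵥ w) hab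
    simp only [map_add, map_mul, map_one, add_mulVec, one_mulVec, ← mulVec_mulVec, hfw, hGsw,
      mulVec_zero, add_zero] at h3
    exact hw0 h3.symm
  set P := aeval Y f with hP
  set KP := LinearMap.ker (mulVecLin P) with hKP
  have memK : ∀ u, u ∈ KP ↔ P *ᵥ u = 0 := by
    intro u; rw [hKP, LinearMap.mem_ker, Matrix.mulVecLin_apply]
  have hPY : ∀ j : ℕ, Commute P (Y ^ j) := fun j =>
    (commute_aeval Y Y (Commute.refl Y) f).pow_right j
  have hKY : ∀ (j : ℕ), ∀ u ∈ KP, (Y ^ j) *ᵥ u ∈ KP := by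
    intro j u hu
    rw [memK] at hu ⊢
    rw [mulVec_mulVec, (hPY j).eq, ← mulVec_mulVec, hu, mulVec_zero]
  have hKr : ∀ u ∈ KP, (∑ i ∈ Finset.range r, (Y ^ s) ^ i) *ᵥ u = 0 := by
    intro u hu
    rw [memK] at hu
    obtain ⟨c, hc⟩ := hfd
    rw [← hGrY, hc, mul_comm, map_mul, ← mulVec_mulVec, hu, mulVec_zero]
  have hKs : ∀ u ∈ KP, (∑ i ∈ Finset.range s, (Y ^ r) ^ i) *ᵥ u = 0 := by
    intro u hu
    rw [memK] at hu
    obtain ⟨c, hc⟩ := hfd'
    rw [← hGsY, hc, mul_comm, map_mul, ← mulVec_mulVec, hu, mulVec_zero]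
  have hd1 : orderOf ((Fintype.card F : ℕ) : ZMod r) ∣ Module.finrank F KP :=
    orderOf_dvd_finrank r (Y ^ s) (by rw [← pow_mul, mul_comm, hY]) KP (hKY s)
      (fun u hu => no_fix r hrF (Y ^ s) u (hKr u hu))
  have hd2 : orderOf ((Fintype.card F : ℕ) : ZMod s) ∣ Module.finrank F KP :=
    orderOf_dvd_finrank s (Y ^ r) (by rw [← pow_mul, hY]) KP (hKY r)
      (fun u hu => no_fix s hsF (Y ^ r) u (hKs u hu))
  have hpos : 0 < Module.finrank F KP := by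
    rw [Module.finrank_pos_iff_exists_ne_zero]
    exact ⟨⟨w, (memK w).mpr hfw⟩, fun h => hw0 (congrArg Subtype.val h)⟩
  have hfrs : f ∣ X ^ (r * s) - 1 := by
    have : Gr * (X ^ s - 1) = X ^ (r * s) - 1 := by
      rw [hGr, geom_sum_mul, ← pow_mul, mul_comm s r]
    rw [← this]
    exact hfd.mul_right _
  have hvec : ∀ m : ℕ, f ∣ X ^ m - 1 → (Y ^ m) *ᵥ w = w := by
    intro m hm
    obtain ⟨c, hc⟩ := hm
    have h1 : aeval Y (X ^ m - 1 : F[X]) *ᵥ w = 0 := by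
      rw [hc, mul_comm, map_mul, ← mulVec_mulVec, hfw, mulVec_zero]
    simp only [map_sub, map_pow, aeval_X, map_one, sub_mulVec, one_mulVec] at h1
    exact sub_eq_zero.mp h1
  have hmul : ∀ m t : ℕ, f ∣ X ^ m - 1 → f ∣ X ^ (m * t) - 1 := by
    intro m t hm
    have : (X ^ m - 1 : F[X]) ∣ (X ^ m) ^ t - 1 ^ t := sub_dvd_pow_sub_pow _ _ _
    rw [one_pow, ← pow_mul] at this
    exact hm.trans this
  have hordr : ∀ m : ℕ, f ∣ X ^ m - 1 → r ∣ m := by
    intro m hm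
    by_contra hnd
    have h1 := dvd_gcd_pow f _ _ (hmul m s hm) hfrs
    rw [Nat.gcd_mul_right, Nat.Coprime.symm ((Nat.Prime.coprime_iff_not_dvd hr).mpr hnd), one_mul] at h1
    exact hw0 (no_fix r hrF (Y ^ s) w (hKr w ((memK w).mpr hfw)) (hvec s h1))
  have hords : ∀ m : ℕ, f ∣ X ^ m - 1 → s ∣ m := by
    intro m hm
    by_contra hnd
    have h1 := dvd_gcd_pow f _ _ (hmul m r hm) (by rw [mul_comm s r]; exact hfrs : f ∣ X ^ (s * r) - 1)
    rw [Nat.gcd_mul_right, Nat.Coprime.symm ((Nat.Prime.coprime_iff_not_dvd hs).mpr hnd), one_mul] at h1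
    exact hw0 (no_fix s hsF (Y ^ r) w (hKs w ((memK w).mpr hfw)) (hvec r h1))
  refine ⟨Module.finrank F KP, hpos, hd1, hd2, ?_⟩
  rcases coprime_or (r * s) (Nat.mul_pos hr.pos hs.pos) f hf hfrs with h | h | ⟨j, -, h⟩
  · left
    have h5 : 2 * Module.finrank F KP ≤ Fintype.card ι :=
      finrank_ker_leO Y hYs (r * s) (Nat.mul_pos hr.pos hs.pos) hY f h
    rw [hcard] at h5
    omega
  · exfalso
    exact hr2 ((Nat.prime_dvd_prime_iff_eq hr Nat.prime_two).mp (hordr 2 h))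
  · right
    refine ⟨?_, j, hordr _ h, hords _ h⟩
    have hYs' : adjG G (Y ^ s) * Y ^ s = 1 := by
      rw [adjG_pow, ← (Commute.mul_pow (show Commute (adjG G Y) Y from by
        rw [Commute, SemiconjBy, hYs, mul_eq_one_comm.mp hYs])), hYs, one_pow]
    have h5 := finrank_W_lt h2 r (hr.odd_of_ne_two hr2) hrF (Y ^ s) hYs'
      (by rw [← pow_mul, mul_comm, hY]) (by rw [hcard]; exact ⟨n, rfl⟩)
    have h6 : KP ≤ LinearMap.ker (mulVecLin (∑ i ∈ Finset.range r, (Y ^ s) ^ i)) := by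
      intro u hu
      rw [LinearMap.mem_ker, Matrix.mulVecLin_apply]
      exact hKr u hu
    have h7 := Submodule.finrank_mono h6
    rw [hcard] at h5
    omega


theorem isom_powG (Y : Matrix ι ι F) (hYs : adjG G Y * Y = 1) (j : ℕ) :
    adjG G (Y ^ j) * Y ^ j = 1 := by
  rw [adjG_pow, ← (Commute.mul_pow (show Commute (adjG G Y) Y from by
    rw [Commute, SemiconjBy, hYs, mul_eq_one_comm.mp hYs])), hYs, one_pow]

theorem upperA [Fintype F] (h2 : (2 : F) ≠ 0) (n : ℕ) (hcard : Fintype.card ι = 2 * n + 1)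
    (r s : ℕ) [Fact r.Prime] [Fact s.Prime] (hr2 : r ≠ 2) (hs2 : s ≠ 2)
    (hrF : (r : F) ≠ 0) (hsF : (s : F) ≠ 0)
    (k l ηk ηl : ℕ) (hk : k = orderOf ((Fintype.card F : ℕ) : ZMod r))
    (hl : l = orderOf ((Fintype.card F : ℕ) : ZMod s))
    (hηk : (Odd k ∧ ηk = k) ∨ (Even k ∧ 2 * ηk = k)) (hηl : (Odd l ∧ ηl = l) ∨ (Even l ∧ 2 * ηl = l))
    (hkl : ηk ≤ ηl)
    (Y : Matrix ι ι F) (hYs : adjG G Y * Y = 1) (hY : ∀ j, Y ^ j = 1 ↔ r * s ∣ j) :
    ηl ≤ n ∧ (ηk + ηl ≤ n ∨ ∃ t, Odd t ∧ l = k * t) := by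
  classical
  have hr : r.Prime := Fact.out
  have hs : s.Prime := Fact.out
  have hYrs : Y ^ (r * s) = 1 := (hY _).mpr dvd_rfl
  have hadjpow : ∀ j : ℕ, adjG G (Y ^ j) * Y ^ j = 1 := isom_powG Y hYs
  have hBr1 : Y ^ s ≠ 1 := by
    intro h
    have h1 := (hY s).mp h
    have h2 : r * s ∣ 1 * s := by rwa [one_mul]
    exact hr.one_lt.ne' (Nat.dvd_one.mp (Nat.dvd_of_mul_dvd_mul_right hs.pos h2))
  have hBs1 : Y ^ r ≠ 1 := by
    intro h
    have h1 := (hY r).mp h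
    have h2 : r * s ∣ r * 1 := by rwa [mul_one]
    exact hs.one_lt.ne' (Nat.dvd_one.mp (Nat.dvd_of_mul_dvd_mul_left hr.pos h2))
  have hdim : Module.finrank F (ι → F) = 2 * n + 1 := by
    rw [Module.finrank_fintype_fun_eq_card, hcard]
  set Wr := LinearMap.ker (Matrix.mulVecLin (∑ i ∈ Finset.range r, (Y ^ s) ^ i)) with hWr
  set Ws := LinearMap.ker (Matrix.mulVecLin (∑ i ∈ Finset.range s, (Y ^ r) ^ i)) with hWs
  have h1 : 2 * ηk ≤ Module.finrank F Wr :=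
    (W_struct r hr2 hrF (Y ^ s) (hadjpow s) (by rw [← pow_mul, mul_comm, hYrs]) hBr1 ηk
      (by rw [← hk]; exact hηk)).1
  have h2' : 2 * ηl ≤ Module.finrank F Ws :=
    (W_struct s hs2 hsF (Y ^ r) (hadjpow r) (by rw [← pow_mul, hYrs]) hBs1 ηl
      (by rw [← hl]; exact hηl)).1
  have h3' : Module.finrank F Ws < Fintype.card ι :=
    finrank_W_lt h2 s (hs.odd_of_ne_two hs2) hsF (Y ^ r) (hadjpow r) (by rw [← pow_mul, hYrs])
      (by rw [hcard]; exact ⟨n, rfl⟩)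
  refine ⟨by omega, ?_⟩
  by_cases hbot : Wr ⊓ Ws = ⊥
  · have h3 := Submodule.finrank_sup_add_finrank_inf_eq Wr Ws
    rw [hbot, finrank_bot, add_zero] at h3
    have h4 := Submodule.finrank_le (Wr ⊔ Ws)
    rw [hdim] at h4
    left
    omega
  · obtain ⟨v, hv, hv0⟩ := Submodule.exists_mem_ne_zero_of_ne_bot hbot
    have hvr : (∑ i ∈ Finset.range r, (Y ^ s) ^ i).mulVec v = 0 := by
      have := hv.1
      rwa [SetLike.mem_coe, hWr, LinearMap.mem_ker, Matrix.mulVecLin_apply] at this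
    have hvs : (∑ i ∈ Finset.range s, (Y ^ r) ^ i).mulVec v = 0 := by
      have := hv.2
      rwa [SetLike.mem_coe, hWs, LinearMap.mem_ker, Matrix.mulVecLin_apply] at this
    obtain ⟨D, hD0, hkD, hlD, hD⟩ := caseBO h2 n hcard r s hr2 hrF hsF Y hYs hYrs v hv0 hvr hvs
    rw [← hk] at hkD
    rw [← hl] at hlD
    rcases hD with hD | ⟨hD, j, hj1, hj2⟩
    · exact arith1 k l ηk ηl n D hηk hηl hkl hD0 hkD hlD hD
    · obtain ⟨a1, a2⟩ := Cfsg.Agent.S2469.of_plus (F := F) r hr hr2 j hj1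
      obtain ⟨b1, b2⟩ := Cfsg.Agent.S2469.of_plus (F := F) s hs hs2 j hj2
      rw [← hk] at a1 a2
      rw [← hl] at b1 b2
      exact arith2 k l ηk ηl n D j hηk hηl hkl hD0 hkD hlD hD a1 a2 b1 b2

end Cfsg.Agent.Lib.Helper42.SpecO
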