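import Mathlib
import Cfsg.Agent.Lib.Helper5.QuadForms

/-!
Counting vectors of norm one: in the standard odd-dimensional quadratic space and in an
isotropic three-dimensional subspace.
-/

set_option autoImplicit false
set_option linter.unusedSectionVars false

namespace Cfsg.Agent.Lib.Helper42.SpecO

open QuadraticMap Cfsg.Agent.Lib.Helper5

variable {F : Type*} [Field F] [Fintype F]

theorem card_sq_eq_one (h2 : (2 : F) ≠ 0) : Nat.card {t : F // t ^ 2 = 1} = 2 := by
  rw [Nat.card_eq_two_iff]
  refine ⟨⟨1, by simp⟩, ⟨-1, by simp⟩, ?_, ?_⟩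
  · intro h
    have h1 : (1 : F) = -1 := congrArg Subtype.val h
    apply h2
    linear_combination h1
  · ext ⟨t, ht⟩
    simp only [Set.mem_insert_iff, Set.mem_singleton_iff, Set.mem_univ, iff_true, Subtype.mk.injEq]
    exact mul_self_eq_one_iff.mp (by rw [← pow_two]; exact ht)

theorem card_sphere_odd (h2 : (2 : F) ≠ 0) (m : ℕ) :
    Nat.card {v : Unit ⊕ (Fin m ⊕ Fin m) → F // Cfsg.quadFormOdd m F v = 1}
      = Fintype.card F ^ (2 * m) + Fintype.card F ^ m := by
  induction m with
  | zero =>
    have e : {v : Unit ⊕ (Fin 0 ⊕ Fin 0) → F // Cfsg.quadFormOdd 0 F v = 1} ≃ {t : F // t ^ 2 = 1} :=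
      { toFun := fun v => ⟨v.1 (.inl ()), by have := v.2; simpa [Cfsg.quadFormOdd] using this⟩
        invFun := fun t => ⟨fun _ => t.1, by simpa [Cfsg.quadFormOdd] using t.2⟩
        left_inv := fun v => by
          apply Subtype.ext
          funext i
          rcases i with _ | i | i
          · rfl
          · exact i.elim0
          · exact i.elim0
        right_inv := fun t => rfl }
    rw [Nat.card_congr e, card_sq_eq_one h2]
    simp
  | succ m ih =>
    rw [card_quad_split (eOdd m) _ _ (quadFormOdd_split m) 1, ih]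
    obtain ⟨k, hk⟩ : ∃ k, Fintype.card F = k + 1 := ⟨Fintype.card F - 1, by
      have := Fintype.card_pos (α := F); omega⟩
    simp only [Fintype.card_sum, Fintype.card_fin, Fintype.card_unit]
    rw [hk]
    simp only [Nat.add_sub_cancel]
    have e1 : 1 + (m + m) = 2 * m + 1 := by ring
    rw [e1]
    ring

theorem count3 {ι : Type*} [Fintype ι] (h2 : (2 : F) ≠ 0) (Q : QuadraticForm F (ι → F))
    (C : Submodule F (ι → F)) (hC : Module.finrank F C = 3) (e x : ι → F) (he : e ∈ C) (hx : x ∈ C)
    (hQe : Q e = 0) (hex : polar Q e x ≠ 0) :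
    ∃ k₀, (k₀ = 0 ∨ k₀ = 2) ∧ Nat.card {v : C // Q (v : ι → F) = 1}
      = Fintype.card F * k₀ + (Fintype.card F - 1) * Fintype.card F := by
  classical
  have hee : polar Q e e = 0 := by rw [polar_self, hQe, smul_zero]
  obtain ⟨x', hx'C, hex'⟩ : ∃ x' ∈ C, polar Q e x' = 1 :=
    ⟨(polar Q e x)⁻¹ • x, C.smul_mem _ hx, by
      rw [polar_smul_right, smul_eq_mul, inv_mul_cancel₀ hex]⟩
  obtain ⟨f, hfC, hef, hQf⟩ : ∃ f ∈ C, polar Q e f = 1 ∧ Q f = 0 := by
    refine ⟨x' + (-(Q x')) • e, C.add_mem hx'C (C.smul_mem _ he), ?_, ?_⟩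
    · rw [polar_add_right, polar_smul_right, hee, hex', smul_zero, add_zero]
    · rw [QuadraticMap.map_add (⇑Q), QuadraticMap.map_smul, hQe, polar_smul_right, polar_comm, hex']
      simp
  have hfe : polar Q f e = 1 := by rw [polar_comm, hef]
  have hff : polar Q f f = 0 := by rw [polar_self, hQf, smul_zero]
  set L : Submodule F (ι → F) :=
    C ⊓ LinearMap.ker (polarBilin Q e) ⊓ LinearMap.ker (polarBilin Q f) with hL
  have memL : ∀ l, l ∈ L ↔ l ∈ C ∧ polar Q e l = 0 ∧ polar Q f l = 0 := by
    intro l
    rw [hL, Submodule.mem_inf, Submodule.mem_inf, LinearMap.mem_ker, LinearMap.mem_ker,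
      polarBilin_apply_apply, polarBilin_apply_apply, and_assoc]
  have hQabl : ∀ (s t : F) (l : ι → F), polar Q e l = 0 → polar Q f l = 0 →
      Q (s • e + t • f + l) = s * t + Q l := by
    intro s t l h1 h3
    rw [QuadraticMap.map_add (⇑Q), QuadraticMap.map_add (⇑Q), QuadraticMap.map_smul, QuadraticMap.map_smul, hQe,
      hQf, polar_add_left, polar_smul_left, polar_smul_left, polar_smul_left, polar_smul_right, h1, h3,
      hef]
    simp
  let E : C ≃ (F × F) × L :=
    { toFun := fun v => ((polar Q f v, polar Q e v),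
        ⟨(v : ι → F) - polar Q f v • e - polar Q e v • f, by
          rw [memL]
          refine ⟨C.sub_mem (C.sub_mem v.2 (C.smul_mem _ he)) (C.smul_mem _ hfC), ?_, ?_⟩
          · rw [polar_sub_right, polar_sub_right, polar_smul_right, polar_smul_right, hee, hef]
            simp
          · rw [polar_sub_right, polar_sub_right, polar_smul_right, polar_smul_right, hff, hfe]
            simp⟩)
      invFun := fun p => ⟨p.1.1 • e + p.1.2 • f + (p.2 : ι → F),
        C.add_mem (C.add_mem (C.smul_mem _ he) (C.smul_mem _ hfC)) ((memL _).mp p.2.2).1⟩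
      left_inv := fun v => by
        apply Subtype.ext
        simp only
        abel
      right_inv := fun p => by
        obtain ⟨⟨s, t⟩, ⟨l, hl⟩⟩ := p
        obtain ⟨-, h1, h3⟩ := (memL l).mp hl
        have e1 : polar Q f (s • e + t • f + l) = s := by
          rw [polar_add_right, polar_add_right, polar_smul_right, polar_smul_right, hfe, hff, h3]
          simp
        have e2 : polar Q e (s • e + t • f + l) = t := by
          rw [polar_add_right, polar_add_right, polar_smul_right, polar_smul_right, hee, hef, h1]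
          simp
        simp only [e1, e2, Prod.mk.injEq, true_and, Subtype.mk.injEq]
        abel }
  have hq1 : 1 < Fintype.card F := Fintype.one_lt_card
  have hcardC : Nat.card C = Fintype.card F ^ 3 := by
    rw [Nat.card_eq_fintype_card, Module.card_eq_pow_finrank (K := F), hC]
  have hcardL : Nat.card L = Fintype.card F := by
    have h1 := Nat.card_congr E
    rw [hcardC, Nat.card_prod, Nat.card_prod, Nat.card_eq_fintype_card (α := F)] at h1
    have h3 : Fintype.card F * Fintype.card F * Fintype.card F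
        = Fintype.card F * Fintype.card F * Nat.card L := by rw [← h1]; ring
    exact (Nat.eq_of_mul_eq_mul_left (by positivity) h3).symm
  have hfinL : Module.finrank F L = 1 := by
    rw [Nat.card_eq_fintype_card, Module.card_eq_pow_finrank (K := F)] at hcardL
    exact Nat.pow_right_injective hq1 (by simpa using hcardL)
  refine ⟨Nat.card {w : L // Q (w : ι → F) = 1}, ?_, ?_⟩
  · by_cases hex1 : ∃ w : L, Q (w : ι → F) = 1
    · right
      obtain ⟨l₀, hl₀⟩ := hex1
      have hl₀0 : l₀ ≠ 0 := by
        rintro rfl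
        simp at hl₀
      have hspan := (finrank_eq_one_iff_of_nonzero' l₀ hl₀0).mp hfinL
      rw [Nat.card_eq_two_iff]
      refine ⟨⟨l₀, hl₀⟩, ⟨-l₀, by simpa using hl₀⟩, ?_, ?_⟩
      · intro h
        have h1 : l₀ = -l₀ := congrArg Subtype.val h
        have h3 : (2 : F) • l₀ = 0 := by
          rw [two_smul]; nth_rewrite 1 [h1]; simp
        exact hl₀0 ((smul_eq_zero.mp h3).resolve_left h2)
      · ext ⟨w, hw⟩
        simp only [Set.mem_insert_iff, Set.mem_singleton_iff, Set.mem_univ, iff_true, Subtype.mk.injEq]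
        obtain ⟨c, rfl⟩ := hspan w
        rw [Submodule.coe_smul, QuadraticMap.map_smul, hl₀, smul_eq_mul, mul_one] at hw
        rcases mul_self_eq_one_iff.mp hw with rfl | rfl
        · left; simp
        · right; simp
    · left
      have : IsEmpty {w : L // Q (w : ι → F) = 1} := ⟨fun w => hex1 ⟨w.1, w.2⟩⟩
      exact Nat.card_of_isEmpty
  · have h1 := card_hyperbolic_ext (fun w : L => Q (w : ι → F)) 1
    rw [hcardL] at h1
    rw [← h1]
    refine Nat.card_congr (Equiv.subtypeEquiv E (fun v => ?_))
    have h3 : (v : ι → F) = (E v).1.1 • e + (E v).1.2 • f + ((E v).2 : ι → F) :=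
      congrArg Subtype.val (E.left_inv v).symm
    obtain ⟨-, h4, h5⟩ := (memL _).mp (E v).2.2
    rw [h3, hQabl _ _ _ h4 h5]

end Cfsg.Agent.Lib.Helper42.SpecO
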