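import Mathlib
import Cfsg.Agent.Lib.Helper42.SpecO3
import Cfsg.Agent.Lib.Helper42.SpecO4
import Cfsg.Agent.Lib.Helper44.Sign
import Cfsg.Agent.Lib.Helper44.Transport
import Cfsg.Agent.Lib.Helper5.POmegaOrder

/-!
`Ω_{2d+3}(q)`, `q` odd, has no element of order `2 r p` for a suitable primitive prime divisor `r`.
-/

set_option autoImplicit false
set_option linter.unusedSectionVars false

namespace Cfsg.Agent.Lib.Helper42.SpecO

open Matrix QuadraticMap
open Cfsg.Agent.Lib.Helper44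

theorem arith_final (q d r k₀ k' X n₁ : ℕ) (hq : Odd q) (hr : r.Prime) (hr2 : r ≠ 2) (hrq : ¬ r ∣ q)
    (hX : X = q ^ (2 * (d + 1)) + q ^ (d + 1)) (hn₁ : n₁ = q * k₀ + (q - 1) * q)
    (hk₀ : k₀ = 0 ∨ k₀ = 2) (h4 : X = n₁ + 2 * k') (hk' : Even k') (hmod : X ≡ n₁ [MOD r])
    (hcase : (q ^ d % 4 = 1 ∧ r ∣ q ^ d + 1) ∨ (q ^ d % 4 = 3 ∧ r ∣ q ^ d - 1)) : False := by
  have : Fact r.Prime := ⟨hr⟩
  have hq1 : 1 ≤ q := hq.pos
  have hqd1 : 1 ≤ q ^ d := Nat.one_le_pow _ _ hq1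
  set y : ZMod r := (q : ZMod r) with hy
  have hy0 : y ≠ 0 := by rw [hy, Ne, ZMod.natCast_eq_zero_iff]; exact hrq
  have h20 : (2 : ZMod r) ≠ 0 := by
    intro h
    have h1 : ((2 : ℕ) : ZMod r) = 0 := by exact_mod_cast h
    rw [ZMod.natCast_eq_zero_iff] at h1
    exact hr2 ((Nat.prime_dvd_prime_iff_eq hr Nat.prime_two).mp h1)
  have hmod' : (X : ZMod r) = (n₁ : ZMod r) := (ZMod.natCast_eq_natCast_iff _ _ _).mpr hmod
  rw [hX, hn₁] at hmod'
  push_cast [Nat.cast_sub hq1] at hmod'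
  rw [← hy] at hmod'
  obtain ⟨k'', hk''⟩ := hk'
  have h4' : ((X : ℕ) : ZMod 4) = (n₁ : ZMod 4) := by
    rw [h4, hk'']
    push_cast
    have : (2 * ((k'' : ZMod 4) + k'')) = 4 * k'' := by ring
    rw [this]
    have h44 : (4 : ZMod 4) = 0 := by decide
    rw [h44]; ring
  rw [hX, hn₁] at h4'
  push_cast [Nat.cast_sub hq1] at h4'
  set w : ZMod 4 := (q : ZMod 4) with hw
  have hw2 : w = 1 ∨ w = 3 := by
    obtain ⟨m, hm⟩ := hq
    have h5 : q % 4 = 1 ∨ q % 4 = 3 := by omega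
    rcases h5 with h | h
    · left
      rw [hw, ← ZMod.natCast_mod, h]; rfl
    · right
      rw [hw, ← ZMod.natCast_mod, h]; rfl
  rcases hcase with ⟨hc4, hcr⟩ | ⟨hc4, hcr⟩
  · have hyd : y ^ d = -1 := by
      rw [← ZMod.natCast_eq_zero_iff] at hcr
      push_cast at hcr
      exact eq_neg_of_add_eq_zero_left hcr
    have hwd : w ^ d = 1 := by
      have : ((q ^ d : ℕ) : ZMod 4) = 1 := by rw [← ZMod.natCast_mod, hc4]; rfl
      push_cast at this
      exact this
    have e1 : y ^ (2 * (d + 1)) = y ^ 2 * (y ^ d) ^ 2 := by ring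
    have e2 : y ^ (d + 1) = y * y ^ d := by ring
    rw [e1, e2, hyd] at hmod'
    have h6 : y * (k₀ : ZMod r) = 0 := by linear_combination -hmod'
    have h7 : (k₀ : ZMod r) = 0 := (mul_eq_zero.mp h6).resolve_left hy0
    have hk0 : k₀ = 0 := by
      rcases hk₀ with h | h
      · exact h
      · rw [h] at h7; exact absurd (by exact_mod_cast h7) h20
    have e3 : w ^ (2 * (d + 1)) = w ^ 2 * (w ^ d) ^ 2 := by ring
    have e4 : w ^ (d + 1) = w * w ^ d := by ring
    rw [e3, e4, hwd, hk0] at h4'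
    rcases hw2 with h | h <;> rw [h] at h4' <;> revert h4' <;> decide
  · have hyd : y ^ d = 1 := by
      rw [← ZMod.natCast_eq_zero_iff, Nat.cast_sub hqd1] at hcr
      push_cast at hcr
      exact sub_eq_zero.mp hcr
    have hwd : w ^ d = 3 := by
      have : ((q ^ d : ℕ) : ZMod 4) = 3 := by rw [← ZMod.natCast_mod, hc4]; rfl
      push_cast at this
      exact this
    have e1 : y ^ (2 * (d + 1)) = y ^ 2 * (y ^ d) ^ 2 := by ring
    have e2 : y ^ (d + 1) = y * y ^ d := by ring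
    rw [e1, e2, hyd] at hmod'
    have h6 : y * ((k₀ : ZMod r) - 2) = 0 := by linear_combination -hmod'
    have h7 : (k₀ : ZMod r) - 2 = 0 := (mul_eq_zero.mp h6).resolve_left hy0
    have hk0 : k₀ = 2 := by
      rcases hk₀ with h | h
      · rw [h] at h7
        exfalso
        apply h20
        push_cast at h7
        linear_combination -h7
      · exact h
    have e3 : w ^ (2 * (d + 1)) = w ^ 2 * (w ^ d) ^ 2 := by ring
    have e4 : w ^ (d + 1) = w * w ^ d := by ring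
    rw [e3, e4, hwd, hk0] at h4'
    rcases hw2 with h | h <;> rw [h] at h4' <;> revert h4' <;> decide

variable {F : Type*} [Field F] {ι : Type} [Fintype ι] [DecidableEq ι]

/-- the Gram matrix of the polar form -/
noncomputable def gram (Q : QuadraticForm F (ι → F)) : Matrix ι ι F :=
  LinearMap.BilinForm.toMatrix' (polarBilin Q)

theorem polar_eq_gram (Q : QuadraticForm F (ι → F)) (x y : ι → F) :
    polar Q x y = x ⬝ᵥ gram Q *ᵥ y := by
  rw [← Matrix.toBilin'_apply', gram, Matrix.toBilin'_toMatrix', polarBilin_apply_apply]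

theorem gram_transpose (Q : QuadraticForm F (ι → F)) : (gram Q)ᵀ = gram Q := by
  ext i j
  rw [transpose_apply, gram, LinearMap.BilinForm.toMatrix'_apply, LinearMap.BilinForm.toMatrix'_apply,
    polarBilin_apply_apply, polarBilin_apply_apply, polar_comm]

theorem gram_det (Q : QuadraticForm F (ι → F)) (hQ : (polarBilin Q).Nondegenerate) :
    IsUnit (gram Q).det := by
  rw [isUnit_iff_ne_zero, ← LinearMap.BilinForm.nondegenerate_toBilin'_iff_det_ne_zero, gram,
    Matrix.toBilin'_toMatrix']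
  exact hQ

theorem isom_of_Q (Q : QuadraticForm F (ι → F)) [hG : Fact (IsUnit (gram Q).det)]
    [hGs : Fact ((gram Q)ᵀ = gram Q)] (A : Matrix ι ι F) (hA : ∀ v, Q (A *ᵥ v) = Q v) :
    adjG (gram Q) A * A = 1 := by
  have hpol : ∀ x y, polar Q (A *ᵥ x) (A *ᵥ y) = polar Q x y := by
    intro x y
    simp only [polar, ← mulVec_add, hA]
  apply Matrix.toLin'.injective
  apply LinearMap.ext
  intro x
  rw [Matrix.toLin'_apply, Matrix.toLin'_one, LinearMap.id_apply]
  apply dotProduct_eq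
  intro w
  have h1 := hpol x ((gram Q)⁻¹ *ᵥ w)
  rw [polar_eq_gram, polar_eq_gram, form_adj, mulVec_mulVec, mulVec_mulVec, GGi, one_mulVec] at h1
  exact h1

theorem isom_pow {G : Matrix ι ι F} [hG : Fact (IsUnit G.det)] [hGs : Fact (Gᵀ = G)]
    (A : Matrix ι ι F) (hA : adjG G A * A = 1) (k : ℕ) : adjG G (A ^ k) * A ^ k = 1 := by
  have hc : Commute (adjG G A) A := by
    rw [Commute, SemiconjBy, hA, mul_eq_one_comm.mp hA]
  rw [adjG_pow, ← hc.mul_pow, hA, one_pow]

theorem no_elt [Fintype F] (p : ℕ) [Fact p.Prime] [CharP F p] (h2 : (2 : F) ≠ 0)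
    (Q : QuadraticForm F (ι → F)) (hQ : (polarBilin Q).Nondegenerate)
    (d : ℕ) (hd : 2 ≤ d) (hcard : Fintype.card ι = 2 * d + 3)
    (hS : Nat.card {v : ι → F // Q v = 1}
      = Fintype.card F ^ (2 * (d + 1)) + Fintype.card F ^ (d + 1))
    (r : ℕ) [Fact r.Prime] (hr2 : r ≠ 2) (hrp : r ≠ p)
    (hcase : (Fintype.card F ^ d % 4 = 1 ∧ r ∣ Fintype.card F ^ d + 1 ∧
        orderOf ((Fintype.card F : ℕ) : ZMod r) = 2 * d) ∨
      (Fintype.card F ^ d % 4 = 3 ∧ r ∣ Fintype.card F ^ d - 1 ∧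
        orderOf ((Fintype.card F : ℕ) : ZMod r) = d ∧ Odd d))
    (g : ↥(Cfsg.isometryGroup F ⇑Q)) (hg : g ∈ Cfsg.Omega F ⇑Q) (hord : orderOf g = 2 * r * p) :
    False := by
  classical
  have hp : p.Prime := Fact.out
  have hr : r.Prime := Fact.out
  have hp2 : p ≠ 2 := by
    rintro rfl
    apply h2
    exact_mod_cast CharP.cast_eq_zero F 2
  have hrF : (r : F) ≠ 0 := by
    rw [Ne, CharP.cast_eq_zero_iff F p]
    intro h
    exact hrp ((Nat.prime_dvd_prime_iff_eq hp hr).mp h).symm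
  obtain ⟨f, hf⟩ : ∃ f, Fintype.card F = p ^ f := by
    obtain ⟨⟨f, _⟩, _, hf⟩ := FiniteField.card F p
    exact ⟨f, hf⟩
  have hrq : ¬ r ∣ Fintype.card F := by
    intro h
    rw [hf] at h
    exact hrp ((Nat.prime_dvd_prime_iff_eq hr hp).mp (hr.dvd_of_dvd_pow h))
  have hqodd : Odd (Fintype.card F) := by
    rw [hf]; exact (hp.odd_of_ne_two hp2).pow
  have : Nonempty ι := by rw [← Fintype.card_pos_iff, hcard]; omega
  have : Fact (IsUnit (gram Q).det) := ⟨gram_det Q hQ⟩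
  have : Fact ((gram Q)ᵀ = gram Q) := ⟨gram_transpose Q⟩
  set A : Matrix ι ι F := ((g : GL ι F) : Matrix ι ι F) with hA
  have hcoe : ∀ k : ℕ, (((g ^ k : ↥(Cfsg.isometryGroup F ⇑Q)) : GL ι F) : Matrix ι ι F) = A ^ k := by
    intro k; simp [hA]
  have hApow : ∀ k, A ^ k = 1 ↔ 2 * r * p ∣ k := by
    intro k
    rw [← hord, orderOf_dvd_iff_pow_eq_one, ← hcoe]
    constructor
    · intro h
      apply Subtype.ext
      apply Units.ext
      exact h
    · intro h
      rw [h]; rfl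
  have hAQ : ∀ v, Q (A *ᵥ v) = Q v := mem_isometryGroup.mp g.2
  have hAs : adjG (gram Q) A * A = 1 := isom_of_Q Q A hAQ
  set z := A ^ (r * p) with hz'
  set b := A ^ (2 * p) with hb'
  set u := A ^ (2 * r) with hu'
  have hrpos := hr.pos
  have hppos := hp.pos
  have hr1 := hr.one_lt
  have hp1 := hp.one_lt
  have hz : z * z = 1 := by
    rw [hz', ← pow_add, hApow]; exact ⟨1, by ring⟩
  have hz1 : z ≠ 1 := by
    intro h
    have h1 := Nat.le_of_dvd (by positivity) ((hApow _).mp h)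
    have : 0 < r * p := by positivity
    nlinarith
  have hb : b ^ r = 1 := by
    rw [hb', ← pow_mul, hApow]; exact ⟨1, by ring⟩
  have hb1 : b ≠ 1 := by
    intro h
    have h1 := Nat.le_of_dvd (by positivity) ((hApow _).mp h)
    nlinarith
  have hup : u ^ p = 1 := by
    rw [hu', ← pow_mul, hApow]
  have hu1 : u ≠ 1 := by
    intro h
    have h1 := Nat.le_of_dvd (by positivity) ((hApow _).mp h)
    nlinarith
  have hN : IsNilpotent (u - 1) :=
    ⟨p, by rw [sub_pow_char_of_commute p (Commute.one_right u), hup, one_pow, sub_self]⟩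
  have hzdet : z.det = 1 := by
    rw [hz', det_pow, hA, Cfsg.Agent.Lib.Helper5.det_eq_one_of_mem_Omega _ g hg, one_pow]
  have hη : (Odd (orderOf ((Fintype.card F : ℕ) : ZMod r)) ∧ d = orderOf ((Fintype.card F : ℕ) : ZMod r)) ∨
      (Even (orderOf ((Fintype.card F : ℕ) : ZMod r)) ∧
        2 * d = orderOf ((Fintype.card F : ℕ) : ZMod r)) := by
    rcases hcase with ⟨-, -, h⟩ | ⟨-, -, h, ho⟩
    · right; rw [h]; exact ⟨even_two_mul d, rfl⟩
    · left; rw [h]; exact ⟨ho, rfl⟩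
  obtain ⟨hfixzb, hfin, e, he0, hbe, hee⟩ := structure_thm (G := gram Q) h2 r hr2 hrF d hd hcard hη z b u
    (isom_pow A hAs _) (isom_pow A hAs _) (isom_pow A hAs _) ((Commute.refl A).pow_pow _ _)
    ((Commute.refl A).pow_pow _ _) ((Commute.refl A).pow_pow _ _) hz hz1 hzdet hb hb1 hN hu1
  set C := LinearMap.ker (mulVecLin (b - 1)) with hC
  have memC : ∀ v, v ∈ C ↔ b *ᵥ v = v := by
    intro v
    rw [hC, LinearMap.mem_ker, mulVecLin_apply, sub_mulVec, one_mulVec, sub_eq_zero]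
  have hQe : Q e = 0 := by
    have h1 : polar Q e e = 0 := by rw [polar_eq_gram]; exact hee
    rw [polar_self, two_smul, ← two_mul] at h1
    exact (mul_eq_zero.mp h1).resolve_left h2
  obtain ⟨x₀, hx₀⟩ : ∃ x₀, polar Q e x₀ ≠ 0 := by
    by_contra hcon
    push Not at hcon
    apply he0
    apply dotProduct_eq_zero
    intro w
    have h1 := hcon ((gram Q)⁻¹ *ᵥ w)
    rwa [polar_eq_gram, mulVec_mulVec, GGi, one_mulVec] at h1
  obtain ⟨hTb, hbT, -⟩ := geom_facts (F := F) r b hb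
  set T := ∑ i ∈ Finset.range r, b ^ i with hT
  have hTe : T *ᵥ e = (r : F) • e := by
    have h1 : ∀ i : ℕ, (b ^ i) *ᵥ e = e := by
      intro i
      induction i with
      | zero => simp
      | succ i ih => rw [pow_succ, ← Matrix.mulVec_mulVec, hbe, ih]
    rw [hT, Matrix.sum_mulVec]
    simp only [h1, Finset.sum_const, Finset.card_range]
    rw [Nat.cast_smul_eq_nsmul]
  have hexT : polar Q e (T *ᵥ x₀) ≠ 0 := by
    rw [polar_eq_gram, form_adj, hT, adjG_geom r hrF b (isom_pow A hAs _) hb, ← hT, hTe,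
      smul_dotProduct, ← polar_eq_gram, smul_eq_mul]
    exact mul_ne_zero hrF hx₀
  obtain ⟨k₀, hk₀, hcount⟩ := count3 h2 Q C hfin e (T *ᵥ x₀) ((memC e).mpr hbe)
    ((memC _).mpr (by rw [mulVec_mulVec, hbT])) hQe hexT
  -- the action on the sphere
  let φ : ↥(Cfsg.isometryGroup F ⇑Q) →* Equiv.Perm {x : ι → F // Q x = 1} :=
    (spherePerm Q 1).comp (isoEquiv Q).toMonoidHom
  have hφ : ∀ (h : ↥(Cfsg.isometryGroup F ⇑Q)) (x : {x : ι → F // Q x = 1}),
      ((φ h x : {x : ι → F // Q x = 1}) : ι → F) = ((h : GL ι F) : Matrix ι ι F) *ᵥ x.1 := by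
    intro h x
    exact isoEquiv_apply Q h x.1
  let _ : Fintype {x : ι → F // Q x = 1} := Fintype.ofFinite _
  set n₁ := Nat.card {x : {x : ι → F // Q x = 1} // b *ᵥ x.1 = x.1} with hn₁
  have hn₁' : n₁ = Nat.card {v : C // Q (v : ι → F) = 1} := by
    refine Nat.card_congr ⟨fun x => ⟨⟨x.1.1, (memC _).mpr x.2⟩, x.1.2⟩,
      fun v => ⟨⟨v.1.1, v.2⟩, (memC _).mp v.1.2⟩, fun _ => rfl, fun _ => rfl⟩
  set σz := φ (g ^ (r * p)) with hσz
  set σb := φ (g ^ (2 * p)) with hσb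
  have hσz2 : σz ^ 2 = 1 := by
    rw [hσz, ← map_pow, ← pow_mul]
    have : g ^ (r * p * 2) = 1 := by
      rw [← orderOf_dvd_iff_pow_eq_one, hord]; exact ⟨1, by ring⟩
    rw [this, map_one]
  have hσbr : σb ^ r ^ 1 = 1 := by
    rw [hσb, pow_one, ← map_pow, ← pow_mul]
    have : g ^ (2 * p * r) = 1 := by
      rw [← orderOf_dvd_iff_pow_eq_one, hord]; exact ⟨1, by ring⟩
    rw [this, map_one]
  have hs : Equiv.Perm.sign σz = 1 := by
    have h1 := Abelianization.commutator_subset_ker (Equiv.Perm.sign.comp φ)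
      ((Cfsg.Omega F ⇑Q).pow_mem hg (r * p))
    rwa [MonoidHom.mem_ker] at h1
  obtain ⟨k', hk1, hk2⟩ := sign_involution hσz2
  have hk'even : Even k' := by
    rw [hs] at hk2
    exact (neg_one_pow_eq_one_iff_even (by decide : (-1 : ℤˣ) ≠ 1)).mp hk2.symm
  have hfz : Nat.card (Function.fixedPoints σz) = n₁ := by
    refine Nat.card_congr (Equiv.subtypeEquivRight (fun x => ?_))
    rw [Function.mem_fixedPoints, Function.IsFixedPt, Subtype.ext_iff, hσz, hφ, hcoe, ← hz', hfixzb]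
  have hfb : σb.supportᶜ.card = n₁ := by
    rw [hn₁, Nat.card_eq_fintype_card, Fintype.card_subtype]
    congr 1
    ext x
    rw [Finset.mem_compl, Equiv.Perm.mem_support, not_not, Finset.mem_filter, Subtype.ext_iff, hσb, hφ,
      hcoe, ← hb']
    simp
  have hmod := Equiv.Perm.card_compl_support_modEq hσbr
  rw [hfb, ← Nat.card_eq_fintype_card] at hmod
  rw [hfz] at hk1
  refine arith_final (Fintype.card F) d r k₀ k' _ n₁ hqodd hr hr2 hrq hS (by rw [hn₁', hcount]) hk₀ hk1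
    hk'even hmod.symm ?_
  rcases hcase with ⟨h1, h3, -⟩ | ⟨h1, h3, -, -⟩
  · exact Or.inl ⟨h1, h3⟩
  · exact Or.inr ⟨h1, h3⟩

end Cfsg.Agent.Lib.Helper42.SpecO
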