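import Mathlib
import Cfsg.Agent.Lib.Helper42.SpecO5
import Cfsg.Agent.Lib.Helper42.SpecO10

/-!
Odd-dimensional orthogonal groups: upper bounds for the prime graph, on the level of groups.
-/

set_option autoImplicit false
set_option linter.unusedSectionVars false

namespace Cfsg.Agent.Lib.Helper42.SpecO

open Matrix QuadraticMap
open Cfsg.Agent.Lib.Helper44

theorem arith_D (q n r k₀ k' X : ℕ) (hq : Odd q) (hr : r.Prime) (hr2 : r ≠ 2)
    (hX : X = q ^ (2 * n) + q ^ n) (hk₀ : k₀ = 0 ∨ k₀ = 2) (h4 : X = k₀ + 2 * k') (hk' : Even k')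
    (hmod : X ≡ k₀ [MOD r]) :
    (r ∣ q ^ n + 1 → q ^ n % 4 = 3) ∧ (r ∣ q ^ n - 1 → q ^ n % 4 = 1) := by
  have : Fact r.Prime := ⟨hr⟩
  have hy : Odd (q ^ n) := hq.pow
  have hy1 : 1 ≤ q ^ n := hy.pos
  have hX' : X = q ^ n * q ^ n + q ^ n := by rw [hX, two_mul, pow_add]
  generalize q ^ n = y at hy hy1 hX'
  have h20 : (2 : ZMod r) ≠ 0 := by
    intro h
    have h1 : ((2 : ℕ) : ZMod r) = 0 := by exact_mod_cast h
    rw [ZMod.natCast_eq_zero_iff] at h1
    exact hr2 ((Nat.prime_dvd_prime_iff_eq hr Nat.prime_two).mp h1)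
  have hmod' : (X : ZMod r) = (k₀ : ZMod r) := (ZMod.natCast_eq_natCast_iff _ _ _).mpr hmod
  rw [hX'] at hmod'
  push_cast at hmod'
  obtain ⟨k'', hk''⟩ := hk'
  have h5 : y % 4 = 1 ∨ y % 4 = 3 := by obtain ⟨m, hm⟩ := hy; omega
  constructor
  · intro hd
    rw [← ZMod.natCast_eq_zero_iff] at hd
    push_cast at hd
    have h6 : (k₀ : ZMod r) = 0 := by
      rw [← hmod']; linear_combination (y : ZMod r) * hd
    have hk0 : k₀ = 0 := by
      rcases hk₀ with h | h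
      · exact h
      · rw [h] at h6; exact absurd (by exact_mod_cast h6) h20
    rcases h5 with h5 | h5
    · exfalso
      obtain ⟨a, ha⟩ : ∃ a, y = 4 * a + 1 := ⟨y / 4, by omega⟩
      have h7 : y * y + y = 4 * (4 * a * a + 3 * a) + 2 := by rw [ha]; ring
      omega
    · exact h5
  · intro hd
    rw [← ZMod.natCast_eq_zero_iff, Nat.cast_sub hy1] at hd
    push_cast at hd
    have h6 : (k₀ : ZMod r) = 2 := by
      rw [← hmod']; linear_combination ((y : ZMod r) + 2) * hd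
    have hk0 : k₀ = 2 := by
      rcases hk₀ with h | h
      · rw [h] at h6; exact absurd (by exact_mod_cast h6.symm) h20
      · exact h
    rcases h5 with h5 | h5
    · exact h5
    · exfalso
      obtain ⟨a, ha⟩ : ∃ a, y = 4 * a + 3 := ⟨y / 4, by omega⟩
      have h7 : y * y + y = 4 * (4 * a * a + 7 * a + 3) := by rw [ha]; ring
      omega

variable {F : Type*} [Field F] {ι : Type} [Fintype ι] [DecidableEq ι]

theorem count1 (h2 : (2 : F) ≠ 0) (Q : QuadraticForm F (ι → F))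
    (L : Submodule F (ι → F)) (hfinL : Module.finrank F L = 1) :
    Nat.card {w : L // Q (w : ι → F) = 1} = 0 ∨ Nat.card {w : L // Q (w : ι → F) = 1} = 2 := by
  by_cases hex1 : ∃ w : L, Q (w : ι → F) = 1
  · right
    obtain ⟨l₀, hl₀⟩ := hex1
    have hl₀0 : l₀ ≠ 0 := by
      rintro rfl
      simp at hl₀
    have hspan := (finrank_eq_one_iff_of_nonzero' l₀ hl₀0).mp hfinL
    rw [Nat.card_eq_two_iff]
    refine ⟨⟨l₀, hl₀⟩, ⟨-l₀, by simpa using hl₀⟩, ?_, ?_⟩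
    · intro h
      have h1 : l₀ = -l₀ := congrArg Subtype.val h
      have h3 : (2 : F) • l₀ = 0 := by
        rw [two_smul]; nth_rewrite 1 [h1]; simp
      exact hl₀0 ((smul_eq_zero.mp h3).resolve_left h2)
    · ext ⟨w, hw⟩
      simp only [Set.mem_insert_iff, Set.mem_singleton_iff, Set.mem_univ, iff_true, Subtype.mk.injEq]
      obtain ⟨c, rfl⟩ := hspan w
      rw [Submodule.coe_smul, QuadraticMap.map_smul, hl₀, smul_eq_mul, mul_one] at hw
      rcases mul_self_eq_one_iff.mp hw with rfl | rfl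
      · left; simp
      · right; simp
  · left
    have : IsEmpty {w : L // Q (w : ι → F) = 1} := ⟨fun w => hex1 ⟨w.1, w.2⟩⟩
    exact Nat.card_of_isEmpty

theorem mat_of_isom (Q : QuadraticForm F (ι → F)) [hG : Fact (IsUnit (gram Q).det)]
    [hGs : Fact ((gram Q)ᵀ = gram Q)] (g : ↥(Cfsg.isometryGroup F ⇑Q)) :
    adjG (gram Q) ((g : GL ι F) : Matrix ι ι F) * ((g : GL ι F) : Matrix ι ι F) = 1 ∧
    (∀ k : ℕ, (((g ^ k : ↥(Cfsg.isometryGroup F ⇑Q)) : GL ι F) : Matrix ι ι F)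
      = ((g : GL ι F) : Matrix ι ι F) ^ k) ∧
    ∀ k : ℕ, ((g : GL ι F) : Matrix ι ι F) ^ k = 1 ↔ orderOf g ∣ k := by
  have hcoe : ∀ k : ℕ, (((g ^ k : ↥(Cfsg.isometryGroup F ⇑Q)) : GL ι F) : Matrix ι ι F)
      = ((g : GL ι F) : Matrix ι ι F) ^ k := by
    intro k; simp
  refine ⟨isom_of_Q Q _ (mem_isometryGroup.mp g.2), hcoe, ?_⟩
  intro k
  rw [orderOf_dvd_iff_pow_eq_one, ← hcoe]
  constructor
  · intro h
    apply Subtype.ext
    apply Units.ext
    exact h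
  · intro h
    rw [h]; rfl

theorem upperA_grp [Fintype F] (h2 : (2 : F) ≠ 0)
    (Q : QuadraticForm F (ι → F)) (hQ : (polarBilin Q).Nondegenerate)
    (n : ℕ) (hcard : Fintype.card ι = 2 * n + 1)
    (r s : ℕ) [Fact r.Prime] [Fact s.Prime] (hr2 : r ≠ 2) (hs2 : s ≠ 2)
    (hrF : (r : F) ≠ 0) (hsF : (s : F) ≠ 0)
    (k l ηk ηl : ℕ) (hk : k = orderOf ((Fintype.card F : ℕ) : ZMod r))
    (hl : l = orderOf ((Fintype.card F : ℕ) : ZMod s))
    (hηk : (Odd k ∧ ηk = k) ∨ (Even k ∧ 2 * ηk = k)) (hηl : (Odd l ∧ ηl = l) ∨ (Even l ∧ 2 * ηl = l))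
    (hkl : ηk ≤ ηl)
    (g : ↥(Cfsg.isometryGroup F ⇑Q)) (hord : orderOf g = r * s) :
    ηl ≤ n ∧ (ηk + ηl ≤ n ∨ ∃ t, Odd t ∧ l = k * t) := by
  have : Fact (IsUnit (gram Q).det) := ⟨gram_det Q hQ⟩
  have : Fact ((gram Q)ᵀ = gram Q) := ⟨gram_transpose Q⟩
  obtain ⟨h1, -, h3⟩ := mat_of_isom Q g
  rw [hord] at h3
  exact upperA (G := gram Q) h2 n hcard r s hr2 hs2 hrF hsF k l ηk ηl hk hl hηk hηl hkl _ h1 h3

theorem upperB_grp [Fintype F] (p : ℕ) [Fact p.Prime] [CharP F p] (h2 : (2 : F) ≠ 0)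
    (Q : QuadraticForm F (ι → F)) (hQ : (polarBilin Q).Nondegenerate)
    (n : ℕ) (hcard : Fintype.card ι = 2 * n + 1)
    (r : ℕ) [Fact r.Prime] (hr2 : r ≠ 2) (hrF : (r : F) ≠ 0) (η : ℕ)
    (hη : (Odd (orderOf ((Fintype.card F : ℕ) : ZMod r)) ∧ η = orderOf ((Fintype.card F : ℕ) : ZMod r)) ∨
      (Even (orderOf ((Fintype.card F : ℕ) : ZMod r)) ∧ 2 * η = orderOf ((Fintype.card F : ℕ) : ZMod r)))
    (g : ↥(Cfsg.isometryGroup F ⇑Q)) (hord : orderOf g = r * p) : η + 1 ≤ n := by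
  have hp : p.Prime := Fact.out
  have hr : r.Prime := Fact.out
  have : Fact (IsUnit (gram Q).det) := ⟨gram_det Q hQ⟩
  have : Fact ((gram Q)ᵀ = gram Q) := ⟨gram_transpose Q⟩
  have : Nonempty ι := by rw [← Fintype.card_pos_iff, hcard]; omega
  obtain ⟨hAs, -, hApow⟩ := mat_of_isom Q g
  rw [hord] at hApow
  set A : Matrix ι ι F := ((g : GL ι F) : Matrix ι ι F) with hA
  have hrpos := hr.pos
  have hppos := hp.pos
  have hr1 := hr.one_lt
  have hp1 := hp.one_lt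
  have hb : (A ^ p) ^ r = 1 := by
    rw [← pow_mul, hApow]; exact ⟨1, by ring⟩
  have hb1 : A ^ p ≠ 1 := by
    intro h
    have h1 := Nat.le_of_dvd (by positivity) ((hApow _).mp h)
    nlinarith
  have hup : (A ^ r) ^ p = 1 := by
    rw [← pow_mul, hApow]
  have hu1 : A ^ r ≠ 1 := by
    intro h
    have h1 := Nat.le_of_dvd (by positivity) ((hApow _).mp h)
    nlinarith
  have hN : IsNilpotent (A ^ r - 1) :=
    ⟨p, by rw [sub_pow_char_of_commute p (Commute.one_right _), hup, one_pow, sub_self]⟩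
  exact upperB (G := gram Q) h2 r hr2 hrF n η hcard hη (A ^ p) (A ^ r) (isom_pow A hAs _)
    (isom_pow A hAs _) ((Commute.refl A).pow_pow _ _) hb hb1 hN hu1

theorem upperD_grp [Fintype F] (h2 : (2 : F) ≠ 0) (hqodd : Odd (Fintype.card F))
    (Q : QuadraticForm F (ι → F)) (hQ : (polarBilin Q).Nondegenerate)
    (n : ℕ) (hn : 1 ≤ n) (hcard : Fintype.card ι = 2 * n + 1)
    (hS : Nat.card {v : ι → F // Q v = 1} = Fintype.card F ^ (2 * n) + Fintype.card F ^ n)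
    (r : ℕ) [Fact r.Prime] (hr2 : r ≠ 2) (hrF : (r : F) ≠ 0) (η : ℕ)
    (hη : (Odd (orderOf ((Fintype.card F : ℕ) : ZMod r)) ∧ η = orderOf ((Fintype.card F : ℕ) : ZMod r)) ∨
      (Even (orderOf ((Fintype.card F : ℕ) : ZMod r)) ∧ 2 * η = orderOf ((Fintype.card F : ℕ) : ZMod r)))
    (g : ↥(Cfsg.isometryGroup F ⇑Q)) (hg : g ∈ Cfsg.Omega F ⇑Q) (hord : orderOf g = 2 * r) :
    η + 1 ≤ n ∨ (η = n ∧ (r ∣ Fintype.card F ^ n + 1 → Fintype.card F ^ n % 4 = 3) ∧
      (r ∣ Fintype.card F ^ n - 1 → Fintype.card F ^ n % 4 = 1)) := by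
  classical
  have hr : r.Prime := Fact.out
  have : Fact (IsUnit (gram Q).det) := ⟨gram_det Q hQ⟩
  have : Fact ((gram Q)ᵀ = gram Q) := ⟨gram_transpose Q⟩
  obtain ⟨hAs, hcoe, hApow⟩ := mat_of_isom Q g
  rw [hord] at hApow
  set A : Matrix ι ι F := ((g : GL ι F) : Matrix ι ι F) with hA
  set z := A ^ r with hz'
  set b := A ^ 2 with hb'
  have hrpos := hr.pos
  have hr1 := hr.one_lt
  have hz : z * z = 1 := by
    rw [hz', ← pow_add, hApow]; exact ⟨1, by ring⟩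
  have hz1 : z ≠ 1 := by
    intro h
    have h1 := Nat.le_of_dvd (by positivity) ((hApow _).mp h)
    omega
  have hb : b ^ r = 1 := by
    rw [hb', ← pow_mul, hApow]
  have hb1 : b ≠ 1 := by
    intro h
    have h1 := Nat.le_of_dvd (by positivity) ((hApow _).mp h)
    omega
  have hzdet : z.det = 1 := by
    rw [hz', det_pow, hA, Cfsg.Agent.Lib.Helper5.det_eq_one_of_mem_Omega _ g hg, one_pow]
  have hbs : adjG (gram Q) b * b = 1 := isom_pow A hAs _
  have hW1 := (W_struct r hr2 hrF b hbs hb hb1 η hη).1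
  have hW2 := finrank_W_lt h2 r (hr.odd_of_ne_two hr2) hrF b hbs hb (by rw [hcard]; exact ⟨n, rfl⟩)
  by_cases hηn : η + 1 ≤ n
  · exact Or.inl hηn
  right
  have hηn' : η = n := by omega
  subst hηn'
  refine ⟨rfl, ?_⟩
  obtain ⟨hfixzb, hfin⟩ := structure_one (G := gram Q) h2 r hr2 hrF η hn hcard hη z b
    (isom_pow A hAs _) hbs ((Commute.refl A).pow_pow _ _) hz hz1 hzdet hb hb1
  set C := LinearMap.ker (mulVecLin (b - 1)) with hC
  have memC : ∀ v, v ∈ C ↔ b *ᵥ v = v := by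
    intro v
    rw [hC, LinearMap.mem_ker, mulVecLin_apply, sub_mulVec, one_mulVec, sub_eq_zero]
  -- the action on the sphere
  let φ : ↥(Cfsg.isometryGroup F ⇑Q) →* Equiv.Perm {x : ι → F // Q x = 1} :=
    (spherePerm Q 1).comp (isoEquiv Q).toMonoidHom
  have hφ : ∀ (h : ↥(Cfsg.isometryGroup F ⇑Q)) (x : {x : ι → F // Q x = 1}),
      ((φ h x : {x : ι → F // Q x = 1}) : ι → F) = ((h : GL ι F) : Matrix ι ι F) *ᵥ x.1 := by
    intro h x
    exact isoEquiv_apply Q h x.1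
  let _ : Fintype {x : ι → F // Q x = 1} := Fintype.ofFinite _
  set n₁ := Nat.card {x : {x : ι → F // Q x = 1} // b *ᵥ x.1 = x.1} with hn₁
  have hn₁' : n₁ = Nat.card {v : C // Q (v : ι → F) = 1} := by
    refine Nat.card_congr ⟨fun x => ⟨⟨x.1.1, (memC _).mpr x.2⟩, x.1.2⟩,
      fun v => ⟨⟨v.1.1, v.2⟩, (memC _).mp v.1.2⟩, fun _ => rfl, fun _ => rfl⟩
  set σz := φ (g ^ r) with hσz
  set σb := φ (g ^ 2) with hσb
  have hσz2 : σz ^ 2 = 1 := by
    rw [hσz, ← map_pow, ← pow_mul]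
    have : g ^ (r * 2) = 1 := by
      rw [← orderOf_dvd_iff_pow_eq_one, hord]; exact ⟨1, by ring⟩
    rw [this, map_one]
  have hσbr : σb ^ r ^ 1 = 1 := by
    rw [hσb, pow_one, ← map_pow, ← pow_mul]
    have : g ^ (2 * r) = 1 := by
      rw [← orderOf_dvd_iff_pow_eq_one, hord]
    rw [this, map_one]
  have hs : Equiv.Perm.sign σz = 1 := by
    have h1 := Abelianization.commutator_subset_ker (Equiv.Perm.sign.comp φ)
      ((Cfsg.Omega F ⇑Q).pow_mem hg r)
    rwa [MonoidHom.mem_ker] at h1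
  obtain ⟨k', hk1, hk2⟩ := sign_involution hσz2
  have hk'even : Even k' := by
    rw [hs] at hk2
    exact (neg_one_pow_eq_one_iff_even (by decide : (-1 : ℤˣ) ≠ 1)).mp hk2.symm
  have hfz : Nat.card (Function.fixedPoints σz) = n₁ := by
    refine Nat.card_congr (Equiv.subtypeEquivRight (fun x => ?_))
    rw [Function.mem_fixedPoints, Function.IsFixedPt, Subtype.ext_iff, hσz, hφ, hcoe, ← hz', hfixzb]
  have hfb : σb.supportᶜ.card = n₁ := by
    rw [hn₁, Nat.card_eq_fintype_card, Fintype.card_subtype]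
    congr 1
    ext x
    rw [Finset.mem_compl, Equiv.Perm.mem_support, not_not, Finset.mem_filter, Subtype.ext_iff, hσb, hφ,
      hcoe, ← hb']
    simp
  have hmod := Equiv.Perm.card_compl_support_modEq hσbr
  rw [hfb, ← Nat.card_eq_fintype_card] at hmod
  rw [hfz] at hk1
  exact arith_D (Fintype.card F) η r n₁ k' _ hqodd hr hr2 hS
    (by rw [hn₁']; exact count1 h2 Q C hfin) hk1 hk'even hmod.symm

end Cfsg.Agent.Lib.Helper42.SpecO
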