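import Mathlib
import Cfsg.Agent.Lib.Helper42.SpecPSp10
import Cfsg.Agent.Lib.Helper42.PGraphS6
import Cfsg.Agent.S2469

/-!
`PSp_{2n}(q)`, `q` odd: when is `2` adjacent to an odd prime `r` different from the characteristic
(upper bound).
-/

set_option autoImplicit false
set_option linter.unusedSectionVars false

namespace Cfsg.Agent.Lib.Helper42.SpecPSp

open Matrix Module Polynomial
open Cfsg.Agent.Lib.Helper42.PGraphL Cfsg.Agent.Lib.Helper42.PGraphS

variable {F : Type*} [Field F] {n : ℕ}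

/-- the part of `b` living on the image of a self-adjoint idempotent -/
theorem big_sp [Fintype F] (r : ℕ) [Fact r.Prime] (hr2 : r ≠ 2) (hrF : (r : F) ≠ 0)
    (b e : Matrix (Fin n ⊕ Fin n) (Fin n ⊕ Fin n) F) (hbs : adj b * b = 1) (hb : b ^ r = 1)
    (he : e * e = e) (hes : adj e = e) (hc : Commute b e) (hne : (b - 1) * e ≠ 0) (η : ℕ)
    (hη : (Odd (orderOf ((Fintype.card F : ℕ) : ZMod r)) ∧ η = orderOf ((Fintype.card F : ℕ) : ZMod r)) ∨
      (Even (orderOf ((Fintype.card F : ℕ) : ZMod r)) ∧ 2 * η = orderOf ((Fintype.card F : ℕ) : ZMod r))) :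
    2 * η ≤ Module.finrank F (LinearMap.ker (mulVecLin (1 - e))) := by
  set B := 1 + (b - 1) * e with hB
  have hpow : ∀ i : ℕ, B ^ i = 1 + (b ^ i - 1) * e := by
    intro i
    induction i with
    | zero => simp
    | succ i ih =>
      rw [pow_succ, ih, hB]
      have h1 : (b ^ i - 1) * e * ((b - 1) * e) = (b ^ i - 1) * (b - 1) * e := by
        have : e * ((b - 1) * e) = (b - 1) * e := by
          rw [← mul_assoc, ← (hc.sub_left (Commute.one_left e)).eq, mul_assoc, he]
        rw [mul_assoc, this, mul_assoc]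
      rw [mul_add, add_mul, add_mul, h1, pow_succ]
      noncomm_ring
  have hBr : B ^ r = 1 := by rw [hpow, hb, sub_self, zero_mul, add_zero]
  have hB1 : B ≠ 1 := by
    intro h
    apply hne
    rw [hB] at h
    exact add_eq_left.mp h
  have hbs' : b * adj b = 1 := mul_eq_one_comm.mp hbs
  have hc' : Commute (adj b) e := by
    have h1 : e * adj b = adj b * e := by
      have := congrArg adj hc.eq
      rwa [adj_mul, adj_mul, hes] at this
    exact h1.symm
  have hBs : adj B * B = 1 := by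
    rw [hB, adj_add, adj_one, adj_mul, adj_sub, adj_one, hes]
    have h1 : e * (adj b - 1) * ((b - 1) * e) = (adj b - 1) * (b - 1) * e := by
      rw [← (hc'.sub_left (Commute.one_left e)).eq, mul_assoc, ← mul_assoc e,
        ← (hc.sub_left (Commute.one_left e)).eq, mul_assoc, he, mul_assoc]
    have h2 : e * (adj b - 1) = (adj b - 1) * e := (hc'.sub_left (Commute.one_left e)).eq.symm
    have h3 : (adj b - 1) * (b - 1) = 1 - b - adj b + 1 := by
      rw [sub_mul, mul_sub, mul_sub, hbs]; noncomm_ring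
    rw [add_mul, mul_add, mul_add, h1, h2, h3]
    noncomm_ring
  have key := finrank_W_ge r hr2 hrF B hBs hBr hB1 η hη
  refine key.trans (Submodule.finrank_mono ?_)
  intro v hv
  rw [LinearMap.mem_ker, mulVecLin_apply] at hv ⊢
  have h1 : (1 - e) * (∑ i ∈ Finset.range r, B ^ i) = (r : F) • (1 - e) := by
    rw [Finset.mul_sum]
    have : ∀ i ∈ Finset.range r, (1 - e) * B ^ i = 1 - e := by
      intro i _
      rw [hpow, mul_add, mul_one]
      have : (1 - e) * ((b ^ i - 1) * e) = 0 := by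
        have h5 : (b ^ i - 1) * e = e * (b ^ i - 1) :=
          ((hc.pow_left i).sub_left (Commute.one_left e)).eq
        rw [h5, ← mul_assoc, sub_mul, one_mul, he, sub_self, zero_mul]
      rw [this, add_zero]
    rw [Finset.sum_congr rfl this, Finset.sum_const, Finset.card_range, Nat.cast_smul_eq_nsmul]
  have h2 := congrArg (· *ᵥ v) h1
  simp only [← mulVec_mulVec, hv, mulVec_zero, smul_mulVec] at h2
  exact ((smul_eq_zero.mp h2.symm).resolve_left hrF)


theorem split_sp [Fintype F] (r : ℕ) [Fact r.Prime] (hr2 : r ≠ 2) (hrF : (r : F) ≠ 0)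
    (Y π₁ π₂ : Matrix (Fin n ⊕ Fin n) (Fin n ⊕ Fin n) F) (hYs : adj Y * Y = 1) (hY : Y ^ r = 1)
    (hY1 : Y ≠ 1) (h1 : π₁ + π₂ = 1) (h0 : π₁ * π₂ = 0) (hne1 : π₁ ≠ 0) (hne2 : π₂ ≠ 0)
    (hc1 : Commute π₁ Y) (hc2 : Commute π₂ Y) (hs1 : adj π₁ = π₁) (hs2 : adj π₂ = π₂) (η : ℕ)
    (hη : (Odd (orderOf ((Fintype.card F : ℕ) : ZMod r)) ∧ η = orderOf ((Fintype.card F : ℕ) : ZMod r)) ∨
      (Even (orderOf ((Fintype.card F : ℕ) : ZMod r)) ∧ 2 * η = orderOf ((Fintype.card F : ℕ) : ZMod r))) :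
    η + 1 ≤ n := by
  have aux : ∀ e e' : Matrix (Fin n ⊕ Fin n) (Fin n ⊕ Fin n) F, e + e' = 1 → e * e = e → e' ≠ 0 →
      Commute e Y → adj e = e → (Y - 1) * e ≠ 0 → η + 1 ≤ n := by
    intro e e' hee' he he' hc hs hne
    have h3 := big_sp r hr2 hrF Y e hYs hY he hs hc.symm hne η hη
    have h4 : LinearMap.ker (mulVecLin (1 - e)) ≠ ⊤ := by
      intro h
      apply he'
      have h5 : 1 - e = e' := by rw [← hee']; abel
      rw [h5, LinearMap.ker_eq_top] at h
      apply Matrix.toLin'.injective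
      rw [Matrix.toLin'_apply', h, map_zero]
    have h5 := Submodule.finrank_lt h4
    rw [Module.finrank_fintype_fun_eq_card, Fintype.card_sum, Fintype.card_fin] at h5
    omega
  by_cases h : (Y - 1) * π₁ = 0
  · apply aux π₂ π₁ (by rw [add_comm, h1]) (idem_right' h1 h0) hne1 hc2 hs2
    intro h'
    apply hY1
    have : (Y - 1) * (π₁ + π₂) = 0 := by rw [mul_add, h, h', add_zero]
    rw [h1, mul_one] at this
    exact sub_eq_zero.mp this
  · exact aux π₁ π₂ h1 (idem_left' h1 h0) hne2 hc1 hs1 h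

theorem upperD_sp [Fintype F] (p : ℕ) [Fact p.Prime] [CharP F p] (hp2 : p ≠ 2) (hn : 0 < n)
    (r : ℕ) [Fact r.Prime] (hr2 : r ≠ 2) (hrp : r ≠ p) (η : ℕ)
    (hη : (Odd (orderOf ((Fintype.card F : ℕ) : ZMod r)) ∧ η = orderOf ((Fintype.card F : ℕ) : ZMod r)) ∨
      (Even (orderOf ((Fintype.card F : ℕ) : ZMod r)) ∧ 2 * η = orderOf ((Fintype.card F : ℕ) : ZMod r)))
    (g : Cfsg.PSp n F) (hg : orderOf g = 2 * r) :
    η + 1 ≤ n ∨ (η = n ∧ ((r ∣ Fintype.card F ^ n + 1 ∧ 4 ∣ Fintype.card F ^ n + 1) ∨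
      (r ∣ Fintype.card F ^ n - 1 ∧ 4 ∣ Fintype.card F ^ n - 1))) := by
  classical
  have hp : p.Prime := Fact.out
  have hr : r.Prime := Fact.out
  have h2F := two_ne_zero_of_char (F := F) p hp2
  obtain ⟨hk1, hkd, hrF⟩ := Cfsg.Agent.S2469.prime_facts (F := F) p r hr hrp
  have hrodd : Odd r := hr.odd_of_ne_two hr2
  have hrpos := hr.pos
  have hr1 := hr.one_lt
  obtain ⟨x, rfl⟩ := QuotientGroup.mk_surjective g
  set X := x.1 with hXdef
  have hpow : ∀ j, (X ^ j = 1 ∨ X ^ j = -1) ↔ 2 * r ∣ j := by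
    intro j
    rw [← psp_pow_eq_one_iff hn, ← hg, orderOf_dvd_iff_pow_eq_one]
  have hX : adj X * X = 1 := (mem_sp_iff _).mp x.2
  have hX' : X * adj X = 1 := mul_eq_one_comm.mp hX
  have hadjpow : ∀ j : ℕ, adj (X ^ j) * X ^ j = 1 := by
    intro j
    exact (mem_sp_iff _).mp (pow_mem x.2 j)
  set Y := X ^ (2 * (r + 1)) with hYdef
  have hYs : adj Y * Y = 1 := hadjpow _
  have hY : Y ^ r = 1 := by
    rw [hYdef, ← pow_mul]
    have : 2 * (r + 1) * r = (2 * r) * (r + 1) := by ring
    rw [this, pow_mul]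
    rcases (hpow (2 * r)).mpr dvd_rfl with h | h
    · rw [h, one_pow]
    · rw [h, hrodd.add_one.neg_one_pow]
  have hY1 : Y ≠ 1 := by
    intro h
    have h1 := (hpow _).mp (Or.inl h)
    have h3 : r ∣ r + 1 := Nat.dvd_of_mul_dvd_mul_left (by norm_num) h1
    have h4 : r ∣ 1 := (Nat.dvd_add_right dvd_rfl).mp h3
    exact hr1.ne' (Nat.dvd_one.mp h4)
  have hcomm : ∀ π : Matrix (Fin n ⊕ Fin n) (Fin n ⊕ Fin n) F, Commute π X → Commute π Y :=
    fun π h => h.pow_right _
  have hnotp : ∀ c, ¬ r ∣ p ^ c := by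
    intro c h
    exact hrp ((Nat.prime_dvd_prime_iff_eq hr hp).mp (hr.dvd_of_dvd_pow h))
  have hcop4 : ∀ c, Nat.Coprime 4 (p ^ c) := by
    intro c
    apply Nat.Coprime.pow_right
    have : Nat.Coprime (2 ^ 2) p :=
      Nat.Coprime.pow_left 2 ((Nat.coprime_primes Nat.prime_two hp).mpr (Ne.symm hp2))
    exact this
  have hηn : η ≤ n := by
    have h1 := finrank_W_ge r hr2 hrF Y hYs hY hY1 η hη
    have h3 := Submodule.finrank_le (LinearMap.ker (Matrix.mulVecLin (∑ i ∈ Finset.range r, Y ^ i)))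
    rw [Module.finrank_fintype_fun_eq_card, Fintype.card_sum, Fintype.card_fin] at h3
    omega
  rcases (hpow (2 * r)).mpr dvd_rfl with hcase | hcase
  · -- an involution
    left
    set z := X ^ r with hz
    have hzz : z * z = 1 := by rw [hz, ← pow_add, ← two_mul, hcase]
    have hz1 : z ≠ 1 := by
      intro h
      have := Nat.le_of_dvd hrpos ((hpow r).mp (Or.inl h))
      omega
    have hz2 : z ≠ -1 := by
      intro h
      have := Nat.le_of_dvd hrpos ((hpow r).mp (Or.inr h))
      omega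
    have hzs : adj z = z := by
      have h1 : adj z * z = 1 := hadjpow r
      calc adj z = adj z * (z * z) := by rw [hzz, mul_one]
        _ = z := by rw [← mul_assoc, h1, one_mul]
    have hzX : Commute z X := (Commute.refl X).pow_left r
    have hinv : (2 : F)⁻¹ + (2 : F)⁻¹ = 1 := by field_simp; norm_num
    refine split_sp r hr2 hrF Y ((2 : F)⁻¹ • (1 + z)) ((2 : F)⁻¹ • (1 - z)) hYs hY hY1 ?_ ?_ ?_ ?_
      (hcomm _ (((Commute.one_left X).add_left hzX).smul_left _))
      (hcomm _ (((Commute.one_left X).sub_left hzX).smul_left _)) ?_ ?_ η hη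
    · rw [← smul_add]
      have : (1 + z) + (1 - z) = (2 : F) • (1 : Matrix (Fin n ⊕ Fin n) (Fin n ⊕ Fin n) F) := by
        rw [two_smul]; abel
      rw [this, smul_smul, inv_mul_cancel₀ h2F, one_smul]
    · rw [smul_mul_smul_comm]
      have : (1 + z) * (1 - z) = 0 := by
        rw [add_mul, mul_sub, mul_sub, hzz]; noncomm_ring
      rw [this, smul_zero]
    · intro h
      apply hz2
      have := (smul_eq_zero.mp h).resolve_left (inv_ne_zero h2F)
      exact eq_neg_of_add_eq_zero_right this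
    · intro h
      apply hz1
      have := (smul_eq_zero.mp h).resolve_left (inv_ne_zero h2F)
      exact (sub_eq_zero.mp this).symm
    · rw [adj_smul, adj_add, adj_one, hzs]
    · rw [adj_smul, adj_sub, adj_one, hzs]
  · -- order `4 r`
    have hord : ∀ j, X ^ j = 1 → 4 * r ∣ j := by
      intro j h
      obtain ⟨c, rfl⟩ := (hpow j).mp (Or.inl h)
      rw [pow_mul, hcase] at h
      rcases Nat.even_or_odd c with hc | hc
      · obtain ⟨c', rfl⟩ := hc
        exact ⟨c', by ring⟩
      · rw [hc.neg_one_pow] at h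
        exact absurd h.symm (one_ne_neg_one hn h2F)
    have hXo : X ^ (4 * r) = 1 := by
      have : 4 * r = 2 * r * 2 := by ring
      rw [this, pow_mul, hcase]; simp
    have : Nonempty (Fin n ⊕ Fin n) := ⟨Sum.inl ⟨0, hn⟩⟩
    rcases dichotomy_st (adjL n) adj_mul adj_one adj_adj X hX hX' with
      ⟨π₁, π₂, h1, h0, hne1, hne2, hc1, hc2, hs1, hs2⟩ | ⟨f, e, hf, hfe⟩ | ⟨f, a, ε, hf, hεε, hcε, hsε, hfa⟩
    · left
      exact split_sp r hr2 hrF Y π₁ π₂ hYs hY hY1 h1 h0 hne1 hne2 (hcomm _ hc1) (hcomm _ hc2) hs1 hs2 η hη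
    · rcases bad1_sp p hn X hX f hf e hfe with h | ⟨j, D, hjD, h⟩
      · exfalso
        have h3 := hord _ h
        have h4 : r ∣ 2 * p ^ Nat.clog p (2 * n) := (dvd_mul_left r 4).trans h3
        rcases (hr.dvd_mul).mp h4 with h5 | h5
        · exact hr2 ((Nat.prime_dvd_prime_iff_eq hr Nat.prime_two).mp h5)
        · exact hnotp _ h5
      · have h3 := hord _ h
        have h4 : r ∣ Fintype.card F ^ j + 1 :=
          ((hr.dvd_mul).mp ((dvd_mul_left r 4).trans h3)).resolve_right (hnotp _)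
        have h5 : 4 ∣ Fintype.card F ^ j + 1 :=
          (hcop4 _).dvd_of_dvd_mul_right ((dvd_mul_right 4 r).trans h3)
        by_cases hlt : η + 1 ≤ n
        · exact Or.inl hlt
        right
        have hηeq : η = n := by omega
        have hD0 : 0 < D := by
          rcases Nat.eq_zero_or_pos D with rfl | h'
          · simp at hjD; omega
          · exact h'
        have hj0 : 0 < j := by
          rcases Nat.eq_zero_or_pos j with rfl | h'
          · simp at hjD; omega
          · exact h'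
        have hjn : j ≤ n := by rw [← hjD]; exact Nat.le_mul_of_pos_right _ hD0
        obtain ⟨a1, a2⟩ := Cfsg.Agent.S2469.of_plus (F := F) r hr hr2 j h4
        have hηj : η ≤ j := by
          rcases hη with ⟨ho, he⟩ | ⟨-, he⟩
          · exact absurd (Nat.Coprime.dvd_of_dvd_mul_left (Nat.coprime_two_right.mpr ho) a1) a2
          · rw [← he] at a1
            exact Nat.le_of_dvd hj0 (Nat.dvd_of_mul_dvd_mul_left (by norm_num) a1)
        have hjeq : j = n := by omega
        subst hjeq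
        exact ⟨hηeq, Or.inl ⟨h4, h5⟩⟩
    · obtain ⟨j, D, hjD, h⟩ := bad2_sp p hn X hX (4 * r) (by omega) hXo f hf a ε hεε hcε hsε hfa
      have h3 := hord _ h
      have h4 : r ∣ Fintype.card F ^ j - 1 :=
        ((hr.dvd_mul).mp ((dvd_mul_left r 4).trans h3)).resolve_right (hnotp _)
      have h5 : 4 ∣ Fintype.card F ^ j - 1 :=
        (hcop4 _).dvd_of_dvd_mul_right ((dvd_mul_right 4 r).trans h3)
      by_cases hlt : η + 1 ≤ n
      · exact Or.inl hlt
      right
      have hηeq : η = n := by omega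
      have hD0 : 0 < D := by
        rcases Nat.eq_zero_or_pos D with rfl | h'
        · simp at hjD; omega
        · exact h'
      have hj0 : 0 < j := by
        rcases Nat.eq_zero_or_pos j with rfl | h'
        · simp at hjD; omega
        · exact h'
      have hjn : j ≤ n := by rw [← hjD]; exact Nat.le_mul_of_pos_right _ hD0
      have h6 := Nat.le_of_dvd hj0 ((hkd j).mp h4)
      have hηj : η ≤ j := by
        rcases hη with ⟨-, he⟩ | ⟨-, he⟩ <;> omega
      have hjeq : j = n := by omega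
      subst hjeq
      exact ⟨hηeq, Or.inr ⟨h4, h5⟩⟩

end Cfsg.Agent.Lib.Helper42.SpecPSp
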