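import Mathlib
import Cfsg.Agent.Lib.Helper42.SpecO6
import Cfsg.Agent.Lib.Helper42.SpecPSp5
import Cfsg.Agent.Lib.Helper44.StdForms
import Cfsg.Agent.Lib.Helper44.OmegaUnified
import Cfsg.Agent.Lib.Helper44.Transport

/-!
Realising isometries of abstract symmetric bilinear spaces inside `Ω_{2n+1}(q)`.
-/

set_option autoImplicit false
set_option linter.unusedSectionVars false

namespace Cfsg.Agent.Lib.Helper42.SpecO

open Module Cfsg.Agent.Lib.Helper44 QuadraticMap
open Cfsg.Agent.Lib.Helper42.SpecPSp (prodForm prodForm_apply)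

universe u

/-- some nondegenerate symmetric bilinear space of dimension `m` has an isometry `g` with
`g ^ j = 1 ↔ M ∣ j` -/
def RealS (F : Type u) [Field F] (m M : ℕ) : Prop :=
  ∃ (U : Type u) (_ : AddCommGroup U) (_ : Module F U) (_ : FiniteDimensional F U)
    (B : LinearMap.BilinForm F U) (g : Module.End F U),
    B.IsSymm ∧ B.Nondegenerate ∧ finrank F U = m ∧ (∀ x y, B (g x) (g y) = B x y) ∧
      ∀ j : ℕ, g ^ j = 1 ↔ M ∣ j

variable {F : Type u} [Field F] [Fintype F]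

theorem realS_triv (t : ℕ) : RealS F t 1 := by
  refine ⟨Fin t → F, inferInstance, inferInstance, inferInstance, Matrix.toBilin' 1, 1, ?_, ?_, ?_, ?_, ?_⟩
  · rw [Matrix.isSymm_toBilin'_iff_isSymm]; exact Matrix.isSymm_one
  · rw [LinearMap.BilinForm.nondegenerate_toBilin'_iff_det_ne_zero]; simp
  · simp
  · intro x y; rfl
  · intro j; simp

theorem isom_pow_end {U : Type*} [AddCommGroup U] [Module F U] (B : LinearMap.BilinForm F U)
    (g : Module.End F U) (hg : ∀ x y, B (g x) (g y) = B x y) (k : ℕ) :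
    ∀ x y, B ((g ^ k) x) ((g ^ k) y) = B x y := by
  induction k with
  | zero => intro x y; simp
  | succ k ih =>
    intro x y
    rw [pow_succ, Module.End.mul_apply, Module.End.mul_apply, ih, hg]

theorem realS_dvd (m M M' : ℕ) (hM : 0 < M) (hd : M' ∣ M) (h : RealS F m M) : RealS F m M' := by
  obtain ⟨U, i1, i2, i3, B, g, hS, hB, hm, hg, hj⟩ := h
  obtain ⟨c, rfl⟩ := hd
  have hM'0 : 0 < M' := Nat.pos_of_mul_pos_right hM |> fun h => by
    rcases Nat.eq_zero_or_pos M' with h0 | h0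
    · rw [h0] at hM; simp at hM
    · exact h0
  have hc0 : 0 < c := by
    rcases Nat.eq_zero_or_pos c with h0 | h0
    · rw [h0] at hM; simp at hM
    · exact h0
  refine ⟨U, i1, i2, i3, B, g ^ c, hS, hB, hm, isom_pow_end B g hg c, ?_⟩
  intro j
  rw [← pow_mul, hj, mul_comm M' c]
  exact Nat.mul_dvd_mul_iff_left hc0

theorem realS_sum (m₁ m₂ M₁ M₂ : ℕ) (h₁ : RealS F m₁ M₁) (h₂ : RealS F m₂ M₂) :
    RealS F (m₁ + m₂) (Nat.lcm M₁ M₂) := by
  obtain ⟨U₁, i1, i2, i3, B₁, g₁, hS₁, hB₁, hm₁, hg₁, hj₁⟩ := h₁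
  obtain ⟨U₂, k1, k2, k3, B₂, g₂, hS₂, hB₂, hm₂, hg₂, hj₂⟩ := h₂
  have hS : (prodForm B₁ B₂).IsSymm := by
    constructor
    intro x y
    simp only [prodForm_apply]
    rw [hS₁.eq, hS₂.eq]
  refine ⟨U₁ × U₂, inferInstance, inferInstance, inferInstance, prodForm B₁ B₂,
    LinearMap.prodMapAlgHom F U₁ U₂ (g₁, g₂), hS, ?_, ?_, ?_, ?_⟩
  · apply nondeg_of_symm _ hS
    rintro ⟨x₁, x₂⟩ hx
    have h1 : x₁ = 0 := by
      apply hB₁.1
      intro y
      have := hx (y, 0)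
      rw [prodForm_apply] at this
      simpa using this
    have h2 : x₂ = 0 := by
      apply hB₂.1
      intro y
      have := hx (0, y)
      rw [prodForm_apply] at this
      simpa using this
    rw [h1, h2]; rfl
  · rw [Module.finrank_prod, hm₁, hm₂]
  · rintro ⟨x₁, x₂⟩ ⟨y₁, y₂⟩
    show prodForm B₁ B₂ (g₁ x₁, g₂ x₂) (g₁ y₁, g₂ y₂) = _
    rw [prodForm_apply, prodForm_apply, hg₁, hg₂]
  · intro j
    rw [← map_pow, Nat.lcm_dvd_iff, ← hj₁, ← hj₂]
    constructor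
    · intro h
      constructor
      · apply LinearMap.ext
        intro x
        have := congrArg (fun f : Module.End F (U₁ × U₂) => (f (x, 0)).1) h
        exact this
      · apply LinearMap.ext
        intro x
        have := congrArg (fun f : Module.End F (U₁ × U₂) => (f (0, x)).2) h
        exact this
    · rintro ⟨h1, h2⟩
      have : (g₁, g₂) ^ j = (1 : Module.End F U₁ × Module.End F U₂) := Prod.ext h1 h2
      rw [this, map_one]

theorem exists_matrix_of_realS (h2 : (2 : F) ≠ 0) (n M : ℕ) (h : RealS F (2 * n + 1) M) :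
    ∃ A : Matrix (Unit ⊕ (Fin n ⊕ Fin n)) (Unit ⊕ (Fin n ⊕ Fin n)) F,
      (∀ v, oddQF n F (A.mulVec v) = oddQF n F v) ∧ ∀ j : ℕ, A ^ j = 1 ↔ M ∣ j := by
  classical
  obtain ⟨U, i1, i2, i3, B, g, hS, hB, hm, hg, hj⟩ := h
  have hS₀ : LinearMap.BilinForm.IsSymm (polarBilin (oddQF n F)) := by
    constructor
    intro x y
    simp only [polarBilin_apply_apply]
    rw [polar_comm]
  have hn₀ : finrank F (Unit ⊕ (Fin n ⊕ Fin n) → F) = 2 * n + 1 := by
    rw [Module.finrank_fintype_fun_eq_card]; simp; ring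
  obtain ⟨T, a, ha, hT⟩ := exists_simil h2 B hS hB (polarBilin (oddQF n F)) hS₀ (oddQF_nondeg n F h2)
    hm hn₀
  let b : Basis (Unit ⊕ (Fin n ⊕ Fin n)) F U := Basis.ofEquivFun T
  have hbT : ∀ w, b.equivFun w = T w := by
    intro w
    rw [Basis.equivFun_ofEquivFun]
  have h1 : ∀ w, (LinearMap.toMatrixAlgEquiv b g).mulVec (T w) = T (g w) := by
    intro w
    rw [← hbT, ← hbT]
    exact LinearMap.toMatrix_mulVec_repr b b g w
  refine ⟨LinearMap.toMatrixAlgEquiv b g, ?_, ?_⟩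
  · intro v
    obtain ⟨w, rfl⟩ := T.surjective v
    rw [h1]
    have h3 := hT (g w) (g w)
    rw [hg, ← hT w w, polarBilin_apply_apply, polarBilin_apply_apply, polar_self, polar_self,
      two_smul, two_smul, ← two_mul, ← two_mul] at h3
    exact mul_left_cancel₀ h2 h3
  · intro j
    rw [← map_pow, ← hj]
    constructor
    · intro h
      apply (LinearMap.toMatrixAlgEquiv b).injective
      rw [h, map_one]
    · intro h
      rw [h, map_one]

theorem exists_isom_of_realS (h2 : (2 : F) ≠ 0) (n M : ℕ) (hM : 0 < M) (h : RealS F (2 * n + 1) M) :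
    ∃ g : ↥(Cfsg.isometryGroup F ⇑(oddQF n F)), orderOf g = M := by
  classical
  obtain ⟨A, hA, hj⟩ := exists_matrix_of_realS h2 n M h
  have hAM : A ^ M = 1 := (hj M).mpr dvd_rfl
  have h1 : A * A ^ (M - 1) = 1 := by rw [← pow_succ', Nat.sub_add_cancel hM, hAM]
  have h3 : A ^ (M - 1) * A = 1 := by rw [← pow_succ, Nat.sub_add_cancel hM, hAM]
  let y : GL (Unit ⊕ (Fin n ⊕ Fin n)) F := ⟨A, A ^ (M - 1), h1, h3⟩
  have hy : y ∈ Cfsg.isometryGroup F ⇑(oddQF n F) := mem_isometryGroup.mpr hA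
  refine ⟨⟨y, hy⟩, ?_⟩
  have hpow : ∀ k : ℕ, (⟨y, hy⟩ : ↥(Cfsg.isometryGroup F ⇑(oddQF n F))) ^ k = 1 ↔ A ^ k = 1 := by
    intro k
    rw [Subtype.ext_iff, Units.ext_iff]
    simp [y]
  apply Nat.dvd_antisymm
  · rw [orderOf_dvd_iff_pow_eq_one, hpow]
    exact hAM
  · rw [← hj, ← hpow, pow_orderOf_eq_one]

/-- squares of isometries give elements of `Ω` -/
theorem exists_Omega_of_realS (h2 : (2 : F) ≠ 0) (n M : ℕ) (hM : 0 < M)
    (h : RealS F (2 * n + 1) M) :
    ∃ g : ↥(Cfsg.isometryGroup F ⇑(oddQF n F)), g ∈ Cfsg.Omega F ⇑(oddQF n F) ∧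
      orderOf g = M / Nat.gcd M 2 := by
  obtain ⟨y, hy⟩ := exists_isom_of_realS h2 n M hM h
  refine ⟨y * y, mul_self_mem_Omega (oddQF n F) (oddQF_nondeg n F h2) (Or.inl ?_) y, ?_⟩
  · intro hc
    apply h2
    have h3 : ((Fintype.card F : ℕ) : F) = 0 := Nat.cast_card_eq_zero F
    rw [hc] at h3
    exact_mod_cast h3
  · rw [← pow_two, orderOf_pow, hy]

end Cfsg.Agent.Lib.Helper42.SpecO
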