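import Mathlib
import Cfsg.Agent.Lib.Helper42.SpecO7

/-!
The building blocks: cyclic tori of both types and a unipotent element in dimension three.
-/

set_option autoImplicit false
set_option linter.unusedSectionVars false

namespace Cfsg.Agent.Lib.Helper42.SpecO

open Module Matrix

universe u

variable {F : Type u} [Field F] [Fintype F]

theorem realS_of_space {U : Type*} [AddCommGroup U] [Module F U] [FiniteDimensional F U]
    (B : LinearMap.BilinForm F U) (g : Module.End F U) (hS : B.IsSymm) (hB : B.Nondegenerate)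
    (m M : ℕ) (hm : finrank F U = m) (hg : ∀ x y, B (g x) (g y) = B x y)
    (hj : ∀ j : ℕ, g ^ j = 1 ↔ M ∣ j) : RealS F m M := by
  let e : U ≃ₗ[F] (Fin m → F) := (finBasisOfFinrankEq F U hm).equivFun
  let B' : LinearMap.BilinForm F (Fin m → F) := B.comp e.symm.toLinearMap e.symm.toLinearMap
  have hB'app : ∀ x y, B' x y = B (e.symm x) (e.symm y) := fun x y => rfl
  have hS' : B'.IsSymm := by
    constructor
    intro x y
    show B' x y = B' y x
    rw [hB'app, hB'app, hS.eq]
  refine ⟨Fin m → F, inferInstance, inferInstance, inferInstance, B', e.conjAlgEquiv F g, hS', ?_, ?_,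
    ?_, ?_⟩
  · apply nondeg_of_symm B' hS'
    intro x hx
    have h1 : e.symm x = 0 := by
      apply hB.1
      intro y
      have := hx (e y)
      rwa [hB'app, e.symm_apply_apply] at this
    exact e.symm.map_eq_zero_iff.mp h1
  · simp
  · intro x y
    rw [hB'app, hB'app, LinearEquiv.conjAlgEquiv_apply]
    simp only [LinearMap.comp_apply, LinearEquiv.coe_coe, e.symm_apply_apply]
    rw [hg]
  · intro j
    rw [← map_pow, ← hj]
    constructor
    · intro h
      apply (e.conjAlgEquiv F).injective
      rw [h, map_one]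
    · intro h
      rw [h, map_one]

theorem realS_of_matrix (m M : ℕ) (G X : Matrix (Fin m) (Fin m) F) (hGs : Gᵀ = G) (hG : G.det ≠ 0)
    (hX : Xᵀ * G * X = G) (hj : ∀ j : ℕ, X ^ j = 1 ↔ M ∣ j) : RealS F m M := by
  refine ⟨Fin m → F, inferInstance, inferInstance, inferInstance, Matrix.toBilin' G,
    Matrix.toLinAlgEquiv' X, ?_, ?_, ?_, ?_, ?_⟩
  · rw [Matrix.isSymm_toBilin'_iff_isSymm]; exact hGs
  · rw [LinearMap.BilinForm.nondegenerate_toBilin'_iff_det_ne_zero]; exact hG
  · simp
  · intro x y
    show Matrix.toBilin' G (X *ᵥ x) (X *ᵥ y) = _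
    rw [Matrix.toBilin'_apply', Matrix.toBilin'_apply', ← Matrix.vecMul_transpose X x,
      ← Matrix.dotProduct_mulVec, Matrix.mulVec_mulVec, Matrix.mulVec_mulVec, hX]
  · intro j
    rw [← map_pow, ← hj]
    constructor
    · intro h
      apply (Matrix.toLinAlgEquiv' (R := F) (n := Fin m)).injective
      rw [h, map_one]
    · intro h
      rw [h, map_one]

theorem realS_unip (p : ℕ) [Fact p.Prime] [CharP F p] (h2 : (2 : F) ≠ 0) : RealS F 3 p := by
  apply realS_of_matrix 3 p !![0, 0, 1; 0, -2, 0; 1, 0, 0] !![1, 2, 1; 0, 1, 1; 0, 0, 1]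
  · ext i j
    fin_cases i <;> fin_cases j <;> simp
  · rw [Matrix.det_fin_three]
    simp [h2]
  · ext i j
    fin_cases i <;> fin_cases j <;> simp [Matrix.mul_apply, Fin.sum_univ_three] <;> ring
  · have hpow : ∀ j : ℕ, (!![1, 2, 1; 0, 1, 1; 0, 0, 1] : Matrix (Fin 3) (Fin 3) F) ^ j
        = !![1, 2 * (j : F), (j : F) ^ 2; 0, 1, (j : F); 0, 0, 1] := by
      intro j
      induction j with
      | zero =>
        ext i j
        fin_cases i <;> fin_cases j <;> simp
      | succ j ih =>
        rw [pow_succ, ih]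
        ext i k
        fin_cases i <;> fin_cases k <;> simp [Matrix.mul_apply, Fin.sum_univ_three] <;> ring
    intro j
    rw [hpow, ← CharP.cast_eq_zero_iff F p]
    constructor
    · intro h
      have := congrFun (congrFun h 1) 2
      simpa using this
    · intro h
      rw [h]
      ext i k
      fin_cases i <;> fin_cases k <;> simp

theorem realS_minus (p : ℕ) [Fact p.Prime] [CharP F p] (d : ℕ) (hd : 0 < d) :
    RealS F (2 * d) (Fintype.card F ^ d + 1) := by
  classical
  have : NeZero (2 * d) := ⟨by omega⟩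
  let K := FiniteField.Extension F p (2 * d)
  have hK : Module.finrank F K = 2 * d := FiniteField.finrank_extension F p (2 * d)
  have : Fintype K := Fintype.ofFinite K
  have hq : 2 ≤ Fintype.card F := Fintype.one_lt_card
  set q := Fintype.card F with hqdef
  have hcardK : Fintype.card K = q ^ (2 * d) := by
    rw [← Nat.card_eq_fintype_card, FiniteField.natCard_extension, Nat.card_eq_fintype_card]
  let σ : K ≃ₐ[F] K := (FiniteField.frobeniusAlgEquivOfAlgebraic F K) ^ d
  have hσ : ∀ a, σ a = a ^ (q ^ d) := by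
    intro a
    show ((FiniteField.frobeniusAlgEquivOfAlgebraic F K) ^ d) a = _
    rw [AlgEquiv.coe_pow, FiniteField.coe_frobeniusAlgEquivOfAlgebraic_iterate]
  have hσσ : ∀ a, σ (σ a) = a := by
    intro a
    rw [hσ, hσ, ← pow_mul, ← pow_add, ← two_mul, ← hcardK, FiniteField.pow_card]
  let B : LinearMap.BilinForm F K := (Algebra.traceForm F K).comp σ.toLinearMap LinearMap.id
  have hBapp : ∀ x y, B x y = Algebra.trace F K (σ x * y) := fun x y => rfl
  have hS : B.IsSymm := by
    constructor
    intro x y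
    show B x y = B y x
    rw [hBapp, hBapp, ← Algebra.trace_eq_of_algEquiv σ (σ x * y), map_mul, hσσ, mul_comm x (σ y)]
  have hB : B.Nondegenerate := by
    apply nondeg_of_symm B hS
    intro x hx
    have h1 : σ x = 0 := (traceForm_nondegenerate F K).1 _ (fun y => hx y)
    exact (map_eq_zero σ).mp h1
  obtain ⟨ζ, hζ⟩ := IsCyclic.exists_generator (α := Kˣ)
  have hord : orderOf (ζ : K) = q ^ (2 * d) - 1 := by
    rw [orderOf_units, orderOf_eq_card_of_forall_mem_zpowers hζ, Nat.card_units,
      Nat.card_eq_fintype_card, hcardK]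
  have hQ : 2 ≤ q ^ d := le_trans hq (Nat.le_self_pow hd.ne' q)
  have hfac : q ^ (2 * d) - 1 = (q ^ d - 1) * (q ^ d + 1) := by
    rw [two_mul, pow_add]
    obtain ⟨t, ht⟩ : ∃ t, q ^ d = t + 1 := ⟨q ^ d - 1, by omega⟩
    rw [ht]
    simp only [Nat.add_sub_cancel]
    have : (t + 1) * (t + 1) = t * (t + 1 + 1) + 1 := by ring
    rw [this, Nat.add_sub_cancel]
  set a : K := (ζ : K) ^ (q ^ d - 1) with ha
  have horda : orderOf a = q ^ d + 1 := by
    rw [ha, orderOf_pow_of_dvd (by omega) (by rw [hord, hfac]; exact dvd_mul_right _ _), hord, hfac,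
      Nat.mul_div_cancel_left _ (by omega)]
  have ha1 : σ a * a = 1 := by
    rw [hσ, ← pow_succ, ← horda, pow_orderOf_eq_one]
  have hinj : Function.Injective (Algebra.lmul F K) := (Algebra.lmul F K).toRingHom.injective
  refine realS_of_space B (Algebra.lmul F K a) hS hB _ _ hK ?_ ?_
  · intro u v
    show B (a * u) (a * v) = B u v
    rw [hBapp, hBapp, map_mul σ]
    have : σ a * σ u * (a * v) = σ u * v := by
      linear_combination (σ u * v) * ha1
    rw [this]
  · intro j
    rw [← map_pow, ← horda, orderOf_dvd_iff_pow_eq_one]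
    constructor
    · intro h
      apply hinj
      rw [h, map_one]
    · intro h
      rw [h, map_one]

theorem realS_plus (p : ℕ) [Fact p.Prime] [CharP F p] (d : ℕ) (hd : 0 < d) :
    RealS F (2 * d) (Fintype.card F ^ d - 1) := by
  classical
  have : NeZero d := ⟨by omega⟩
  let K := FiniteField.Extension F p d
  have hK : Module.finrank F K = d := FiniteField.finrank_extension F p d
  have : Fintype K := Fintype.ofFinite K
  set q := Fintype.card F with hqdef
  have hcardK : Fintype.card K = q ^ d := by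
    rw [← Nat.card_eq_fintype_card, FiniteField.natCard_extension, Nat.card_eq_fintype_card]
  let B : LinearMap.BilinForm F (K × K) :=
    (Algebra.traceForm F K).comp (LinearMap.fst F K K) (LinearMap.snd F K K) +
      (Algebra.traceForm F K).comp (LinearMap.snd F K K) (LinearMap.fst F K K)
  have hBapp : ∀ x y, B x y = Algebra.trace F K (x.1 * y.2) + Algebra.trace F K (x.2 * y.1) :=
    fun x y => rfl
  have hS : B.IsSymm := by
    constructor
    intro x y
    show B x y = B y x
    rw [hBapp, hBapp, mul_comm x.1, mul_comm x.2, add_comm]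
  have hB : B.Nondegenerate := by
    apply nondeg_of_symm B hS
    rintro ⟨x₁, x₂⟩ hx
    have h1 : x₁ = 0 := by
      apply (traceForm_nondegenerate F K).1
      intro y
      have := hx (0, y)
      rw [hBapp] at this
      simpa using this
    have h2 : x₂ = 0 := by
      apply (traceForm_nondegenerate F K).1
      intro y
      have := hx (y, 0)
      rw [hBapp] at this
      simpa using this
    rw [h1, h2]; rfl
  obtain ⟨ζ, hζ⟩ := IsCyclic.exists_generator (α := Kˣ)
  have hord : orderOf (ζ : K) = q ^ d - 1 := by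
    rw [orderOf_units, orderOf_eq_card_of_forall_mem_zpowers hζ, Nat.card_units,
      Nat.card_eq_fintype_card, hcardK]
  set a : K := (ζ : K) with ha
  have ha0 : a ≠ 0 := ζ.ne_zero
  let Θ : (K × K) →ₐ[F] Module.End F (K × K) :=
    (LinearMap.prodMapAlgHom F K K).comp (AlgHom.prodMap (Algebra.lmul F K) (Algebra.lmul F K))
  have hΘ : Function.Injective Θ := by
    intro x y hxy
    have h2 : x.1 * 1 = y.1 * 1 := by
      have := congrArg (fun g : Module.End F (K × K) => (g (1, 0)).1) hxy
      exact this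
    have h3 : x.2 * 1 = y.2 * 1 := by
      have := congrArg (fun g : Module.End F (K × K) => (g (0, 1)).2) hxy
      exact this
    rw [mul_one, mul_one] at h2 h3
    exact Prod.ext h2 h3
  refine realS_of_space B (Θ (a, a⁻¹)) hS hB _ _ (by rw [Module.finrank_prod, hK]; ring) ?_ ?_
  · rintro ⟨u₁, u₂⟩ ⟨v₁, v₂⟩
    show B (a * u₁, a⁻¹ * u₂) (a * v₁, a⁻¹ * v₂) = B (u₁, u₂) (v₁, v₂)
    rw [hBapp, hBapp]
    have haa : a * a⁻¹ = 1 := mul_inv_cancel₀ ha0
    have e1 : a * u₁ * (a⁻¹ * v₂) = u₁ * v₂ := by linear_combination (u₁ * v₂) * haa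
    have e2 : a⁻¹ * u₂ * (a * v₁) = u₂ * v₁ := by linear_combination (u₂ * v₁) * haa
    simp only [e1, e2]
  · intro j
    rw [← map_pow, ← hord, orderOf_dvd_iff_pow_eq_one]
    constructor
    · intro h
      have h1 : (a, a⁻¹) ^ j = (1 : K × K) := hΘ (by rw [h, map_one])
      exact congrArg Prod.fst h1
    · intro h
      have h1 : (a, a⁻¹) ^ j = (1 : K × K) := by
        apply Prod.ext
        · exact h
        · show (a⁻¹) ^ j = 1
          rw [inv_pow, h, inv_one]
      rw [h1, map_one]

/-- a torus element of any order dividing `q ^ η ± 1` -/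
theorem realS_torus (p : ℕ) [Fact p.Prime] [CharP F p] (η : ℕ) (hη : 0 < η) (M : ℕ)
    (h : M ∣ Fintype.card F ^ η - 1 ∨ M ∣ Fintype.card F ^ η + 1) : RealS F (2 * η) M := by
  have hq : 2 ≤ Fintype.card F := Fintype.one_lt_card
  have hQ : 2 ≤ Fintype.card F ^ η := le_trans hq (Nat.le_self_pow hη.ne' _)
  rcases h with h | h
  · exact realS_dvd _ _ _ (by omega) h (realS_plus p η hη)
  · exact realS_dvd _ _ _ (by omega) h (realS_minus p η hη)

end Cfsg.Agent.Lib.Helper42.SpecO
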