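import Mathlib
import Cfsg.Agent.Lib.Helper42.SpecO7
import Cfsg.Agent.Lib.Helper42.SpecO8
import Cfsg.Agent.Lib.Helper42.SpecO11
import Cfsg.Agent.S2362

/-!
The prime graph of `Ω_{2n+1}(q)`, `q` odd: numerical adjacency criteria.
-/

set_option autoImplicit false
set_option linter.unusedSectionVars false

namespace Cfsg.Agent.Lib.Helper42.SpecO

open Module Cfsg.Agent.Lib.Helper44 QuadraticMap

universe u

variable {F : Type u} [Field F] [Fintype F]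

theorem pomega_iff (h2 : (2 : F) ≠ 0) (n : ℕ) (hn : 1 ≤ n) (M : ℕ) :
    M ∈ Set.range (orderOf : Cfsg.POmega F (Cfsg.quadFormOdd n F) → ℕ) ↔
    ∃ g : ↥(Cfsg.isometryGroup F ⇑(oddQF n F)), g ∈ Cfsg.Omega F ⇑(oddQF n F) ∧ orderOf g = M := by
  rw [oddQF_coe]
  have hZ := Cfsg.Agent.S2362.center_trivial (F := F) h2 n hn
  have hinj : Function.Injective
      (QuotientGroup.mk' (Subgroup.center (Cfsg.Omega F (Cfsg.quadFormOdd n F)))) := by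
    rw [injective_iff_map_eq_one]
    intro x hx
    have h3 : x ∈ Subgroup.center (Cfsg.Omega F (Cfsg.quadFormOdd n F)) :=
      (QuotientGroup.eq_one_iff x).1 hx
    rw [hZ] at h3
    exact Subgroup.mem_bot.1 h3
  constructor
  · rintro ⟨gbar, hgbar⟩
    obtain ⟨g₀, rfl⟩ := QuotientGroup.mk_surjective gbar
    refine ⟨g₀.1, g₀.2, ?_⟩
    rw [Subgroup.orderOf_coe, ← hgbar]
    exact (orderOf_injective _ hinj g₀).symm
  · rintro ⟨g, hg, hord⟩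
    refine ⟨QuotientGroup.mk' _ ⟨g, hg⟩, ?_⟩
    rw [orderOf_injective _ hinj, ← hord, ← Subgroup.orderOf_coe]

theorem exists_Omega_pad (h2 : (2 : F) ≠ 0) (n m M : ℕ) (hm : m ≤ 2 * n + 1) (hM : 0 < M)
    (h : RealS F m M) :
    ∃ g : ↥(Cfsg.isometryGroup F ⇑(oddQF n F)), g ∈ Cfsg.Omega F ⇑(oddQF n F) ∧
      orderOf g = M / Nat.gcd M 2 := by
  obtain ⟨t, ht⟩ : ∃ t, 2 * n + 1 = m + t := ⟨2 * n + 1 - m, by omega⟩
  have h1 := realS_sum m t M 1 h (realS_triv t)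
  rw [Nat.lcm_one_right, ← ht] at h1
  exact exists_Omega_of_realS h2 n M hM h1

theorem exists_Omega_odd (h2 : (2 : F) ≠ 0) (n m M : ℕ) (hm : m ≤ 2 * n + 1) (hM : Odd M)
    (h : RealS F m M) :
    ∃ g : ↥(Cfsg.isometryGroup F ⇑(oddQF n F)), g ∈ Cfsg.Omega F ⇑(oddQF n F) ∧ orderOf g = M := by
  obtain ⟨g, hg, hord⟩ := exists_Omega_pad h2 n m M hm hM.pos h
  refine ⟨g, hg, ?_⟩
  rw [hord, Nat.coprime_two_right.mpr hM, Nat.div_one]

theorem exists_Omega_four (h2 : (2 : F) ≠ 0) (n m M : ℕ) (hm : m ≤ 2 * n + 1) (hM : 0 < M)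
    (h : RealS F m (4 * M)) :
    ∃ g : ↥(Cfsg.isometryGroup F ⇑(oddQF n F)), g ∈ Cfsg.Omega F ⇑(oddQF n F) ∧
      orderOf g = 2 * M := by
  obtain ⟨g, hg, hord⟩ := exists_Omega_pad h2 n m (4 * M) hm (by omega) h
  refine ⟨g, hg, ?_⟩
  have h1 : Nat.gcd (4 * M) 2 = 2 := Nat.gcd_eq_right ⟨2 * M, by ring⟩
  rw [hord, h1]
  omega

/-- the sign attached to a prime -/
theorem sign_dvd (r : ℕ) (hr : r.Prime) (η : ℕ) (hη0 : 0 < η)
    (hkd : ∀ j, r ∣ Fintype.card F ^ j - 1 ↔ orderOf ((Fintype.card F : ℕ) : ZMod r) ∣ j)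
    (hη : (Odd (orderOf ((Fintype.card F : ℕ) : ZMod r)) ∧ η = orderOf ((Fintype.card F : ℕ) : ZMod r)) ∨
      (Even (orderOf ((Fintype.card F : ℕ) : ZMod r)) ∧ 2 * η = orderOf ((Fintype.card F : ℕ) : ZMod r))) :
    r ∣ Fintype.card F ^ η - 1 ∨ r ∣ Fintype.card F ^ η + 1 := by
  rcases hη with ⟨-, he⟩ | ⟨-, he⟩
  · left; exact (hkd η).mpr (by rw [he])
  · right; exact Cfsg.Agent.S2469.plus_of_half r hr η hη0 he

theorem rs_dvd (r s : ℕ) (hr : r.Prime) (hs : s.Prime) (hrs : r ≠ s)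
    (k l ηk ηl : ℕ) (hk : k = orderOf ((Fintype.card F : ℕ) : ZMod r))
    (hl : l = orderOf ((Fintype.card F : ℕ) : ZMod s))
    (hkd : ∀ j, r ∣ Fintype.card F ^ j - 1 ↔ k ∣ j) (hld : ∀ j, s ∣ Fintype.card F ^ j - 1 ↔ l ∣ j)
    (hηk : (Odd k ∧ ηk = k) ∨ (Even k ∧ 2 * ηk = k)) (hηl : (Odd l ∧ ηl = l) ∨ (Even l ∧ 2 * ηl = l))
    (hηk0 : 0 < ηk) (hηl0 : 0 < ηl) (t : ℕ) (htodd : Odd t) (ht : l = k * t) :
    r * s ∣ Fintype.card F ^ ηl - 1 ∨ r * s ∣ Fintype.card F ^ ηl + 1 := by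
  have hcop : Nat.Coprime r s := (Nat.coprime_primes hr hs).mpr hrs
  rcases hηl with ⟨hlo, he⟩ | ⟨hle, he⟩
  · left
    apply hcop.mul_dvd_of_dvd_of_dvd
    · exact (hkd ηl).mpr (by rw [he, ht]; exact dvd_mul_right _ _)
    · exact (hld ηl).mpr (by rw [he])
  · right
    have hke : 2 * ηk = k := by
      rcases hηk with ⟨hko, -⟩ | ⟨-, h⟩
      · exfalso
        rw [ht] at hle
        exact (Nat.not_even_iff_odd.mpr (hko.mul htodd)) hle
      · exact h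
    have hη : ηl = ηk * t := by
      have : 2 * ηl = 2 * (ηk * t) := by rw [he, ht, ← hke]; ring
      omega
    apply hcop.mul_dvd_of_dvd_of_dvd
    · have h1 : r ∣ Fintype.card F ^ ηk + 1 :=
        Cfsg.Agent.S2469.plus_of_half r hr ηk hηk0 (by rw [hke, hk])
      have h2 := Odd.nat_add_dvd_pow_add_pow (Fintype.card F ^ ηk) 1 htodd
      rw [one_pow, ← pow_mul, ← hη] at h2
      exact h1.trans h2
    · exact Cfsg.Agent.S2469.plus_of_half s hs ηl hηl0 (by rw [he, hl])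

theorem card_idx (n : ℕ) : Fintype.card (Unit ⊕ (Fin n ⊕ Fin n)) = 2 * n + 1 := by
  simp; ring

theorem omega_A (p : ℕ) [Fact p.Prime] [CharP F p] (h2 : (2 : F) ≠ 0) (n : ℕ)
    (r s : ℕ) (hr : r.Prime) (hs : s.Prime) (hr2 : r ≠ 2) (hs2 : s ≠ 2) (hrp : r ≠ p) (hsp : s ≠ p)
    (hrs : r ≠ s)
    (k l ηk ηl : ℕ) (hk : k = orderOf ((Fintype.card F : ℕ) : ZMod r))
    (hl : l = orderOf ((Fintype.card F : ℕ) : ZMod s))
    (hηk : (Odd k ∧ ηk = k) ∨ (Even k ∧ 2 * ηk = k)) (hηl : (Odd l ∧ ηl = l) ∨ (Even l ∧ 2 * ηl = l))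
    (hkl : ηk ≤ ηl) :
    (∃ g : ↥(Cfsg.isometryGroup F ⇑(oddQF n F)), g ∈ Cfsg.Omega F ⇑(oddQF n F) ∧ orderOf g = r * s) ↔
      (ηl ≤ n ∧ (ηk + ηl ≤ n ∨ ∃ t, Odd t ∧ l = k * t)) := by
  have : Fact r.Prime := ⟨hr⟩
  have : Fact s.Prime := ⟨hs⟩
  obtain ⟨hk1, hkd, hrF⟩ := Cfsg.Agent.S2469.prime_facts (F := F) p r hr hrp
  obtain ⟨hl1, hld, hsF⟩ := Cfsg.Agent.S2469.prime_facts (F := F) p s hs hsp
  have hcop : Nat.Coprime r s := (Nat.coprime_primes hr hs).mpr hrs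
  have hrodd : Odd r := hr.odd_of_ne_two hr2
  have hsodd : Odd s := hs.odd_of_ne_two hs2
  have hηk0 : 0 < ηk := by rw [← hk] at hk1; rcases hηk with ⟨-, he⟩ | ⟨-, he⟩ <;> omega
  have hηl0 : 0 < ηl := by rw [← hl] at hl1; rcases hηl with ⟨-, he⟩ | ⟨-, he⟩ <;> omega
  constructor
  · rintro ⟨g, -, hord⟩
    exact upperA_grp h2 (oddQF n F) (oddQF_nondeg n F h2) n (card_idx n) r s hr2 hs2 hrF hsF
      k l ηk ηl hk hl hηk hηl hkl g hord
  · rintro ⟨hln, hsum | ⟨t, htodd, ht⟩⟩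
    · have h1 := realS_sum _ _ _ _
        (realS_torus (F := F) p ηk hηk0 r (sign_dvd r hr ηk hηk0 hkd (by rw [← hk]; exact hηk)))
        (realS_torus (F := F) p ηl hηl0 s (sign_dvd s hs ηl hηl0 hld (by rw [← hl]; exact hηl)))
      rw [hcop.lcm_eq_mul] at h1
      exact exists_Omega_odd h2 n _ _ (by omega) (hrodd.mul hsodd) h1
    · have h1 := realS_torus (F := F) p ηl hηl0 (r * s)
        (rs_dvd r s hr hs hrs k l ηk ηl hk hl (by rw [hk]; exact hkd) (by rw [hl]; exact hld)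
          hηk hηl hηk0 hηl0 t htodd ht)
      exact exists_Omega_odd h2 n _ _ (by omega) (hrodd.mul hsodd) h1

theorem omega_B (p : ℕ) [Fact p.Prime] [CharP F p] (h2 : (2 : F) ≠ 0) (hp2 : p ≠ 2) (n : ℕ)
    (r : ℕ) (hr : r.Prime) (hr2 : r ≠ 2) (hrp : r ≠ p) (η : ℕ)
    (hη : (Odd (orderOf ((Fintype.card F : ℕ) : ZMod r)) ∧ η = orderOf ((Fintype.card F : ℕ) : ZMod r)) ∨
      (Even (orderOf ((Fintype.card F : ℕ) : ZMod r)) ∧ 2 * η = orderOf ((Fintype.card F : ℕ) : ZMod r))) :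
    (∃ g : ↥(Cfsg.isometryGroup F ⇑(oddQF n F)), g ∈ Cfsg.Omega F ⇑(oddQF n F) ∧ orderOf g = r * p) ↔
      η + 1 ≤ n := by
  have hp : p.Prime := Fact.out
  have : Fact r.Prime := ⟨hr⟩
  obtain ⟨hk1, hkd, hrF⟩ := Cfsg.Agent.S2469.prime_facts (F := F) p r hr hrp
  have hcop : Nat.Coprime r p := (Nat.coprime_primes hr hp).mpr hrp
  have hrodd : Odd r := hr.odd_of_ne_two hr2
  have hpodd : Odd p := hp.odd_of_ne_two hp2
  have hη0 : 0 < η := by rcases hη with ⟨-, he⟩ | ⟨-, he⟩ <;> omega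
  constructor
  · rintro ⟨g, -, hord⟩
    exact upperB_grp p h2 (oddQF n F) (oddQF_nondeg n F h2) n (card_idx n) r hr2 hrF η hη g hord
  · intro hle
    have h1 := realS_sum _ _ _ _
      (realS_torus (F := F) p η hη0 r (sign_dvd r hr η hη0 hkd hη)) (realS_unip (F := F) p h2)
    rw [hcop.lcm_eq_mul] at h1
    exact exists_Omega_odd h2 n _ _ (by omega) (hrodd.mul hpodd) h1

theorem four_dvd (hq : Odd (Fintype.card F)) :
    4 ∣ Fintype.card F ^ 1 - 1 ∨ 4 ∣ Fintype.card F ^ 1 + 1 := by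
  rw [pow_one]
  obtain ⟨m, hm⟩ := hq
  rcases Nat.even_or_odd' m with ⟨c, hc | hc⟩
  · left; exact ⟨c, by omega⟩
  · right; exact ⟨c + 1, by omega⟩

theorem omega_C (p : ℕ) [Fact p.Prime] [CharP F p] (h2 : (2 : F) ≠ 0) (hp2 : p ≠ 2)
    (hq : Odd (Fintype.card F)) (n : ℕ) (hn : 2 ≤ n) :
    ∃ g : ↥(Cfsg.isometryGroup F ⇑(oddQF n F)), g ∈ Cfsg.Omega F ⇑(oddQF n F) ∧ orderOf g = 2 * p := by
  have hp : p.Prime := Fact.out
  have hpodd : Odd p := hp.odd_of_ne_two hp2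
  have hcop : Nat.Coprime 4 p := by
    have : Nat.Coprime (2 ^ 2) p := Nat.Coprime.pow_left 2 (Nat.coprime_two_left.mpr hpodd)
    exact this
  have h1 := realS_sum _ _ _ _
    (realS_torus (F := F) p 1 one_pos 4 (four_dvd hq)) (realS_unip (F := F) p h2)
  rw [hcop.lcm_eq_mul] at h1
  exact exists_Omega_four h2 n _ _ (by omega) hp.pos h1

theorem omega_D (p : ℕ) [Fact p.Prime] [CharP F p] (h2 : (2 : F) ≠ 0)
    (hq : Odd (Fintype.card F)) (n : ℕ) (hn : 1 ≤ n)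
    (r : ℕ) (hr : r.Prime) (hr2 : r ≠ 2) (hrp : r ≠ p) (η : ℕ)
    (hη : (Odd (orderOf ((Fintype.card F : ℕ) : ZMod r)) ∧ η = orderOf ((Fintype.card F : ℕ) : ZMod r)) ∨
      (Even (orderOf ((Fintype.card F : ℕ) : ZMod r)) ∧ 2 * η = orderOf ((Fintype.card F : ℕ) : ZMod r))) :
    (∃ g : ↥(Cfsg.isometryGroup F ⇑(oddQF n F)), g ∈ Cfsg.Omega F ⇑(oddQF n F) ∧ orderOf g = 2 * r) ↔
      (η + 1 ≤ n ∨ (η = n ∧ ((r ∣ Fintype.card F ^ n + 1 ∧ 4 ∣ Fintype.card F ^ n + 1) ∨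
        (r ∣ Fintype.card F ^ n - 1 ∧ 4 ∣ Fintype.card F ^ n - 1)))) := by
  have : Fact r.Prime := ⟨hr⟩
  obtain ⟨hk1, hkd, hrF⟩ := Cfsg.Agent.S2469.prime_facts (F := F) p r hr hrp
  have hrodd : Odd r := hr.odd_of_ne_two hr2
  have hcop : Nat.Coprime 4 r := by
    have : Nat.Coprime (2 ^ 2) r := Nat.Coprime.pow_left 2 (Nat.coprime_two_left.mpr hrodd)
    exact this
  have hη0 : 0 < η := by rcases hη with ⟨-, he⟩ | ⟨-, he⟩ <;> omega
  have hsign := sign_dvd r hr η hη0 hkd hη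
  constructor
  · rintro ⟨g, hg, hord⟩
    have hS := card_sphere_odd (F := F) h2 n
    rw [← oddQF_coe] at hS
    rcases upperD_grp h2 hq (oddQF n F) (oddQF_nondeg n F h2) n hn (card_idx n) hS r hr2 hrF η hη
      g hg hord with h | ⟨h, h3, h4⟩
    · exact Or.inl h
    · right
      subst h
      refine ⟨rfl, ?_⟩
      have h1 : 1 ≤ Fintype.card F ^ η := Nat.one_le_pow _ _ hq.pos
      rcases hsign with h | h
      · right; exact ⟨h, by have := h4 h; omega⟩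
      · left; exact ⟨h, by have := h3 h; omega⟩
  · rintro (hle | ⟨rfl, ⟨h3, h4⟩ | ⟨h3, h4⟩⟩)
    · have h1 := realS_sum _ _ _ _
        (realS_torus (F := F) p 1 one_pos 4 (four_dvd hq)) (realS_torus (F := F) p η hη0 r hsign)
      rw [hcop.lcm_eq_mul] at h1
      exact exists_Omega_four h2 n _ _ (by omega) hr.pos h1
    · exact exists_Omega_four h2 η _ _ (by omega) hr.pos
        (realS_torus (F := F) p η hη0 (4 * r) (Or.inr (hcop.mul_dvd_of_dvd_of_dvd h4 h3)))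
    · exact exists_Omega_four h2 η _ _ (by omega) hr.pos
        (realS_torus (F := F) p η hη0 (4 * r) (Or.inl (hcop.mul_dvd_of_dvd_of_dvd h4 h3)))

end Cfsg.Agent.Lib.Helper42.SpecO
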