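import Mathlib
import Cfsg.Agent.Lib.Helper42.SpecO12
import Cfsg.Agent.Lib.Helper42.SpecO13
import Cfsg.Agent.S2469
import Cfsg.Agent.S2472

/-!
The prime graph of `PSp_{2n}(q)`, `q` odd: numerical adjacency criteria.
-/

set_option autoImplicit false
set_option linter.unusedSectionVars false

namespace Cfsg.Agent.Lib.Helper42.SpecPSp

open Matrix Module
open Cfsg.Agent.Lib.Helper42.PGraphL Cfsg.Agent.Lib.Helper42.PGraphS
open Cfsg.Agent.Lib.Helper42.SpecO (sign_dvd)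

variable {F : Type*} [Field F] [Fintype F]

theorem exists_prime_psp (p : ℕ) [Fact p.Prime] [CharP F p] (n : ℕ) (hn : 0 < n)
    (r : ℕ) (hr : r.Prime) (hr2 : r ≠ 2) (hrp : r ≠ p) (η : ℕ) (hηn : η ≤ n)
    (hη : (Odd (orderOf ((Fintype.card F : ℕ) : ZMod r)) ∧ η = orderOf ((Fintype.card F : ℕ) : ZMod r)) ∨
      (Even (orderOf ((Fintype.card F : ℕ) : ZMod r)) ∧ 2 * η = orderOf ((Fintype.card F : ℕ) : ZMod r))) :
    r ∣ Nat.card (Cfsg.PSp n F) := by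
  obtain ⟨hk1, hkd, hrF⟩ := Cfsg.Agent.S2469.prime_facts (F := F) p r hr hrp
  have hη0 : 0 < η := by rcases hη with ⟨-, he⟩ | ⟨-, he⟩ <;> omega
  obtain ⟨u, rfl⟩ : ∃ u, n = η + u := ⟨n - η, by omega⟩
  obtain ⟨g, hg⟩ := exists_psp_of_odd (F := F) (η + u) hn r (hr.odd_of_ne_two hr2)
    (exists_pad η u r (torus_dvd p η hη0 r (sign_dvd r hr η hη0 hkd hη)))
  rw [← hg]
  exact orderOf_dvd_natCard g

theorem eta_le_psp (p : ℕ) [Fact p.Prime] [CharP F p] (n : ℕ) (hn : 0 < n)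
    (s : ℕ) (hs : s.Prime) (hs2 : s ≠ 2) (hsp : s ≠ p) (η : ℕ)
    (hη : (Odd (orderOf ((Fintype.card F : ℕ) : ZMod s)) ∧ η = orderOf ((Fintype.card F : ℕ) : ZMod s)) ∨
      (Even (orderOf ((Fintype.card F : ℕ) : ZMod s)) ∧ 2 * η = orderOf ((Fintype.card F : ℕ) : ZMod s)))
    (g : Cfsg.PSp n F) (hg : orderOf g = s) : η ≤ n := by
  have : Fact s.Prime := ⟨hs⟩
  obtain ⟨hk1, hkd, hsF⟩ := Cfsg.Agent.S2469.prime_facts (F := F) p s hs hsp
  obtain ⟨Y, hYs, hY⟩ := Cfsg.Agent.S2469.lift_odd n hn s (hs.odd_of_ne_two hs2) g hg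
  have h1 := finrank_W_ge s hs2 hsF Y hYs ((hY s).mpr dvd_rfl)
    (fun h => hs.one_lt.ne' (Nat.dvd_one.mp ((hY 1).mp (by rw [pow_one, h])))) η hη
  have h2 := Submodule.finrank_le
    (LinearMap.ker (Matrix.mulVecLin (∑ i ∈ Finset.range s, Y ^ i)))
  rw [Module.finrank_fintype_fun_eq_card, Fintype.card_sum, Fintype.card_fin] at h2
  omega

theorem psp_A (p : ℕ) [Fact p.Prime] [CharP F p] (n : ℕ) (hn : 3 ≤ n)
    (r s : ℕ) (hr : r.Prime) (hs : s.Prime) (hr2 : r ≠ 2) (hs2 : s ≠ 2) (hrp : r ≠ p) (hsp : s ≠ p)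
    (hrs : r ≠ s)
    (k l ηk ηl : ℕ) (hk : k = orderOf ((Fintype.card F : ℕ) : ZMod r))
    (hl : l = orderOf ((Fintype.card F : ℕ) : ZMod s))
    (hηk : (Odd k ∧ ηk = k) ∨ (Even k ∧ 2 * ηk = k)) (hηl : (Odd l ∧ ηl = l) ∨ (Even l ∧ 2 * ηl = l))
    (hkl : ηk ≤ ηl) :
    (r * s ∈ Set.range (orderOf : Cfsg.PSp n F → ℕ)) ↔
      (ηl ≤ n ∧ (ηk + ηl ≤ n ∨ ∃ t, Odd t ∧ l = k * t)) := by
  constructor
  · rintro ⟨g, hg⟩
    have hrG : r ∣ Nat.card (Cfsg.PSp n F) :=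
      (dvd_mul_right r s).trans (hg ▸ orderOf_dvd_natCard g)
    have hsG : s ∣ Nat.card (Cfsg.PSp n F) :=
      (dvd_mul_left s r).trans (hg ▸ orderOf_dvd_natCard g)
    have h1 := Cfsg.Agent.S2469.result p n (by omega) (by omega) r s hr hs hr2 hs2 hrp hsp hrs hrG hsG
      k l ηk ηl hk hl hηk hηl hkl
    have hgs : orderOf (g ^ r) = s := by
      rw [orderOf_pow_of_dvd hr.ne_zero (by rw [hg]; exact dvd_mul_right r s), hg,
        Nat.mul_div_cancel_left _ hr.pos]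
    refine ⟨eta_le_psp p n (by omega) s hs hs2 hsp ηl (by rw [← hl]; exact hηl) (g ^ r) hgs, ?_⟩
    by_contra hcon
    push Not at hcon
    exact (h1.mpr ⟨by omega, by push Not; exact hcon.2⟩) ⟨g, hg⟩
  · rintro ⟨hln, h⟩
    have hrG := exists_prime_psp (F := F) p n (by omega) r hr hr2 hrp ηk (by omega)
      (by rw [← hk]; exact hηk)
    have hsG := exists_prime_psp (F := F) p n (by omega) s hs hs2 hsp ηl hln
      (by rw [← hl]; exact hηl)
    have h1 := Cfsg.Agent.S2469.result p n (by omega) (by omega) r s hr hs hr2 hs2 hrp hsp hrs hrG hsG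
      k l ηk ηl hk hl hηk hηl hkl
    by_contra hno
    obtain ⟨h3, h4⟩ := h1.mp hno
    rcases h with h | h
    · omega
    · exact h4 h

theorem psp_B (p : ℕ) [Fact p.Prime] [CharP F p] (n : ℕ) (hn : 3 ≤ n)
    (r : ℕ) (hr : r.Prime) (hr2 : r ≠ 2) (hrp : r ≠ p) (η : ℕ)
    (hη : (Odd (orderOf ((Fintype.card F : ℕ) : ZMod r)) ∧ η = orderOf ((Fintype.card F : ℕ) : ZMod r)) ∨
      (Even (orderOf ((Fintype.card F : ℕ) : ZMod r)) ∧ 2 * η = orderOf ((Fintype.card F : ℕ) : ZMod r))) :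
    (r * p ∈ Set.range (orderOf : Cfsg.PSp n F → ℕ)) ↔ η + 1 ≤ n := by
  constructor
  · rintro ⟨g, hg⟩
    have hrG : r ∣ Nat.card (Cfsg.PSp n F) :=
      (dvd_mul_right r p).trans (hg ▸ orderOf_dvd_natCard g)
    have h1 := Cfsg.Agent.S2472.result p n (by omega) (by omega) r hr hr2 hrp hrG _ η rfl hη
    by_contra hcon
    exact (h1.mpr (by omega)) ⟨g, hg⟩
  · intro hle
    have hrG := exists_prime_psp (F := F) p n (by omega) r hr hr2 hrp η (by omega) hη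
    have h1 := Cfsg.Agent.S2472.result p n (by omega) (by omega) r hr hr2 hrp hrG _ η rfl hη
    by_contra hno
    have := h1.mp hno
    omega

theorem neg_one_pow_iff (h2 : (2 : F) ≠ 0) (d : ℕ) (hd : 0 < d) (j : ℕ) :
    (-1 : Matrix (Fin d ⊕ Fin d) (Fin d ⊕ Fin d) F) ^ j = 1 ↔ 2 ∣ j := by
  rcases Nat.even_or_odd j with h | h
  · rw [h.neg_one_pow]; simp [h.two_dvd]
  · rw [h.neg_one_pow]
    constructor
    · intro h'; exact absurd h'.symm (one_ne_neg_one hd h2)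
    · intro h'; exact absurd (even_iff_two_dvd.mpr h') (Nat.not_even_iff_odd.mpr h)

theorem psp_C (p : ℕ) [Fact p.Prime] [CharP F p] (hp2 : p ≠ 2) (n : ℕ) (hn : 2 ≤ n) :
    2 * p ∈ Set.range (orderOf : Cfsg.PSp n F → ℕ) := by
  have hp : p.Prime := Fact.out
  have h2 := two_ne_zero_of_char (F := F) p hp2
  have hpodd : Odd p := hp.odd_of_ne_two hp2
  obtain ⟨d, rfl⟩ : ∃ d, n = d + 1 := ⟨n - 1, by omega⟩
  have hclog : Nat.clog p (2 * 1) = 1 := Nat.clog_eq_one (by norm_num) (by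
    have := hp.two_le; omega)
  have hu := exists_unipotent_sp (F := F) p hp2 1 one_pos
  rw [hclog, pow_one] at hu
  exact exists_sum_psp h2 d 1 one_pos 2 p (Nat.coprime_two_left.mpr hpodd) hpodd
    ⟨-1, neg_one_mem, neg_one_pow_iff h2 d (by omega)⟩ hu

theorem psp_D (p : ℕ) [Fact p.Prime] [CharP F p] (hp2 : p ≠ 2) (n : ℕ) (hn : 1 ≤ n)
    (r : ℕ) (hr : r.Prime) (hr2 : r ≠ 2) (hrp : r ≠ p) (η : ℕ)
    (hη : (Odd (orderOf ((Fintype.card F : ℕ) : ZMod r)) ∧ η = orderOf ((Fintype.card F : ℕ) : ZMod r)) ∨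
      (Even (orderOf ((Fintype.card F : ℕ) : ZMod r)) ∧ 2 * η = orderOf ((Fintype.card F : ℕ) : ZMod r))) :
    (2 * r ∈ Set.range (orderOf : Cfsg.PSp n F → ℕ)) ↔
      (η + 1 ≤ n ∨ (η = n ∧ ((r ∣ Fintype.card F ^ n + 1 ∧ 4 ∣ Fintype.card F ^ n + 1) ∨
        (r ∣ Fintype.card F ^ n - 1 ∧ 4 ∣ Fintype.card F ^ n - 1)))) := by
  have : Fact r.Prime := ⟨hr⟩
  have h2 := two_ne_zero_of_char (F := F) p hp2
  obtain ⟨hk1, hkd, hrF⟩ := Cfsg.Agent.S2469.prime_facts (F := F) p r hr hrp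
  have hrodd : Odd r := hr.odd_of_ne_two hr2
  have hcop : Nat.Coprime 4 r := by
    have : Nat.Coprime (2 ^ 2) r := Nat.Coprime.pow_left 2 (Nat.coprime_two_left.mpr hrodd)
    exact this
  have hη0 : 0 < η := by rcases hη with ⟨-, he⟩ | ⟨-, he⟩ <;> omega
  have hsign := sign_dvd r hr η hη0 hkd hη
  constructor
  · rintro ⟨g, hg⟩
    exact upperD_sp p hp2 hn r hr2 hrp η hη g hg
  · rintro (hle | ⟨rfl, ⟨h3, h4⟩ | ⟨h3, h4⟩⟩)
    · obtain ⟨d, rfl⟩ : ∃ d, n = d + η := ⟨n - η, by omega⟩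
      obtain ⟨X, hX, hXj⟩ := torus_dvd (F := F) p η hη0 r hsign
      have hord : orderOf X = r := by
        apply Nat.dvd_antisymm
        · rw [orderOf_dvd_iff_pow_eq_one, hXj]
        · rw [← hXj, pow_orderOf_eq_one]
      exact exists_sum_psp h2 d η hη0 2 r (Nat.coprime_two_left.mpr hrodd) hrodd
        ⟨-1, neg_one_mem, neg_one_pow_iff h2 d (by omega)⟩ ⟨X, hX, hord⟩
    · have h5 : 4 * r ∣ Fintype.card F ^ η + 1 := hcop.mul_dvd_of_dvd_of_dvd h4 h3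
      obtain ⟨c, hc⟩ := h5
      have h6 := exists_half_psp (F := F) η hη0 (Fintype.card F ^ η + 1) ⟨2 * r * c, by rw [hc]; ring⟩
        (exists_torus_plus p hp2 η hη0)
      refine Cfsg.Agent.S2510.exists_of_dvd h6 ⟨c, ?_⟩
      rw [hc]
      apply Nat.div_eq_of_eq_mul_right (by norm_num)
      ring
    · have h5 : 4 * r ∣ Fintype.card F ^ η - 1 := hcop.mul_dvd_of_dvd_of_dvd h4 h3
      obtain ⟨c, hc⟩ := h5
      have h6 := exists_half_psp (F := F) η hη0 (Fintype.card F ^ η - 1) ⟨2 * r * c, by rw [hc]; ring⟩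
        (exists_torus_minus p η hη0)
      refine Cfsg.Agent.S2510.exists_of_dvd h6 ⟨c, ?_⟩
      rw [hc]
      apply Nat.div_eq_of_eq_mul_right (by norm_num)
      ring

end Cfsg.Agent.Lib.Helper42.SpecPSp
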